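import Cfsg.Agent.Lib.Lead.AltEightLocal.CentB
import Cfsg.Agent.S0208
import Cfsg.Agent.S0209

/-!
The centraliser of an involution with fixed points lies in the copy, and the copy is everything.
-/

set_option autoImplicit false
set_option maxRecDepth 100000
set_option linter.style.haveILetI false

namespace Cfsg.Agent.Lead.AltEightLocal

open Subgroup Equiv
open scoped Pointwise

/-- pairs as elements of the alternating group -/
def eJ (σ τ : P4) (h : Perm.sign σ = Perm.sign τ) : alternatingGroup (Fin 8) :=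
  ⟨JJ (σ, τ), isA8.2 ((even_JJ σ τ).2 h)⟩

variable {G : Type*} [Group G] [Finite G] {d : Data G} (c : Glue.Copy d)

namespace Glue.Copy

theorem θJ_comm {σ τ σ' τ' : P4} (h : Perm.sign σ = Perm.sign τ) (h' : Perm.sign σ' = Perm.sign τ')
    (e1 : σ * σ' = σ' * σ) (e2 : τ * τ' = τ' * τ) : Commute (c.θ (eJ σ τ h)) (c.θ (eJ σ' τ' h')) :=
  c.commute_iff.2 ((show Commute (σ, τ) (σ', τ') from Prod.ext e1 e2).map JJ).eq

theorem θJ_iff {σ τ σ' τ' : P4} (h : Perm.sign σ = Perm.sign τ) (h' : Perm.sign σ' = Perm.sign τ') :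
    Commute (c.θ (eJ σ τ h)) (c.θ (eJ σ' τ' h')) ↔ σ * σ' = σ' * σ ∧ τ * τ' = τ' * τ := by
  refine ⟨fun hc => ?_, fun ⟨e1, e2⟩ => c.θJ_comm h h' e1 e2⟩
  have := c.commute_iff.1 hc
  simp only [eJ, ← map_mul] at this
  exact ⟨congrArg Prod.fst (JJ_inj this), congrArg Prod.snd (JJ_inj this)⟩

theorem θ_a : c.θ (eJ 1 cc (by decide +kernel)) = d.φ A0 := c.θa _ rfl

theorem θ_v : c.θ (eJ 1 vv (by decide +kernel)) = d.φ A1 := c.θv _ rfl

/-- centralisers of the involutions without fixed points -/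
theorem CB' (x : alternatingGroup (Fin 8)) (h2 : x * x = 1) (hf : ∀ i, (x : Perm (Fin 8)) i ≠ i) {g : G}
    (hg : Commute g (c.θ x)) : g ∈ c.K := by
  obtain ⟨u, hu⟩ := invol_b x h2 hf
  have e : c.θ u * c.θ x * (c.θ u)⁻¹ = c.Bg := by
    rw [← map_inv, ← map_mul, ← map_mul]; exact congrArg c.θ (Subtype.ext hu)
  have h := hg.map (MulAut.conj (c.θ u)).toMonoidHom
  simp only [MulEquiv.coe_toMonoidHom, MulAut.conj_apply, e] at h
  have hm := mul_mem (mul_mem (inv_mem (show c.θ u ∈ c.K from ⟨u, rfl⟩))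
    (c.CB_K (mem_centralizer_singleton_iff.2 h.eq))) (show c.θ u ∈ c.K from ⟨u, rfl⟩)
  rwa [show (c.θ u)⁻¹ * (c.θ u * g * (c.θ u)⁻¹) * c.θ u = g by group] at hm

/-- a subgroup with a small centraliser of an isolated involution -/
theorem closed (X : Subgroup G) (B f : alternatingGroup (Fin 8))
    (hB2 : B * B = 1) (hBf : ∀ i, (B : Perm (Fin 8)) i ≠ i) (hBX : c.θ B ∈ X)
    (hf2 : f * f = 1) (hff : ∀ i, (f : Perm (Fin 8)) i ≠ i) (hBc : B * f = f * B) (hne : B ≠ f)
    (hfX : ∀ g ∈ X, c.θ f * g * c.θ f ∈ X)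
    (hcomm : ∀ u ∈ X, Commute u (c.θ B) → ∀ v ∈ X, Commute v (c.θ B) → Commute u v)
    (hpow : ∀ u ∈ X, Commute u (c.θ B) → u ^ 4 = 1)
    (huniq : ∀ u ∈ X, Commute u (c.θ B) → u * u = 1 → u ≠ 1 → ¬ d.IsA u → u = c.θ B)
    (hlast : ∀ g ∈ X, Commute g (c.θ (B * f)) → g ∈ c.K) : X ≤ c.K := by
  haveI : Fact (Nat.Prime 2) := ⟨Nat.prime_two⟩
  set S := centralizer ({⟨c.θ B, hBX⟩} : Set X) with hS
  have hSm : ∀ {u : X}, u ∈ S ↔ Commute (u : G) (c.θ B) := fun {u} =>
    ⟨fun h => congrArg Subtype.val (mem_centralizer_singleton_iff.1 h),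
      fun h => mem_centralizer_singleton_iff.2 (Subtype.ext h.eq)⟩
  have hS2 : IsPGroup 2 S := fun u => ⟨2, Subtype.ext (Subtype.ext (hpow _ (u : X).2 (hSm.1 u.2)))⟩
  have hB1 : B ≠ 1 := fun e => hBf 0 (by rw [e]; rfl)
  have hBA : ¬ d.IsA (c.θ B) := fun h => by
    obtain ⟨i, hi⟩ := (c.isA_fix B hB2 hB1).1 h; exact hBf i hi
  have hNS : ∀ g : X, g ∈ normalizer (S : Set X) → g ∈ S := by
    intro g hg
    have hm := (Subgroup.mem_normalizer_iff.1 hg ⟨c.θ B, hBX⟩).1 (hSm.2 (Commute.refl _))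
    have e := huniq _ (g * ⟨c.θ B, hBX⟩ * g⁻¹).2 (hSm.1 hm) (by
      show (g : G) * c.θ B * (g : G)⁻¹ * ((g : G) * c.θ B * (g : G)⁻¹) = 1
      calc (g : G) * c.θ B * (g : G)⁻¹ * ((g : G) * c.θ B * (g : G)⁻¹) = (g : G) * (c.θ B * c.θ B) * (g : G)⁻¹ := by group
        _ = 1 := by rw [← map_mul, hB2, map_one, mul_one, mul_inv_cancel]) (by
      show (g : G) * c.θ B * (g : G)⁻¹ ≠ 1
      exact fun h => hB1 (c.inj ((conj_eq_one_iff.1 h).trans (map_one c.θ).symm))) (fun h => hBA (by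
        have h' : d.IsA ((g : G) * c.θ B * (g : G)⁻¹) := h
        have := d.isA_conj h' (g : G)⁻¹
        rwa [show (g : G)⁻¹ * ((g : G) * c.θ B * (g : G)⁻¹) * (g : G)⁻¹⁻¹ = c.θ B by group] at this))
    exact hSm.2 (mul_inv_eq_iff_eq_mul.1 (e : (g : G) * c.θ B * (g : G)⁻¹ = c.θ B))
  obtain ⟨P, hP⟩ := hS2.exists_le_sylow
  have hSP : S = (P : Subgroup X) := by
    by_contra hne
    haveI := P.2.isNilpotent
    have hlt : S.subgroupOf (P : Subgroup X) < ⊤ :=
      lt_top_iff_ne_top.2 fun h => hne (le_antisymm hP (subgroupOf_eq_top.1 h))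
    obtain ⟨g, hgN, hgS⟩ := SetLike.exists_of_lt (Group.normalizerCondition_of_isNilpotent _ hlt)
    refine hgS (hNS g (Subgroup.mem_normalizer_iff.2 fun t => ?_))
    constructor
    · exact fun ht => (Subgroup.mem_normalizer_iff.1 hgN ⟨t, hP ht⟩).1 ht
    · intro ht
      have htP : t ∈ (P : Subgroup X) := by
        have := mul_mem (mul_mem (inv_mem g.2) (hP ht)) g.2
        rwa [show (g : X)⁻¹ * ((g : X) * t * (g : X)⁻¹) * g = t by group] at this
      exact (Subgroup.mem_normalizer_iff.1 hgN ⟨t, htP⟩).2 ht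
  have hPC : normalizer ((P : Subgroup X) : Set X) ≤ centralizer ((P : Subgroup X) : Set X) := by
    rw [← hSP]
    intro g hg
    rw [mem_centralizer_iff]
    exact fun v hv => Subtype.ext (hcomm _ v.2 (hSm.1 hv) _ g.2 (hSm.1 (hNS g hg))).eq
  set O0 := (MonoidHom.transferSylow P hPC).ker with hO0
  have hcompl := MonoidHom.ker_transferSylow_isComplement' P hPC
  have hcop : (Nat.card O0).Coprime 2 := by
    rw [Nat.coprime_comm, Nat.prime_two.coprime_iff_not_dvd, ← hcompl.index_eq_card]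
    exact P.not_dvd_index
  have hodd : ∀ u : X, (orderOf u).Coprime 2 → u ∈ O0 := by
    intro u hu
    rw [hO0, MonoidHom.mem_ker, ← orderOf_eq_one_iff]
    obtain ⟨k, hk⟩ := IsPGroup.iff_card.1 P.2
    refine Nat.dvd_one.1 ?_
    rw [← (hu.pow_right k : Nat.Coprime _ _).gcd_eq_one]
    exact Nat.dvd_gcd (orderOf_map_dvd _ _) ((_root_.orderOf_dvd_natCard _).trans (dvd_of_eq hk))
  set O := O0.map X.subtype with hO
  have hOcop : (Nat.card O).Coprime 2 := by rwa [hO, card_map_of_injective X.subtype_injective]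
  have hFX : ∀ g ∈ X, c.θ B * g * c.θ B ∈ X := fun g hg => mul_mem (mul_mem hBX hg) hBX
  have hinvol : ∀ u : alternatingGroup (Fin 8), u * u = 1 → (∀ g ∈ X, c.θ u * g * c.θ u ∈ X) →
      c.θ u ∈ normalizer (O : Set G) := by
    intro u hu hX
    have huu : c.θ u * c.θ u = 1 := by rw [← map_mul, hu, map_one]
    have key : ∀ g ∈ O, c.θ u * g * c.θ u ∈ O := by
      rintro _ ⟨g, hg, rfl⟩
      refine ⟨⟨_, hX g g.2⟩, hodd _ ?_, rfl⟩
      have e : orderOf (c.θ u * (g : G) * c.θ u) = orderOf (g : G) := by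
        rw [← MulEquiv.orderOf_eq (MulAut.conj (c.θ u)) (g : G), MulAut.conj_apply, inv_eq_of_mul_eq_one_right huu]
      rw [Subgroup.orderOf_mk, e, Subgroup.orderOf_coe]
      exact Nat.Coprime.coprime_dvd_left (Subgroup.orderOf_dvd_natCard _ hg) hcop
    rw [Subgroup.mem_normalizer_iff]
    intro g
    rw [inv_eq_of_mul_eq_one_right huu]
    refine ⟨key g, fun h => ?_⟩
    have := key _ h
    rwa [show c.θ u * (c.θ u * g * c.θ u) * c.θ u = (c.θ u * c.θ u) * g * (c.θ u * c.θ u) by group, huu, one_mul,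
      mul_one] at this
  set F := closure ({c.θ B, c.θ f} : Set G) with hF
  have hFc : Commute (c.θ B) (c.θ f) := (show Commute B f from hBc).map c.θ
  haveI : IsMulCommutative F := Subgroup.isMulCommutative_closure (by
    rintro u (rfl | rfl) v (rfl | rfl)
    · rfl
    · exact hFc.eq
    · exact hFc.symm.eq
    · rfl)
  have hFel : ∀ u ∈ F, u = 1 ∨ u = c.θ B ∨ u = c.θ f ∨ u = c.θ (B * f) := by
    intro u hu
    have eBB : c.θ B * c.θ B = 1 := by rw [← map_mul, hB2, map_one]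
    have eff : c.θ f * c.θ f = 1 := by rw [← map_mul, hf2, map_one]
    induction hu using closure_induction with
    | mem v hv => rcases hv with rfl | rfl <;> simp
    | one => simp
    | inv v _ hv =>
      rcases hv with rfl | rfl | rfl | rfl
      · simp
      · rw [inv_eq_of_mul_eq_one_right eBB]; simp
      · rw [inv_eq_of_mul_eq_one_right eff]; simp
      · rw [map_mul, mul_inv_rev, inv_eq_of_mul_eq_one_right eff, inv_eq_of_mul_eq_one_right eBB, ← hFc.eq]; simp
    | mul v w _ _ hv hw =>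
      have e3 : c.θ f * c.θ B = c.θ B * c.θ f := hFc.symm.eq
      have e1 : c.θ B * (c.θ B * c.θ f) = c.θ f := by rw [← mul_assoc, eBB, one_mul]
      have e2 : c.θ f * (c.θ B * c.θ f) = c.θ B := by rw [← mul_assoc, e3, mul_assoc, eff, mul_one]
      have e4 : c.θ B * c.θ f * c.θ B = c.θ f := by rw [mul_assoc, e3, e1]
      have e5 : c.θ B * c.θ f * c.θ f = c.θ B := by rw [mul_assoc, eff, mul_one]
      have e6 : c.θ B * c.θ f * (c.θ B * c.θ f) = 1 := by rw [← mul_assoc, e4, eff]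
      rcases hv with rfl | rfl | rfl | rfl <;> rcases hw with rfl | rfl | rfl | rfl <;>
        simp [map_mul, eBB, eff, e1, e2, e3, e4, e5, e6]
  have hnc : ¬ IsCyclic F := by
    intro h
    obtain ⟨u, hu⟩ := h.exists_generator
    have hsq : (u : G) * u = 1 := by
      rcases hFel u u.2 with e | e | e | e <;> rw [e]
      · rw [one_mul]
      · rw [← map_mul, hB2, map_one]
      · rw [← map_mul, hf2, map_one]
      · rw [← map_mul, show B * f * (B * f) = (B * B) * (f * f) by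
          rw [mul_assoc B f, ← mul_assoc f B f, ← hBc]; group, hB2, hf2, one_mul, map_one]
    have h2 : Nat.card F ≤ 2 := by
      rw [← orderOf_eq_card_of_forall_mem_zpowers hu]
      exact orderOf_le_of_pow_eq_one two_pos (by rw [pow_two]; exact Subtype.ext hsq)
    let g3 : Fin 3 → F := ![1, ⟨c.θ B, subset_closure (Set.mem_insert _ _)⟩, ⟨c.θ f, subset_closure (Set.mem_insert_of_mem _ rfl)⟩]
    have hinj : Function.Injective g3 := by
      have k1 : c.θ B ≠ 1 := fun e => hB1 (c.inj (e.trans (map_one c.θ).symm))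
      have k2 : c.θ f ≠ 1 := fun e => hff 0 (by rw [c.inj (e.trans (map_one c.θ).symm)]; rfl)
      have k3 : c.θ B ≠ c.θ f := fun e => hne (c.inj e)
      intro i j e
      have e' := congrArg (fun v : F => (v : G)) e
      fin_cases i <;> fin_cases j <;>
        simp [g3, k1, k2, k3, Ne.symm k1, Ne.symm k2, Ne.symm k3] at e' ⊢
    have := Nat.card_le_card_of_injective g3 hinj
    rw [Nat.card_fin] at this
    omega
  have hFN : F ≤ normalizer (O : Set G) := by
    rw [hF, closure_le]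
    rintro u (rfl | rfl)
    · exact hinvol B hB2 hFX
    · exact hinvol f hf2 hfX
  have hF2 : IsPGroup 2 F := fun u => ⟨1, Subtype.ext (by
    show (u : G) ^ 2 ^ 1 = 1
    rw [pow_one, pow_two]
    rcases hFel u u.2 with e | e | e | e <;> rw [e]
    · rw [one_mul]
    · rw [← map_mul, hB2, map_one]
    · rw [← map_mul, hf2, map_one]
    · rw [← map_mul, show B * f * (B * f) = (B * B) * (f * f) by
        rw [mul_assoc B f, ← mul_assoc f B f, ← hBc]; group, hB2, hf2, one_mul, map_one])⟩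
  obtain ⟨k, hk⟩ := IsPGroup.iff_card.1 hF2
  have hOK : O ≤ c.K := by
    rw [← S0058.result F O hnc hFN (by rw [hk]; exact (Nat.coprime_comm.1 hOcop).pow_left k)]
    refine iSup₂_le fun a ha g hg => ?_
    have hgc : Commute g a := mem_centralizer_singleton_iff.1 hg.2
    rcases hFel a ha.1 with e | e | e | e
    · exact absurd e ha.2
    · exact c.CB' B hB2 hBf (e ▸ hgc)
    · exact c.CB' f hf2 hff (e ▸ hgc)
    · exact hlast g ((map_subtype_le O0) hg.1) (e ▸ hgc)
  intro g hg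
  obtain ⟨⟨o, p⟩, hop, -⟩ := hcompl.existsUnique (⟨g, hg⟩ : X)
  have e : g = ((o : X) : G) * ((p : X) : G) := (congrArg Subtype.val hop).symm
  rw [e]
  refine mul_mem (hOK ⟨o, o.2, rfl⟩) (c.CB' B hB2 hBf ?_)
  exact hSm.1 (hSP.symm ▸ p.2)

/-- special pairs -/
def eX (k : Fin 3) (s : Fin 2) (m : Fin 4) : alternatingGroup (Fin 8) :=
  eJ (TR k s) (TAU m) (special_comm k s m).1

theorem cc_even : Perm.sign cc = 1 := by decide +kernel
theorem vv_even : Perm.sign vv = 1 := by decide +kernel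

theorem special_K (k : Fin 3) (s : Fin 2) (m : Fin 4) :
    centralizer ({d.φ A0, c.θ (eX k s m)} : Set G) ≤ c.K := by
  obtain ⟨hs, hτ, hTD, hD2, hDs, hconj⟩ := special_comm k s m
  set a := eJ 1 cc (by decide +kernel) with ha
  set x := eX k s m with hx
  set B := eJ (DD k) cc (by rw [hDs, cc_even]) with hB
  set f := eJ (DD k) vv (by rw [hDs, vv_even]) with hf
  have ea : c.θ a = d.φ A0 := c.θ_a
  have memX : ∀ {g : G}, g ∈ centralizer ({d.φ A0, c.θ x} : Set G) ↔ Commute g (d.φ A0) ∧ Commute g (c.θ x) := by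
    intro g
    simp only [mem_centralizer_iff, Set.mem_insert_iff, Set.mem_singleton_iff, forall_eq_or_imp, forall_eq]
    exact and_congr ⟨Eq.symm, Eq.symm⟩ ⟨Eq.symm, Eq.symm⟩
  have hcc : cc * cc = 1 := by decide +kernel
  have hvv : vv * vv = 1 := by decide +kernel
  have hcv : cc * vv = vv * cc := by decide +kernel
  have nofix : ∀ τ : P4, (∀ i, τ i ≠ i) → ∀ (h : Perm.sign (DD k) = Perm.sign τ) (i : Fin 8),
      (eJ (DD k) τ h : Perm (Fin 8)) i ≠ i := by
    intro τ hτf h i hi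
    rcases (JJ_fix _ _).1 ⟨i, hi⟩ with ⟨u, hu⟩ | ⟨u, hu⟩
    · exact DD_nofix k u hu
    · exact hτf u hu
  have sq : ∀ σ τ : P4, σ * σ = 1 → τ * τ = 1 → ∀ h, eJ σ τ h * eJ σ τ h = 1 := fun σ τ e1 e2 h =>
    Subtype.ext (by show JJ (σ, τ) * JJ (σ, τ) = 1; rw [← map_mul, Prod.mk_mul_mk, e1, e2, ← Prod.one_eq_mk, map_one])
  have shape : ∀ u ∈ centralizer ({d.φ A0, c.θ x} : Set G), Commute u (c.θ B) →
      ∃ i j l : Fin 2, ∃ h, u = c.θ (eJ (TR k s ^ j.val * DD k ^ l.val) (cc ^ i.val * TAU m ^ j.val) h) := by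
    intro u hu huB
    obtain ⟨hua, hux⟩ := memX.1 hu
    have huK : u ∈ c.K := c.CB' B (sq _ _ hD2 hcc _) (nofix cc (by decide +kernel) _) huB
    obtain ⟨u0, rfl⟩ := huK
    rw [← ea] at hua
    obtain ⟨σ, τ, e, hτc⟩ := range_JJ (c.commute_iff.1 hua)
    have hsg : Perm.sign σ = Perm.sign τ := (even_JJ σ τ).1 (e ▸ isA8.1 u0.2)
    have eu : u0 = eJ σ τ hsg := Subtype.ext e
    rw [eu] at hux huB ⊢
    obtain ⟨h1, h2⟩ := (c.θJ_iff hsg _).1 hux
    obtain ⟨h3, -⟩ := (c.θJ_iff hsg _).1 huB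
    obtain ⟨i, j, l, rfl, rfl⟩ := special_cent k s m σ τ hsg hτc h1 h2 h3
    exact ⟨i, j, l, hsg, rfl⟩
  refine c.closed _ B f (sq _ _ hD2 hcc _) (nofix cc (by decide +kernel) _) ?_ (sq _ _ hD2 hvv _)
    (nofix vv (by decide +kernel) _) (Subtype.ext ((show Commute (DD k, cc) (DD k, vv) from Prod.ext rfl hcv).map JJ).eq)
    (fun e => absurd (congrArg Prod.snd (JJ_inj (congrArg Subtype.val e))) (by show cc ≠ vv; decide +kernel)) ?_ ?_ ?_ ?_ ?_
  · refine memX.2 ⟨ea ▸ c.θJ_comm _ _ (by rw [one_mul, mul_one]) rfl, c.θJ_comm _ _ hTD.symm hτ.symm⟩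
  · intro g hg
    obtain ⟨hga, hgx⟩ := memX.1 hg
    have hff : c.θ f * c.θ f = 1 := by rw [← map_mul, sq _ _ hD2 hvv _, map_one]
    have hfi : (c.θ f)⁻¹ = c.θ f := inv_eq_of_mul_eq_one_right hff
    have conj : ∀ t : G, Commute g (c.θ f * t * c.θ f) → Commute (c.θ f * g * c.θ f) t := fun t h => by
      have := h.map (MulAut.conj (c.θ f)).toMonoidHom
      simp only [MulEquiv.coe_toMonoidHom, MulAut.conj_apply, hfi] at this
      rwa [show c.θ f * (c.θ f * t * c.θ f) * c.θ f = (c.θ f * c.θ f) * t * (c.θ f * c.θ f) by group, hff, one_mul,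
        mul_one] at this
    refine memX.2 ⟨conj _ ?_, conj _ ?_⟩
    · have hc : Commute (c.θ f) (d.φ A0) := ea ▸ c.θJ_comm _ _ (by rw [one_mul, mul_one]) hcv.symm
      rwa [hc.eq, mul_assoc, hff, mul_one]
    · rcases hconj with ⟨e1, e2⟩ | ⟨e1, e2⟩
      · have : f * x * f = x := Subtype.ext (by
          show JJ (DD k, vv) * JJ (TR k s, TAU m) * JJ (DD k, vv) = JJ (TR k s, TAU m)
          rw [← map_mul, ← map_mul, Prod.mk_mul_mk, Prod.mk_mul_mk, e1, e2])
        rw [← map_mul, ← map_mul, this]; exact hgx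
      · have : f * x * f = a * x := Subtype.ext (by
          show JJ (DD k, vv) * JJ (TR k s, TAU m) * JJ (DD k, vv) = JJ (1, cc) * JJ (TR k s, TAU m)
          rw [← map_mul, ← map_mul, ← map_mul, Prod.mk_mul_mk, Prod.mk_mul_mk, Prod.mk_mul_mk, e1, e2, one_mul])
        rw [← map_mul, ← map_mul, this, map_mul, ea]; exact hga.mul_right hgx
  · intro u hu huB v hv hvB
    obtain ⟨i, j, l, h, rfl⟩ := shape u hu huB
    obtain ⟨i', j', l', h', rfl⟩ := shape v hv hvB
    have hc : Commute (TR k s) (DD k) := hTD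
    have hc' : Commute cc (TAU m) := hτ.symm
    refine c.θJ_comm h h' ?_ ?_
    · exact (((Commute.refl _).pow_pow _ _).mul_right (hc.pow_pow _ _)).mul_left
        ((hc.symm.pow_pow _ _).mul_right ((Commute.refl _).pow_pow _ _))
    · exact (((Commute.refl _).pow_pow _ _).mul_right (hc'.pow_pow _ _)).mul_left
        ((hc'.symm.pow_pow _ _).mul_right ((Commute.refl _).pow_pow _ _))
  · intro u hu huB
    obtain ⟨i, j, l, h, rfl⟩ := shape u hu huB
    obtain ⟨e1, e2, -⟩ := special_list k s m i j l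
    rw [← map_pow, ← map_one c.θ]
    congr 1
    refine Subtype.ext ?_
    show JJ _ ^ 4 = 1
    rw [← map_pow, Prod.pow_mk, e1, e2, ← Prod.one_eq_mk, map_one]
  · intro u hu huB h2 h1 hA
    obtain ⟨i, j, l, h, rfl⟩ := shape u hu huB
    set σ := TR k s ^ j.val * DD k ^ l.val with hσ
    set τ := cc ^ i.val * TAU m ^ j.val with hτdef
    have hsq : eJ σ τ h * eJ σ τ h = 1 := c.inj (by rw [map_mul, h2, map_one])
    have hne : eJ σ τ h ≠ 1 := fun e => h1 (by rw [e, map_one])
    have hnf : ∀ a, (eJ σ τ h : Perm (Fin 8)) a ≠ a := fun a ha => hA ((c.isA_fix _ hsq hne).2 ⟨a, ha⟩)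
    have hp : (σ, τ) * (σ, τ) = (1 : P4 × P4) := JJ_inj (by rw [map_mul, map_one]; exact congrArg Subtype.val hsq)
    obtain ⟨-, -, e⟩ := special_list k s m i j l
    obtain ⟨e1, e2⟩ := e (fun a ha => hnf _ (by show JJ (σ, τ) (e44 (Sum.inl a)) = _; rw [JJ_inl, ha]))
      (fun a ha => hnf _ (by show JJ (σ, τ) (e44 (Sum.inr a)) = _; rw [JJ_inr, ha]))
      (congrArg Prod.fst hp) (congrArg Prod.snd hp)
    congr 1
    refine Subtype.ext ?_
    show JJ (σ, τ) = JJ (DD k, cc)
    rw [show σ = DD k from e1, show τ = cc from e2]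
  · intro g hg hgc
    refine c.CV_K (d.mem_CV.2 ⟨(memX.1 hg).1, ?_⟩)
    have e : c.θ (B * f) = d.φ A0 * d.φ A1 := by
      rw [← ea, ← c.θ_v, ← map_mul]
      congr 1
      refine Subtype.ext ?_
      show JJ (DD k, cc) * JJ (DD k, vv) = JJ (1, cc) * JJ (1, vv)
      rw [← map_mul, ← map_mul, Prod.mk_mul_mk, Prod.mk_mul_mk, hD2, one_mul]
    rw [e] at hgc
    have hA : d.φ A0 * d.φ A0 = 1 := by
      rw [← map_mul, show A0 * A0 = 1 from ext_PP (by decide) (by decide +kernel), map_one]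
    have := (memX.1 hg).1.mul_right hgc
    rwa [← mul_assoc, hA, one_mul] at this

/-- joint centralisers with a second involution -/
theorem invA (x : alternatingGroup (Fin 8)) (h2 : x * x = 1) (h1 : x ≠ 1) (hxa : c.θ x ≠ d.φ A0)
    (hc : Commute (c.θ x) (d.φ A0)) {g : G} (hga : Commute g (d.φ A0)) (hgx : Commute g (c.θ x)) : g ∈ c.K := by
  by_cases hf : ∀ i, (x : Perm (Fin 8)) i ≠ i
  · exact c.CB' x h2 hf hgx
  rw [← c.θ_a] at hc hxa
  set a := eJ 1 cc (by decide +kernel) with ha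
  have hax : (a * x) * (a * x) = 1 := by
    have e : (x : Perm (Fin 8)) * a = (a : Perm (Fin 8)) * x := c.commute_iff.1 hc
    have ha2 : a * a = 1 := Subtype.ext (by show JJ (1, cc) * JJ (1, cc) = 1; decide +kernel)
    calc a * x * (a * x) = a * (x * a) * x := by group
      _ = a * (a * x) * x := by rw [show x * a = a * x from Subtype.ext e]
      _ = (a * a) * (x * x) := by group
      _ = 1 := by rw [ha2, h2, one_mul]
  by_cases hf' : ∀ i, ((a * x : alternatingGroup (Fin 8)) : Perm (Fin 8)) i ≠ i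
  · exact c.CB' (a * x) hax hf' (by rw [map_mul, ha, c.θ_a]; exact hga.mul_right hgx)
  push Not at hf hf'
  obtain ⟨σ, τ, e, hτ⟩ := range_JJ (c.commute_iff.1 hc)
  have hs : Perm.sign σ = Perm.sign τ := (even_JJ σ τ).1 (e ▸ isA8.1 x.2)
  have hp : (σ, τ) * (σ, τ) = (1 : P4 × P4) := JJ_inj (by
    rw [map_mul, map_one, ← e]; exact congrArg Subtype.val h2)
  have hfix1 := (JJ_fix σ τ).1 (e ▸ hf)
  have hfix2 : (∃ i, σ i = i) ∨ ∃ i, (cc * τ) i = i := by
    refine (JJ_fix σ (cc * τ)).1 ?_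
    rw [show JJ (σ, cc * τ) = JJ (1, cc) * JJ (σ, τ) by rw [← map_mul, Prod.mk_mul_mk, one_mul], ← e]
    exact hf'
  have hx' : x = eJ σ τ hs := Subtype.ext e
  rcases cent_invol_classify σ τ hs hτ (congrArg Prod.fst hp) (congrArg Prod.snd hp) hfix1 hfix2 with
    ⟨rfl, e' | e' | e' | e'⟩ | ⟨k, s, rfl, e' | e'⟩
  · exact absurd (by rw [hx']; subst e'; exact Subtype.ext (map_one JJ)) h1
  · exact absurd (by rw [hx']; subst e'; rfl) hxa
  · refine c.CV_K (d.mem_CV.2 ⟨hga, ?_⟩)
    subst e'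
    rwa [hx', c.θ_v] at hgx
  · refine c.CV_K (d.mem_CV.2 ⟨hga, ?_⟩)
    subst e'
    have e2 : c.θ x = d.φ A0 * d.φ A1 := by
      rw [hx', ← c.θ_a, ← c.θ_v, ← map_mul]
      congr 1
      exact Subtype.ext (by show JJ (1, cc * vv) = JJ (1, cc) * JJ (1, vv); rw [← map_mul, Prod.mk_mul_mk, one_mul])
    rw [e2] at hgx
    have hA : d.φ A0 * d.φ A0 = 1 := by
      rw [← map_mul, show A0 * A0 = 1 from ext_PP (by decide) (by decide +kernel), map_one]
    have := hga.mul_right hgx
    rwa [← mul_assoc, hA, one_mul] at this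
  · subst e'
    refine c.special_K k s 0 ?_
    rw [mem_centralizer_iff]
    rintro v (rfl | rfl)
    · exact hga.eq.symm
    · rw [hx'] at hgx; exact hgx.eq.symm
  · subst e'
    refine c.special_K k s 1 ?_
    rw [mem_centralizer_iff]
    rintro v (rfl | rfl)
    · exact hga.eq.symm
    · rw [hx'] at hgx; exact hgx.eq.symm

/-- the centraliser of the involution with fixed points -/
theorem CA_K : centralizer ({d.φ A0} : Set G) ≤ c.K := by
  haveI : Fact (Nat.Prime 2) := ⟨Nat.prime_two⟩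
  set a := d.φ A0 with ha
  have haa : a * a = 1 := by
    rw [ha, ← map_mul, show A0 * A0 = 1 from ext_PP (by decide) (by decide +kernel), map_one]
  have ha1 : a ≠ 1 := fun e => absurd (congrArg pr5 (d.inj (e.trans (map_one d.φ).symm))) (by decide +kernel)
  have hinv : ∀ t : G, t * t = 1 → Commute t a → t ∈ c.K := by
    intro t2 ht2 hta
    by_contra hK
    have ht21 : t2 ≠ 1 := fun e => hK (e ▸ one_mem _)
    -- the outcomes for a second involution
    have outcome : ∀ (x : alternatingGroup (Fin 8)), x * x = 1 → x ≠ 1 → c.θ x ≠ a → Commute (c.θ x) a →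
        (IsConj (c.θ x) t2 ∧ IsConj (a * c.θ x) (a * t2)) ∨ (IsConj (a * c.θ x) t2 ∧ IsConj (c.θ x) (a * t2)) ∨
        ∃ q : G, Commute q a ∧ q * q = a ∧ c.θ x * q * c.θ x = q⁻¹ ∧ t2 * q * t2 = q⁻¹ := by
      intro x hx2 hx1 hxa hxc
      set t1 := c.θ x with ht1
      have h1 : t1 * t1 = 1 := by rw [ht1, ← map_mul, hx2, map_one]
      have o1 : orderOf t1 = 2 := orderOf_eq_prime (by rw [pow_two, h1]) fun e => hx1 (c.inj (e.trans (map_one c.θ).symm))
      have o2 : orderOf t2 = 2 := orderOf_eq_prime (by rw [pow_two, ht2]) ht21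
      set r := t1 * t2 with hr
      have hra : Commute r a := hxc.mul_left hta
      rcases Nat.even_or_odd (orderOf r) with he | ho
      · obtain ⟨hz, hz1, hz2⟩ := S0209.result t1 t2 o1 o2 he
        set z := r ^ (orderOf r / 2) with hzdef
        have hza : Commute z a := hra.pow_left _
        have hz' : z * z = 1 := by rw [← pow_two, ← hz, pow_orderOf_eq_one]
        have hz_ne : z ≠ 1 := fun e => by rw [e, orderOf_one] at hz; omega
        have hzK : z ∈ c.K := c.invA x hx2 hx1 hxa hxc hza hz1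
        have hzeq : z = a := by
          by_contra hne
          obtain ⟨z0, hz0⟩ := hzK
          exact hK (c.invA z0 (c.inj (by rw [map_mul, hz0, hz', map_one]))
            (fun e => hz_ne (by rw [← hz0, e, map_one])) (by rw [hz0]; exact hne) (by rw [hz0]; exact hza)
            hta (by rw [hz0]; exact hz2.symm))
        right
        have hconjp : ∀ (n : ℕ), t1 * r ^ n * t1 = (r ^ n)⁻¹ ∧ t2 * r ^ n * t2 = (r ^ n)⁻¹ := by
          have i1 : t1⁻¹ = t1 := inv_eq_of_mul_eq_one_right h1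
          have i2 : t2⁻¹ = t2 := inv_eq_of_mul_eq_one_right ht2
          have e1 : t1 * r * t1⁻¹ = r⁻¹ := by
            rw [hr, mul_inv_rev, i1, i2, ← mul_assoc, h1, one_mul]
          have e2 : t2 * r * t2⁻¹ = r⁻¹ := by
            rw [hr, mul_inv_rev, i1, i2, ← mul_assoc, mul_assoc _ t2 t2, ht2, mul_one]
          intro n
          constructor
          · have := (conj_pow (i := n) (a := t1) (b := r)).symm
            rw [e1, inv_pow, i1] at this; exact this
          · have := (conj_pow (i := n) (a := t2) (b := r)).symm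
            rw [e2, inv_pow, i2] at this; exact this
        rcases Nat.even_or_odd (orderOf r / 2) with ⟨m, hm⟩ | ⟨k, hk⟩
        · refine Or.inr ⟨r ^ m, hra.pow_left _, ?_, (hconjp m).1, (hconjp m).2⟩
          rw [← hzeq, hzdef, hm, pow_add]
        · refine Or.inl ?_
          have hrk : r ^ k * r ^ (k + 1) = a := by
            rw [← hzeq, hzdef, hk, ← pow_add]; congr 1; omega
          have e2 : t2 = t1 * r := by rw [hr, ← mul_assoc, h1, one_mul]
          have key : (r ^ k)⁻¹ * t2 * r ^ k = a * t1 := by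
            have e3 : (r ^ k)⁻¹ * t1 = t1 * r ^ k := by
              rw [← (hconjp k).1, mul_assoc, h1, mul_one]
            calc (r ^ k)⁻¹ * t2 * r ^ k = ((r ^ k)⁻¹ * t1) * (r * r ^ k) := by rw [e2]; group
              _ = t1 * (r ^ k * r ^ (k + 1)) := by rw [e3, ← pow_succ']; group
              _ = a * t1 := by rw [hrk, hxc.eq]
          refine ⟨isConj_iff.2 ⟨r ^ k, by rw [← key]; group⟩, isConj_iff.2 ⟨r ^ k, ?_⟩⟩
          have hca : r ^ k * a = a * r ^ k := (hra.pow_left k).eq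
          calc r ^ k * t1 * (r ^ k)⁻¹ = r ^ k * (a * (a * t1)) * (r ^ k)⁻¹ := by rw [← mul_assoc a, haa, one_mul]
            _ = (r ^ k * a) * ((r ^ k)⁻¹ * t2 * r ^ k) * (r ^ k)⁻¹ := by rw [key]; group
            _ = (a * r ^ k) * ((r ^ k)⁻¹ * t2 * r ^ k) * (r ^ k)⁻¹ := by rw [hca]
            _ = a * t2 := by group
      · left
        obtain ⟨e, he, he'⟩ := S0208.result t1 t2 o1 o2 ho
        have hea : Commute e a := by
          have : closure ({t1, t2} : Set G) ≤ centralizer ({a} : Set G) := by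
            rw [closure_le]
            rintro u (rfl | rfl)
            · exact mem_centralizer_singleton_iff.2 hxc.eq
            · exact mem_centralizer_singleton_iff.2 hta.eq
          exact mem_centralizer_singleton_iff.1 (this he)
        refine ⟨isConj_iff.2 ⟨e, he'⟩, isConj_iff.2 ⟨e, ?_⟩⟩
        calc e * (a * t1) * e⁻¹ = (e * a) * t1 * e⁻¹ := by group
          _ = a * (e * t1 * e⁻¹) := by rw [hea.eq]; group
          _ = a * t2 := by rw [he']
    have hA : ∀ {u v : G}, IsConj u v → (d.IsA u ↔ d.IsA v) := fun {u v} h =>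
      ⟨fun hu => hu.trans h, fun hv => hv.trans (isConj_comm.1 h)⟩
    have ea : c.θ (eJ 1 cc (by decide +kernel)) = a := c.θ_a
    -- the mixed involution
    set xm := eJ cc 1 (by decide +kernel) with hxm
    have hmA : d.IsA (c.θ xm) := (c.isA_fix xm (Subtype.ext (by show JJ (cc, 1) * JJ (cc, 1) = 1; decide +kernel))
      (fun e => absurd (congrArg Subtype.val e) (by show JJ (cc, 1) ≠ 1; decide +kernel))).2
      (show ∃ i, JJ (cc, 1) i = i by decide +kernel)
    have hmB : ¬ d.IsA (a * c.θ xm) := by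
      rw [← ea, ← map_mul]
      intro h
      obtain ⟨i, hi⟩ := (c.isA_fix _ (Subtype.ext (by
        show JJ (1, cc) * JJ (cc, 1) * (JJ (1, cc) * JJ (cc, 1)) = 1; decide +kernel))
        (fun e => absurd (congrArg Subtype.val e) (by show JJ (1, cc) * JJ (cc, 1) ≠ 1; decide +kernel))).1 h
      exact (by decide +kernel : ∀ i, (JJ (1, cc) * JJ (cc, 1)) i ≠ i) i hi
    have hmix : ¬ (d.IsA t2 ↔ d.IsA (a * t2)) := by
      rcases outcome xm (Subtype.ext (by show JJ (cc, 1) * JJ (cc, 1) = 1; decide +kernel))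
        (fun e => absurd (congrArg Subtype.val e) (by show JJ (cc, 1) ≠ 1; decide +kernel))
        (by rw [← ea]; exact fun e => absurd (congrArg Subtype.val (c.inj e)) (by show JJ (cc, 1) ≠ JJ (1, cc); decide +kernel))
        (by rw [← ea]; exact c.θJ_comm _ _ (by rw [one_mul, mul_one]) (by rw [one_mul, mul_one])) with ⟨h1, h2⟩ | ⟨h1, h2⟩ | ⟨q, hqa, hq2, hq1, -⟩
      · exact fun h => hmB ((hA h2).2 (h.1 ((hA h1).1 hmA)))
      · exact fun h => hmB ((hA h1).2 (h.2 ((hA h2).1 hmA)))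
      · exfalso
        refine hmB (d.isA_conj hmA q⁻¹ |> fun h => ?_)
        have e : q⁻¹ * c.θ xm * q⁻¹⁻¹ = a * c.θ xm := by
          have hxx : c.θ xm * c.θ xm = 1 := by
            rw [← map_mul, show xm * xm = 1 from Subtype.ext (by show JJ (cc, 1) * JJ (cc, 1) = 1; decide +kernel), map_one]
          calc q⁻¹ * c.θ xm * q⁻¹⁻¹ = (c.θ xm * q * c.θ xm) * c.θ xm * q := by rw [hq1]; group
            _ = c.θ xm * q * (c.θ xm * c.θ xm) * q := by group
            _ = c.θ xm * (q * q) := by rw [hxx]; group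
            _ = a * c.θ xm := by
              rw [hq2, ← ea]
              exact (c.θJ_comm _ _ (by rw [one_mul, mul_one]) (by rw [one_mul, mul_one])).eq
        rwa [e] at h
    -- the pure involution
    have hv : c.θ (eJ 1 vv (by decide +kernel)) = d.φ A1 := c.θ_v
    have hvA : d.IsA (c.θ (eJ 1 vv (by decide +kernel))) := by rw [hv]; exact d.isA_A1
    have havA : d.IsA (a * c.θ (eJ 1 vv (by decide +kernel))) := by
      rw [hv, ha, ← map_mul, show A0 * A1 = A2 from ext_PP (by decide) (by decide +kernel)]; exact d.isA_A2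
    rcases outcome (eJ 1 vv (by decide +kernel)) (Subtype.ext (by show JJ (1, vv) * JJ (1, vv) = 1; decide +kernel))
      (fun e => absurd (congrArg Subtype.val e) (by show JJ (1, vv) ≠ 1; decide +kernel))
      (by rw [← ea]; exact fun e => absurd (congrArg Subtype.val (c.inj e)) (by show JJ (1, vv) ≠ JJ (1, cc); decide +kernel))
      (by rw [← ea]; exact c.θJ_comm _ _ rfl (by decide +kernel)) with ⟨h1, h2⟩ | ⟨h1, h2⟩ | ⟨q, hqa, hq2, hq1, hq2'⟩
    · exact hmix (iff_of_true ((hA h1).1 hvA) ((hA h2).1 havA))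
    · exact hmix (iff_of_true ((hA h1).1 havA) ((hA h2).1 hvA))
    · rw [hv] at hq1
      have hvv' : d.φ A1 * d.φ A1 = 1 := by
        rw [← map_mul, show A1 * A1 = 1 from ext_PP (by decide) (by decide +kernel), map_one]
      have hqv : q * d.φ A1 * q⁻¹ = d.φ A2 := by
        rw [show A2 = A0 * A1 from ext_PP (by decide) (by decide +kernel), map_mul, ← ha]
        calc q * d.φ A1 * q⁻¹ = q * (d.φ A1 * (d.φ A1 * q * d.φ A1)) := by rw [← hq1]; group
          _ = q * q * d.φ A1 := by rw [← mul_assoc (d.φ A1), ← mul_assoc (d.φ A1), hvv', one_mul]; group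
          _ = a * d.φ A1 := by rw [hq2]
      have hqK : q ∈ c.K := c.NV_K ⟨0, by rw [← ha, hqa.eq, mul_inv_cancel_right]; rfl⟩ ⟨2, hqv⟩
      obtain ⟨q0, rfl⟩ := hqK
      rw [← ea] at hqa
      obtain ⟨σ, τ, e, hτ⟩ := range_JJ (c.commute_iff.1 hqa)
      have hs : Perm.sign σ = Perm.sign τ := (even_JJ σ τ).1 (e ▸ isA8.1 q0.2)
      have hp : (σ, τ) * (σ, τ) = ((1, cc) : P4 × P4) := JJ_inj (by
        rw [map_mul, ← e]
        have := c.eq_of_θ (x := q0 * q0) (y := eJ 1 cc (by decide +kernel)) (by rw [map_mul, hq2, ea])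
        simpa [eJ] using this)
      obtain ⟨k, s, rfl, hm⟩ := cent_four_classify σ τ hs hτ (congrArg Prod.fst hp) (congrArg Prod.snd hp)
      have hspec : ∀ m, τ = TAU m → False := by
        intro m em
        subst em
        refine hK ?_
        have hmem : t2 * d.φ A1 ∈ centralizer ({d.φ A0, c.θ (eX k s m)} : Set G) := by
          rw [mem_centralizer_iff]
          rintro w (rfl | rfl)
          · exact (hta.mul_left ((show Commute A1 A0 from ext_PP (by decide) (by decide +kernel)).map d.φ)).eq.symm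
          · have eq0 : q0 = eX k s m := Subtype.ext e
            rw [← eq0]
            have i1 : t2⁻¹ = t2 := inv_eq_of_mul_eq_one_right ht2
            calc c.θ q0 * (t2 * d.φ A1) = (t2 * (t2 * c.θ q0 * t2)) * d.φ A1 := by
                  rw [← mul_assoc t2, ← mul_assoc t2, ht2, one_mul]; group
              _ = t2 * ((d.φ A1 * c.θ q0 * d.φ A1) * d.φ A1) := by rw [hq2', ← hq1]; group
              _ = t2 * d.φ A1 * c.θ q0 := by rw [mul_assoc _ (d.φ A1) (d.φ A1), hvv', mul_one]; group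
        have := mul_mem (c.special_K k s m hmem) (c.hφ A1)
        rwa [mul_assoc, hvv', mul_one] at this
      rcases hm with em | em <;> exact hspec _ em
  intro g hg
  have hga : Commute g a := mem_centralizer_singleton_iff.1 hg
  have hcz : ∀ p : PP, p * p = 1 → p * A0 = A0 * p → g * d.φ p * g⁻¹ ∈ c.K := fun p hp hpa => by
    refine hinv _ ?_ ?_
    · calc g * d.φ p * g⁻¹ * (g * d.φ p * g⁻¹) = g * (d.φ p * d.φ p) * g⁻¹ := by group
        _ = 1 := by rw [← map_mul, hp, map_one, mul_one, mul_inv_cancel]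
    · have h := ((show Commute p A0 from hpa).map d.φ).map (MulAut.conj g).toMonoidHom
      simp only [MulEquiv.coe_toMonoidHom, MulAut.conj_apply, ← ha, hga.eq, mul_inv_cancel_right] at h
      exact h
  set p1 : PP := J0
  set p2 : PP := el (swap 1 2) (swap 0 1) with hp2
  have hzK : g * d.φ Z0 * g⁻¹ ∈ c.K := by
    rw [show Z0 = p1 * p2 from ext_PP (by decide) (by decide +kernel), map_mul,
      show g * (d.φ p1 * d.φ p2) * g⁻¹ = (g * d.φ p1 * g⁻¹) * (g * d.φ p2 * g⁻¹) by group]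
    exact mul_mem (hcz p1 (ext_PP (by decide) (by decide +kernel)) (ext_PP (by decide) (by decide +kernel)))
      (hcz p2 (ext_PP (by decide) (by decide +kernel)) (ext_PP (by decide) (by decide +kernel)))
  haveI : Fact (Nat.Prime 3) := ⟨Nat.prime_three⟩
  set H := centralizer ({a} : Set G) ⊓ c.K with hH
  have hzH : d.φ Z0 ∈ H := ⟨mem_centralizer_singleton_iff.2 ((show Commute Z0 A0 from ext_PP (by decide) (by decide)).map d.φ).eq, c.hφ Z0⟩
  obtain ⟨P, hP⟩ := d.three_sylow H hzH (fun p hp hm h3 => by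
    have k : ∀ π : Perm (Fin 5), Perm.sign π = 1 → π * π * π = 1 →
        π * (swap 0 1 * swap 2 3) = swap 0 1 * swap 2 3 * π → π = 1 := by decide +kernel
    have k3 : ∀ σ : Perm (Fin 3), σ * c012 0 1 2 = c012 0 1 2 * σ → Perm.sign σ = 1 := by decide
    refine k _ ((sign_eq p).symm.trans (k3 _ (val1 hp))) (val2 h3) (val2 (?_ : p * A0 = A0 * p))
    exact d.inj (by rw [map_mul, map_mul]; exact mem_centralizer_singleton_iff.1 hm.1))
  have hyH : g * d.φ Z0 * g⁻¹ ∈ H := ⟨Subgroup.mul_mem (centralizer ({a} : Set G)) (Subgroup.mul_mem _ hg hzH.1) (Subgroup.inv_mem _ hg), hzK⟩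
  have hy3 : (g * d.φ Z0 * g⁻¹) ^ 3 = 1 := by rw [conj_pow, ← map_pow, Z0_pow, map_one, mul_one, mul_inv_cancel]
  have hyp : IsPGroup 3 (zpowers (⟨_, hyH⟩ : H)) := by
    obtain ⟨k, -, hk⟩ := (Nat.dvd_prime_pow Nat.prime_three (m := 1)).1
      (orderOf_dvd_of_pow_eq_one (show (⟨_, hyH⟩ : H) ^ 3 ^ 1 = 1 from Subtype.ext (by simpa using hy3)))
    exact IsPGroup.of_card (n := k) (by rw [Nat.card_zpowers, hk])
  obtain ⟨Q, hQ⟩ := hyp.exists_le_sylow
  obtain ⟨u, hu⟩ := MulAction.exists_smul_eq H Q P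
  have hm : ((u • Q : Sylow 3 H) : Subgroup H) = P := by rw [hu]
  have hconj : (u : G) * (g * d.φ Z0 * g⁻¹) * (u : G)⁻¹ ∈ zpowers (d.φ Z0) := by
    rw [← hP, ← hm, Sylow.coe_subgroup_smul]
    exact ⟨_, (Subgroup.mem_smul_pointwise_iff_exists _ _ _).2 ⟨_, hQ (mem_zpowers _), rfl⟩, rfl⟩
  have hug : (u : G) * g ∈ c.K := by
    obtain ⟨k, hk⟩ := mem_zpowers_iff.1 hconj
    have hz3 : d.φ Z0 ^ (3 : ℤ) = 1 := by rw [← map_zpow]; exact_mod_cast (congrArg d.φ Z0_pow).trans (map_one _)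
    have hkm : d.φ Z0 ^ k = d.φ Z0 ^ (k % 3) := by
      conv_lhs => rw [← Int.emod_add_mul_ediv k 3, zpow_add, zpow_mul, hz3, one_zpow, mul_one]
    obtain ⟨p, hp⟩ := d.hN ((u : G) * g) (by
      rw [show (u : G) * g * d.φ Z0 * ((u : G) * g)⁻¹ = (u : G) * (g * d.φ Z0 * g⁻¹) * (u : G)⁻¹ by group, ← hk, hkm]
      rcases (show k % 3 = 0 ∨ k % 3 = 1 ∨ k % 3 = 2 by omega) with e | e | e
      · rw [hkm, e, zpow_zero] at hk
        exact absurd (congrArg pr3 (d.inj ((conj_eq_one_iff.1 (conj_eq_one_iff.1 hk.symm)).trans (map_one d.φ).symm))) (by decide)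
      · exact Or.inl (by rw [e, zpow_one])
      · exact Or.inr (by rw [e]; refine eq_inv_of_mul_eq_one_left ?_; rw [← zpow_add_one]; exact hz3))
    exact hp ▸ c.hφ p
  have := Subgroup.mul_mem c.K (Subgroup.inv_mem c.K u.2.2) hug
  rwa [inv_mul_cancel_left] at this

/-- the copy is the whole group -/
theorem top : c.θ.range = ⊤ := by
  haveI : Fact (Nat.Prime 2) := ⟨Nat.prime_two⟩
  have centK : ∀ x : alternatingGroup (Fin 8), x * x = 1 → x ≠ 1 → ∀ g : G, Commute g (c.θ x) → g ∈ c.K := by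
    intro x h2 h1 g hg
    obtain ⟨u, hu, ⟨e, -⟩ | ⟨-, hf⟩⟩ := invol_classes (x := (x : Perm (Fin 8))) (congrArg Subtype.val h2)
      (fun e => h1 (Subtype.ext e)) (isA8.1 x.2)
    · set v : alternatingGroup (Fin 8) := ⟨u, isA8.2 hu⟩
      have e' : c.θ v * c.θ x * (c.θ v)⁻¹ = d.φ A0 := by
        rw [← map_inv, ← map_mul, ← map_mul]; exact c.θa _ e
      have h := hg.map (MulAut.conj (c.θ v)).toMonoidHom
      simp only [MulEquiv.coe_toMonoidHom, MulAut.conj_apply, e'] at h
      have hm := mul_mem (mul_mem (inv_mem (show c.θ v ∈ c.K from ⟨v, rfl⟩))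
        (c.CA_K (mem_centralizer_singleton_iff.2 h.eq))) (show c.θ v ∈ c.K from ⟨v, rfl⟩)
      rwa [show (c.θ v)⁻¹ * (c.θ v * g * (c.θ v)⁻¹) * c.θ v = g by group] at hm
    · exact c.CB' x h2 hf hg
  have hinv : ∀ t : G, t * t = 1 → t ∈ c.K := by
    intro t2 ht2
    by_contra hK
    have ht21 : t2 ≠ 1 := fun e => hK (e ▸ one_mem _)
    have key : ∀ x : alternatingGroup (Fin 8), x * x = 1 → x ≠ 1 → IsConj (c.θ x) t2 := by
      intro x h2 h1
      have o1 : orderOf (c.θ x) = 2 := orderOf_eq_prime (by rw [← map_pow, pow_two, h2, map_one])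
        fun e => h1 (c.inj (e.trans (map_one c.θ).symm))
      have o2 : orderOf t2 = 2 := orderOf_eq_prime (by rw [pow_two, ht2]) ht21
      rcases Nat.even_or_odd (orderOf (c.θ x * t2)) with he | ho
      · exfalso
        obtain ⟨hz, hz1, hz2⟩ := S0209.result _ _ o1 o2 he
        obtain ⟨z0, hz0⟩ := centK x h2 h1 _ hz1
        refine hK (centK z0 (c.inj ?_) (fun e => ?_) _ (hz0 ▸ hz2.symm))
        · rw [map_mul, hz0, map_one, ← pow_two]
          have h := pow_orderOf_eq_one ((c.θ x * t2) ^ (orderOf (c.θ x * t2) / 2))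
          rw [hz] at h; exact h
        · rw [← hz0, e, map_one, orderOf_one] at hz; omega
      · obtain ⟨e, -, he⟩ := S0208.result _ _ o1 o2 ho
        exact isConj_iff.2 ⟨e, he⟩
    have h1 := key (eJ 1 cc (by decide +kernel)) (Subtype.ext (by show JJ (1, cc) * JJ (1, cc) = 1; decide +kernel))
      (fun e => absurd (congrArg Subtype.val e) (by show JJ (1, cc) ≠ 1; decide +kernel))
    have h2 := key eb8 (Subtype.ext (by show b8 * b8 = 1; decide +kernel))
      (fun e => absurd (congrArg Subtype.val e) (by show b8 ≠ 1; decide +kernel))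
    rw [c.θ_a] at h1
    obtain ⟨i, hi⟩ := (c.isA_fix eb8 (Subtype.ext (by show b8 * b8 = 1; decide +kernel))
      (fun e => absurd (congrArg Subtype.val e) (by show b8 ≠ 1; decide +kernel))).1 (h1.trans (isConj_comm.1 h2))
    exact (by decide +kernel : ∀ i, b8 i ≠ i) i hi
  rw [eq_top_iff]
  intro g _
  have hzK : g * d.φ Z0 * g⁻¹ ∈ c.K := by
    rw [show Z0 = J0 * el (swap 1 2) (swap 0 1) from ext_PP (by decide) (by decide +kernel), map_mul,
      show ∀ u v : G, g * (u * v) * g⁻¹ = (g * u * g⁻¹) * (g * v * g⁻¹) from fun u v => by group]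
    refine mul_mem (hinv _ ?_) (hinv _ ?_)
    all_goals
      rw [show ∀ u : G, g * u * g⁻¹ * (g * u * g⁻¹) = g * (u * u) * g⁻¹ from fun u => by group, ← map_mul]
      rw [show ∀ q : PP, g * d.φ q * g⁻¹ = 1 ↔ q = 1 from fun q => by
        rw [conj_eq_one_iff, ← map_one d.φ, d.inj.eq_iff]]
      exact ext_PP (by decide) (by decide +kernel)
  obtain ⟨x, hx⟩ := hzK
  -- conjugate into the Sylow three-subgroup of the model
  haveI : Fact (Nat.Prime 3) := ⟨Nat.prime_three⟩
  have hx3 : x ^ 3 = 1 := c.inj (by rw [map_pow, hx, conj_pow, ← map_pow, Z0_pow, map_one, mul_one, mul_inv_cancel, map_one])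
  set D8' := (centralizer ({Z0, W0} : Set PP)).map ι8 with hD
  have hinj : Function.Injective ι8 := fun p q h => d.inj (by rw [← c.θι, ← c.θι, h])
  have hc9 : Nat.card D8' = 9 := by
    rw [hD, ← Nat.card_congr (Subgroup.equivMapOfInjective _ ι8 hinj).toEquiv, card_centZW]
  obtain ⟨P, hP⟩ := (IsPGroup.of_card (p := 3) (n := 2) (G := D8') (by rw [hc9]; rfl)).exists_le_sylow
  have hPeq : D8' = (P : Subgroup (alternatingGroup (Fin 8))) := by
    refine Subgroup.eq_of_le_of_card_ge hP ?_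
    rw [hc9, P.card_eq_multiplicity, card_A8]
    rw [show (20160 : ℕ) = 3 ^ 2 * 2240 from rfl, Nat.factorization_mul (by norm_num) (by norm_num),
      Nat.Prime.factorization_pow Nat.prime_three, Finsupp.add_apply, Finsupp.single_eq_same,
      Nat.factorization_eq_zero_of_not_dvd (show ¬ 3 ∣ 2240 by norm_num)]
    norm_num
  have hxp : IsPGroup 3 (zpowers x) := by
    obtain ⟨k, -, hk⟩ := (Nat.dvd_prime_pow Nat.prime_three (m := 1)).1
      (orderOf_dvd_of_pow_eq_one (show x ^ 3 ^ 1 = 1 by simpa using hx3))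
    exact IsPGroup.of_card (n := k) (by rw [Nat.card_zpowers, hk])
  obtain ⟨Q, hQ⟩ := hxp.exists_le_sylow
  obtain ⟨u, hu⟩ := MulAction.exists_smul_eq (alternatingGroup (Fin 8)) Q P
  have hm : u * x * u⁻¹ ∈ D8' := by
    rw [hPeq, ← hu, Sylow.coe_subgroup_smul]
    exact (Subgroup.mem_smul_pointwise_iff_exists _ _ _).2 ⟨x, hQ (mem_zpowers _), rfl⟩
  obtain ⟨p, hp, hpe⟩ := hm
  set w := c.θ u * g with hw
  have hwz : w * d.φ Z0 * w⁻¹ = d.φ p := by
    rw [← c.θι p, hpe, map_mul, map_mul, map_inv, hx, hw]; group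
  obtain ⟨i, j, rfl⟩ := mem_centZW.1 hp
  have h5 : HasFive (d.φ (Z0 ^ i.val * W0 ^ j.val)) := hwz ▸ d.z_five.conj w
  have hwK : w ∈ c.K := by
    have hz3 : d.φ Z0 ^ 3 = 1 := by rw [← map_pow, Z0_pow, map_one]
    have hne : ¬ (i.val = 0 ∧ j.val = 0) := by
      rintro ⟨hi, hj⟩
      rw [hi, hj, pow_zero, pow_zero, one_mul, map_one] at hwz
      exact absurd (congrArg pr3 (d.inj ((conj_eq_one_iff.1 hwz).trans (map_one d.φ).symm))) (by decide)
    rcases (show i.val = 0 ∨ i.val ≠ 0 by omega) with hi | hi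
    · have hj : j.val ≠ 0 := fun hj => hne ⟨hi, hj⟩
      obtain ⟨q, hq⟩ := d.hN (d.b * w) (by
        rw [mul_inv_rev, d.binv, show d.b * w * d.φ Z0 * (w⁻¹ * d.b) = d.b * (w * d.φ Z0 * w⁻¹) * d.b by group, hwz,
          hi, pow_zero, one_mul, map_pow]
        rcases (show j.val = 1 ∨ j.val = 2 by omega) with e | e <;> rw [e]
        · exact Or.inl (by rw [pow_one, d.bw])
        · exact Or.inr (by rw [pow_two, d.bmul, d.bw]; exact eq_inv_of_mul_eq_one_left (by rw [← pow_two, ← pow_succ, hz3])))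
      rw [show w = d.b * d.φ q by rw [hq, ← mul_assoc, d.hb, one_mul]]
      exact mul_mem c.hb (c.hφ q)
    · rcases (show j.val = 0 ∨ j.val ≠ 0 by omega) with hj | hj
      · obtain ⟨q, hq⟩ := d.hN w (by
          rw [hwz, hj, pow_zero, mul_one, map_pow]
          rcases (show i.val = 1 ∨ i.val = 2 by omega) with e | e <;> rw [e]
          · exact Or.inl (pow_one _)
          · exact Or.inr (eq_inv_of_mul_eq_one_left (by rw [← pow_succ, hz3])))
        exact hq ▸ c.hφ q
      · exact absurd h5 (not_five_diag i j hi hj)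
  have := mul_mem (inv_mem (show c.θ u ∈ c.K from ⟨u, rfl⟩)) hwK
  rwa [hw, inv_mul_cancel_left] at this

end Glue.Copy

theorem main {G : Type*} [Group G] [Finite G] (d : Data G) : Nonempty (G ≃* alternatingGroup (Fin 8)) := by
  obtain ⟨g⟩ := d.exists_glue
  obtain ⟨c⟩ := Glue.exists_copy g
  exact ⟨((MonoidHom.ofInjective c.inj).trans ((MulEquiv.subgroupCongr c.top).trans Subgroup.topEquiv)).symm⟩

end Cfsg.Agent.Lead.AltEightLocal
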