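import Cfsg.Agent.Lib.Lead.AltEightLocal.Local
import Cfsg.Agent.S3331
import Cfsg.Agent.Lib.Lie.PSpFourThreeAmalgam.Seven

/-!
The centraliser of an involution without fixed points lies in the copy.
-/

set_option autoImplicit false
set_option maxRecDepth 100000
set_option linter.style.haveILetI false

namespace Cfsg.Agent.Lead.AltEightLocal

open Subgroup Equiv
open scoped Pointwise

theorem b8_even : b8 ∈ alternatingGroup (Fin 8) := isA8.2 (by decide +kernel)

def eb8 : alternatingGroup (Fin 8) := ⟨b8, b8_even⟩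
def ey8 : alternatingGroup (Fin 8) := ⟨y8, isA8.2 y8_facts.2.2.2.2.2.1⟩
def ej8 : alternatingGroup (Fin 8) := ⟨j8, isA8.2 y8_facts.2.2.2.2.2.2.1⟩
def ez8 : alternatingGroup (Fin 8) := ⟨z8, isA8.2 y8_facts.2.2.2.2.2.2.2.1⟩
def eg8 : alternatingGroup (Fin 8) := ⟨g8, isA8.2 y8_facts.2.2.2.2.2.2.2.2.2.2⟩

theorem b8_cycleType : b8.cycleType = Multiset.replicate 4 2 := by decide +kernel

theorem b8_cent_card : Nat.card (centralizer ({b8} : Set (Perm (Fin 8)))) = 384 := by
  rw [Equiv.Perm.nat_card_centralizer, b8_cycleType, Fintype.card_fin]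
  decide

variable {G : Type*} [Group G] [Finite G] {d : Data G} (c : Glue.Copy d)

namespace Glue.Copy

/-- the involution without fixed points -/
abbrev Bg : G := c.θ eb8

theorem Bg_sq : c.Bg * c.Bg = 1 := by
  rw [← map_mul, show eb8 * eb8 = 1 from Subtype.ext (by show b8 * b8 = 1; decide +kernel), map_one]

theorem Bg_ne : c.Bg ≠ 1 := fun h => by
  have := congrArg Subtype.val (c.inj (h.trans (map_one c.θ).symm))
  exact absurd this (by show b8 ≠ 1; decide +kernel)

theorem y_pow : c.θ ey8 * c.θ ey8 * c.θ ey8 = 1 := by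
  rw [← map_mul, ← map_mul, show ey8 * ey8 * ey8 = 1 from Subtype.ext y8_facts.2.2.2.1, map_one]

theorem y_cent_K {g : G} (h : Commute g (c.θ ey8)) : g ∈ c.K :=
  c.three_cent ey8 (Subtype.ext y8_facts.2.2.2.1) (fun e => y8_facts.2.2.2.2.1 (congrArg Subtype.val e)) h

theorem y_cent_card : Nat.card (centralizer ({c.θ ey8} : Set G)) = 18 := by
  obtain ⟨g, hg, e⟩ := y8_conj
  have hy : c.θ ⟨g, isA8.2 hg⟩ * c.θ ey8 * (c.θ ⟨g, isA8.2 hg⟩)⁻¹ = d.φ Z0 * d.φ W0 := by
    rw [← map_inv, ← map_mul, ← map_mul, ← map_mul]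
    exact c.φ_eq e
  set u := c.θ ⟨g, isA8.2 hg⟩ with hu
  rw [← d.h18]
  have hmap : centralizer ({d.φ Z0 * d.φ W0} : Set G) =
      (centralizer ({c.θ ey8} : Set G)).map (MulAut.conj u).toMonoidHom := by
    ext x
    constructor
    · intro hx
      refine ⟨u⁻¹ * x * u, mem_centralizer_singleton_iff.2 ?_, by simp [mul_assoc]⟩
      have hx' : Commute x (d.φ Z0 * d.φ W0) := mem_centralizer_singleton_iff.1 hx
      have := hx'.map (MulAut.conj u⁻¹).toMonoidHom
      simp only [MulEquiv.coe_toMonoidHom, MulAut.conj_apply, inv_inv, ← hy] at this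
      rwa [show u⁻¹ * (u * c.θ ey8 * u⁻¹) * u = c.θ ey8 by group] at this
    · rintro ⟨v, hv, rfl⟩
      refine mem_centralizer_singleton_iff.2 ?_
      rw [← hy]
      exact (show Commute v (c.θ ey8) from mem_centralizer_singleton_iff.1 hv).map (MulAut.conj u).toMonoidHom
  rw [hmap, card_map_of_injective (MulAut.conj u).injective]

theorem y_cent_list {g : G} (h : Commute g (c.θ ey8)) :
    ∃ i j : Fin 3, ∃ k : Fin 2, g = c.θ (ey8 ^ i.val * ez8 ^ j.val * eb8 ^ k.val) := by
  have hz : Commute (c.θ ez8) (c.θ ey8) := c.commute_iff.2 y8_facts.2.2.2.2.2.2.2.2.1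
  have hb : Commute (c.θ eb8) (c.θ ey8) := c.commute_iff.2 y8_facts.1.symm
  let f : Fin 3 × Fin 3 × Fin 2 → centralizer ({c.θ ey8} : Set G) := fun e =>
    ⟨c.θ (ey8 ^ e.1.val * ez8 ^ e.2.1.val * eb8 ^ e.2.2.val), mem_centralizer_singleton_iff.2 (by
      rw [map_mul, map_mul, map_pow, map_pow, map_pow]
      exact ((((Commute.refl _).pow_left _).mul_left (hz.pow_left _)).mul_left (hb.pow_left _)).eq)⟩
  have hf : Function.Injective f := by
    rintro ⟨i, j, k⟩ ⟨i', j', k'⟩ e
    exact y8_list_inj i j i' j' k k' (congrArg Subtype.val (c.inj (congrArg Subtype.val e)))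
  obtain ⟨⟨i, j, k⟩, he⟩ := (hf.bijective_of_nat_card_le (by rw [c.y_cent_card]; simp)).2
    ⟨g, mem_centralizer_singleton_iff.2 h⟩
  exact ⟨i, j, k, (congrArg Subtype.val he).symm⟩

theorem SS_b8 {x : alternatingGroup (Fin 8)} (hx : x ∈ SS) : (x : Perm (Fin 8)) * b8 = b8 * x := by
  obtain ⟨⟨⟨i, j, k⟩, hs⟩, rfl⟩ := SS_card.2 x hx
  have h1 : ∀ i, D8list i * cc = cc * D8list i := by decide +kernel
  have hJ : Commute (JJ (D8list i, D8list j)) b8 :=
    (show Commute (D8list i, D8list j) ((cc, cc) : P4 × P4) from Prod.ext (h1 i) (h1 j)).map JJ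
  exact (hJ.mul_left ((show Commute sw8 b8 by unfold Commute SemiconjBy; decide +kernel).pow_left k.val)).eq

theorem no_128 (c : Glue.Copy d) (H : Subgroup G) : ¬ 128 ∣ Nat.card H := by
  haveI : Fact (Nat.Prime 2) := ⟨Nat.prime_two⟩
  intro h
  obtain ⟨S, -⟩ := (IsPGroup.of_bot (p := 2) (G := G)).exists_le_sylow
  have h2 := c.sylow_two S
  rw [S.card_eq_multiplicity] at h2
  have h3 := (Nat.Prime.pow_dvd_iff_le_factorization Nat.prime_two (Nat.card_pos.ne')).1
    (show 2 ^ 7 ∣ Nat.card G from h.trans (card_subgroup_dvd_card H))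
  have := Nat.pow_le_pow_right (show 1 ≤ 2 by norm_num) h3
  omega

theorem three_centralizer : Subgroup.centralizer ({c.θ ey8} : Set G) ≤ c.K :=
  fun _ hg => c.y_cent_K (mem_centralizer_singleton_iff.1 hg)

/-- the centraliser of the involution without fixed points -/
theorem CB_K : centralizer ({c.Bg} : Set G) ≤ c.K := by
  haveI : Fact (Nat.Prime 2) := ⟨Nat.prime_two⟩
  haveI : Fact (Nat.Prime 3) := ⟨Nat.prime_three⟩
  set C := centralizer ({c.Bg} : Set G) with hC
  have memC : ∀ {x : alternatingGroup (Fin 8)}, (x : Perm (Fin 8)) * b8 = b8 * x → c.θ x ∈ C := fun h =>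
    mem_centralizer_singleton_iff.2 (c.commute_iff.2 h).eq
  let B : C := ⟨c.Bg, mem_centralizer_singleton_iff.2 rfl⟩
  let y : C := ⟨c.θ ey8, memC y8_facts.1⟩
  let j : C := ⟨c.θ ej8, memC y8_facts.2.1⟩
  set Z := zpowers B with hZ
  have hBc : ∀ u : C, Commute B u := fun u => Subtype.ext (mem_centralizer_singleton_iff.1 u.2).symm
  have hB2 : B * B = 1 := Subtype.ext c.Bg_sq
  have hB1 : B ≠ 1 := fun e => c.Bg_ne (congrArg Subtype.val e)
  have hoB : orderOf B = 2 := orderOf_eq_prime (by rw [pow_two, hB2]) hB1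
  have hy3 : y * y * y = 1 := Subtype.ext c.y_pow
  have hy1 : y ≠ 1 := fun e => y8_facts.2.2.2.2.1 (congrArg Subtype.val (c.inj ((congrArg Subtype.val e).trans (map_one c.θ).symm)))
  haveI hZn : Z.Normal := ⟨fun n hn g => by
    obtain ⟨k, rfl⟩ := mem_zpowers_iff.1 hn
    rw [((hBc g).zpow_left k).symm.eq, mul_inv_cancel_right]
    exact zpow_mem (mem_zpowers B) k⟩
  have hZmem : ∀ {u : C}, u ∈ Z → u = 1 ∨ u = B := by
    intro u hu
    obtain ⟨k, rfl⟩ := mem_zpowers_iff.1 hu
    rw [← zpow_mod_orderOf, hoB]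
    rcases (show k % ((2 : ℕ) : ℤ) = 0 ∨ k % ((2 : ℕ) : ℤ) = 1 by omega) with e | e <;> rw [e]
    · exact Or.inl (zpow_zero _)
    · exact Or.inr (zpow_one _)
  set π := QuotientGroup.mk' Z with hπ
  have hyZ : y ∉ Z := fun h => by
    rcases hZmem h with e | e
    · exact hy1 e
    · rw [e, hB2, one_mul] at hy3; exact hB1 hy3
  have hoy : orderOf (π y) = 3 := orderOf_eq_prime (by rw [← map_pow, pow_three, ← mul_assoc, hy3, map_one])
    (fun e => hyZ ((QuotientGroup.eq_one_iff y).1 e))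
  set X := zpowers (π y) with hX
  have hXc : Nat.card X = 3 := by rw [hX, Nat.card_zpowers, hoy]
  have hXC : centralizer (X : Set (C ⧸ Z)) = X := by
    refine le_antisymm ?_ fun u hu => ?_
    · intro q hq
      obtain ⟨g, rfl⟩ := QuotientGroup.mk'_surjective Z q
      have h : π y * π g = π g * π y := mem_centralizer_iff.1 hq _ (mem_zpowers _)
      rw [← map_mul, ← map_mul] at h
      have hz : (g * y)⁻¹ * (y * g) ∈ Z := QuotientGroup.eq.1 h.symm
      have hcomm : Commute g y := by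
        rcases hZmem hz with e | e
        · exact (inv_mul_eq_one.1 e)
        · exfalso
          have e' : g⁻¹ * y * g = y * B := by
            calc g⁻¹ * y * g = y * ((g * y)⁻¹ * (y * g)) := by group
              _ = y * B := by rw [e]
          have : (y * B) * (y * B) * (y * B) = 1 := by
            rw [← e']
            calc g⁻¹ * y * g * (g⁻¹ * y * g) * (g⁻¹ * y * g) = g⁻¹ * (y * y * y) * g := by group
              _ = 1 := by rw [hy3, mul_one, inv_mul_cancel]
          have hpw : (y * B) ^ 3 = y ^ 3 * B ^ 3 := (hBc y).symm.mul_pow 3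
          simp only [pow_succ, pow_zero, one_mul] at hpw
          rw [hpw] at this
          rw [hy3, hB2, one_mul, one_mul] at this
          exact hB1 this
      have hg : Commute (g : G) (c.θ ey8) := congrArg Subtype.val hcomm.eq
      obtain ⟨i, l, k, e⟩ := c.y_cent_list hg
      have hgb : Commute (g : G) c.Bg := mem_centralizer_singleton_iff.1 g.2
      rw [e] at hgb
      have hl : l = 0 := y8_list i l k (c.commute_iff.1 hgb)
      have eg : g = y ^ i.val * B ^ k.val := Subtype.ext (by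
        rw [e, hl, Fin.val_zero, pow_zero, mul_one, map_mul, map_pow, map_pow]; rfl)
      rw [eg, map_mul, map_pow, map_pow, show π B = 1 from (QuotientGroup.eq_one_iff B).2 (mem_zpowers B), one_pow, mul_one]
      exact pow_mem (mem_zpowers _) _
    · rw [mem_centralizer_iff]
      intro v hv
      obtain ⟨a, rfl⟩ := mem_zpowers_iff.1 hu
      obtain ⟨b, rfl⟩ := mem_zpowers_iff.1 hv
      exact (Commute.zpow_zpow_self (π y) b a).eq
  -- two-parts
  have hT : (SS.map c.θ) ≤ C := by
    rintro _ ⟨x, hx, rfl⟩; exact memC (SS_b8 hx)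
  have h64 : 64 ∣ Nat.card C := by
    have := Subgroup.card_dvd_of_le hT
    rwa [card_map_of_injective c.inj, SS_card.1] at this
  have h128 : ¬ 128 ∣ Nat.card C := c.no_128 C
  have hL : Nat.card C = Nat.card (C ⧸ Z) * 2 := by
    rw [Subgroup.card_eq_card_quotient_mul_card_subgroup Z, hZ, Nat.card_zpowers, hoB]
  have hjy : π j * π y * (π j)⁻¹ = (π y)⁻¹ := by
    rw [← map_inv, ← map_inv, ← map_mul, ← map_mul]
    congr 1
    refine Subtype.ext ?_
    show c.θ ej8 * c.θ ey8 * (c.θ ej8)⁻¹ = (c.θ ey8)⁻¹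
    rw [← map_inv, ← map_inv, ← map_mul, ← map_mul]
    congr 1
    refine Subtype.ext ?_
    show j8 * y8 * j8⁻¹ = y8⁻¹
    rw [show j8⁻¹ = j8 from inv_eq_of_mul_eq_one_right (by decide +kernel)]
    exact y8_facts.2.2.1
  rcases S3331.result X hXc hXC with ⟨N, hN, hnil, hcop, hq⟩ | ⟨N, hN, -, hexp, he5⟩ | he7
  · -- the nilpotent kernel
    have hyN : π y ∉ N := fun h => by
      have hd := Subgroup.orderOf_dvd_natCard N h
      rw [hoy] at hd
      exact Nat.prime_three.coprime_iff_not_dvd.1 (Nat.coprime_comm.1 hcop) hd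
    have hq6 : Nat.card ((C ⧸ Z) ⧸ N) = 6 := by
      rcases hq with h3 | he
      · exfalso
        haveI := isCyclic_of_prime_card (α := (C ⧸ Z) ⧸ N) (p := 3) h3
        haveI : IsMulCommutative ((C ⧸ Z) ⧸ N) := inferInstance
        have h1 := congrArg (QuotientGroup.mk' N) hjy
        rw [map_mul, map_mul, map_inv, map_inv] at h1
        have h2 : QuotientGroup.mk' N (π y) * QuotientGroup.mk' N (π y) = 1 := by
          have e := (IsMulCommutative.is_comm.comm (QuotientGroup.mk' N (π j)) (QuotientGroup.mk' N (π y)))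
          rw [e, mul_inv_cancel_right] at h1
          exact eq_inv_iff_mul_eq_one.1 h1
        refine hyN ?_
        have h3' : π y * π y ∈ N := (QuotientGroup.eq_one_iff _).1 (by
          show QuotientGroup.mk' N (π y * π y) = 1
          rw [map_mul]; exact h2)
        have : π y = (π y * π y) * (π y * π y) := by
          calc π y = π y * (π y * π y * π y) := by rw [← map_mul, ← map_mul, hy3, map_one, mul_one]
            _ = _ := by group
        rw [this]; exact mul_mem h3' h3'
      · obtain ⟨e⟩ := he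
        rw [Nat.card_congr e.toEquiv, Nat.card_perm, Nat.card_fin]; rfl
    have hLN : Nat.card (C ⧸ Z) = 6 * Nat.card N := by
      rw [Subgroup.card_eq_card_quotient_mul_card_subgroup N, hq6]
    set Nh := N.comap π with hNh
    have hNhc : Nat.card Nh = 2 * Nat.card N := by
      have h1 := Subgroup.card_mul_index Nh
      rw [hNh, Subgroup.index_comap_of_surjective N (QuotientGroup.mk'_surjective Z), Subgroup.index_eq_card,
        hq6, hL, hLN] at h1
      rw [hNh]
      omega
    haveI hNhn : Nh.Normal := Subgroup.Normal.comap hN π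
    let f : Nh →* N := (π.comp Nh.subtype).codRestrict N fun u => u.2
    have hf : f.ker ≤ center Nh := by
      intro u hu
      have hu' : (u : C) ∈ Z := (QuotientGroup.eq_one_iff (u : C)).1 (congrArg Subtype.val (MonoidHom.mem_ker.1 hu))
      rw [mem_center_iff]
      intro v
      refine Subtype.ext ?_
      show (v : C) * (u : C) = (u : C) * (v : C)
      rcases hZmem hu' with e | e <;> rw [e]
      · rw [one_mul, mul_one]
      · exact (hBc _).eq.symm
    haveI : Group.IsNilpotent N := hnil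
    haveI : Group.IsNilpotent Nh := _root_.isNilpotent_of_ker_le_center f hf
    obtain ⟨P, -⟩ := (IsPGroup.of_bot (p := 2) (G := Nh)).exists_le_sylow
    haveI hPn : (P : Subgroup Nh).Normal := P.normal_of_normalizerCondition Group.normalizerCondition_of_isNilpotent
    have h16 : 16 ∣ Nat.card N := by
      rw [hL, hLN] at h64
      exact (show Nat.Coprime 16 3 by norm_num).dvd_of_dvd_mul_left (Nat.dvd_of_mul_dvd_mul_left (show 0 < 4 by norm_num)
        (show 4 * 16 ∣ 4 * (3 * Nat.card N) by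
          rw [show 4 * (3 * Nat.card N) = 6 * Nat.card N * 2 by ring]; exact h64))
    have h32 : ¬ 32 ∣ Nat.card N := fun h => h128 (by
      rw [hL, hLN, show 6 * Nat.card N * 2 = 4 * (3 * Nat.card N) by ring]
      exact Nat.mul_dvd_mul_left 4 (Dvd.dvd.mul_left h 3))
    have hPc : Nat.card (P : Subgroup Nh) = 32 := by
      obtain ⟨k, hk⟩ := IsPGroup.iff_card.1 P.2
      have h1 : 2 ^ k ∣ 2 * Nat.card N := hNhc ▸ hk ▸ card_subgroup_dvd_card (P : Subgroup Nh)
      have h2 : 32 ∣ Nat.card (P : Subgroup Nh) * (P : Subgroup Nh).index := by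
        rw [Subgroup.card_mul_index, hNhc]; exact Nat.mul_dvd_mul_left 2 h16
      have h3 : 32 ∣ 2 ^ k := by
        rw [← hk]
        exact (Nat.Coprime.pow_left 5 ((Nat.prime_two.coprime_iff_not_dvd).2 P.not_dvd_index)).dvd_of_dvd_mul_right h2
      have hk5 : k ≤ 5 := by
        by_contra hk5
        exact h32 (Nat.dvd_of_mul_dvd_mul_left (show 0 < 2 by norm_num) ((Nat.pow_dvd_pow 2 (show 6 ≤ k by omega)).trans h1))
      have := Nat.le_of_dvd (pow_pos two_pos k) h3
      have := Nat.pow_le_pow_right (show 1 ≤ 2 by norm_num) hk5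
      rw [hk]; omega
    set Pg := ((P : Subgroup Nh).map Nh.subtype).map C.subtype with hPg
    have hPgc : Nat.card Pg = 32 := by
      rw [hPg, card_map_of_injective C.subtype_injective, card_map_of_injective Nh.subtype_injective, hPc]
    have hPconj : ∀ u : C, ∀ p ∈ Pg, (u : G) * p * (u : G)⁻¹ ∈ Pg := by
      rintro u _ ⟨_, ⟨p, hp, rfl⟩, rfl⟩
      have hm : u * (p : C) * u⁻¹ ∈ Nh := hNhn.conj_mem _ p.2 u
      have hpg : IsPGroup 2 (zpowers (⟨_, hm⟩ : Nh)) := by
        obtain ⟨k, hk⟩ := P.2 ⟨p, hp⟩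
        have hk' : (p : C) ^ 2 ^ k = 1 := congrArg (fun v : (P : Subgroup Nh) => ((v : Nh) : C)) hk
        obtain ⟨l, -, hl⟩ := (Nat.dvd_prime_pow Nat.prime_two).1 (orderOf_dvd_of_pow_eq_one
          (show (⟨_, hm⟩ : Nh) ^ 2 ^ k = 1 from Subtype.ext (by
            show (u * (p : C) * u⁻¹) ^ 2 ^ k = 1
            rw [conj_pow, hk', mul_one, mul_inv_cancel])))
        exact IsPGroup.of_card (n := l) (by rw [Nat.card_zpowers, hl])
      obtain ⟨Q, hQ⟩ := hpg.exists_le_sylow
      haveI := Sylow.unique_of_normal P hPn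
      exact ⟨_, ⟨⟨_, hm⟩, (Subsingleton.elim Q P) ▸ hQ (mem_zpowers _), rfl⟩, rfl⟩
    -- the kernel sits in the Sylow subgroup
    have hPT : Pg ≤ SS.map c.θ := by
      have hn : SS.map c.θ ≤ normalizer (Pg : Set G) := by
        intro u hu
        rw [Subgroup.mem_normalizer_iff]
        refine fun p => ⟨hPconj ⟨u, hT hu⟩ p, fun h => ?_⟩
        have := hPconj ⟨u⁻¹, inv_mem (hT hu)⟩ _ h
        rwa [show ((⟨u⁻¹, inv_mem (hT hu)⟩ : C) : G) = u⁻¹ from rfl, inv_inv, show u⁻¹ * (u * p * u⁻¹) * u = p by group] at this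
      have hsup : IsPGroup 2 (Pg ⊔ SS.map c.θ : Subgroup G) :=
        IsPGroup.to_sup_of_normal_left' (IsPGroup.of_card (n := 5) (by rw [hPgc]; rfl)) (SS_isPGroup.map c.θ) hn
      obtain ⟨k, hk⟩ := IsPGroup.iff_card.1 hsup
      have hk6 : k ≤ 6 := by
        by_contra h
        exact c.no_128 _ (hk ▸ Nat.pow_dvd_pow 2 (show 7 ≤ k by omega))
      have : SS.map c.θ = Pg ⊔ SS.map c.θ := Subgroup.eq_of_le_of_card_ge le_sup_right (by
        rw [hk, card_map_of_injective c.inj, SS_card.1]; exact Nat.pow_le_pow_right (by norm_num) hk6)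
      exact this ▸ le_sup_left
    have hmem : ∀ p ∈ Pg, ∃ e : Idx, e.1 ∈ yIndex ∧ p = c.θ (selem e) := by
      intro p hp
      obtain ⟨x, hx, rfl⟩ := hPT hp
      obtain ⟨e, rfl⟩ := SS_card.2 x hx
      refine ⟨e, ?_, rfl⟩
      obtain ⟨x', hx', e'⟩ := hPT (hPconj y⁻¹ _ hp)
      obtain ⟨e'', rfl⟩ := SS_card.2 x' hx'
      have he : (ey8⁻¹ * selem e * ey8 : alternatingGroup (Fin 8)) = selem e'' := c.inj (by
        rw [map_mul, map_mul, map_inv, e']
        show _ = (c.θ ey8)⁻¹ * c.θ (selem e) * ((c.θ ey8)⁻¹)⁻¹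
        rw [inv_inv])
      refine Finset.mem_filter.2 ⟨Finset.mem_univ _, e.2, ?_⟩
      rw [show y8⁻¹ * (JJ (D8list e.1.1, D8list e.1.2.1) * sw8 ^ e.1.2.2.val) * y8 = (selem e'' : Perm (Fin 8)) from
        congrArg Subtype.val he]
      exact pres_syl _ _ _
    have hall : ∀ t ∈ yIndex, ∃ ht : Perm.sign (D8list t.1) = Perm.sign (D8list t.2.1), c.θ (selem ⟨t, ht⟩) ∈ Pg := by
      intro t ht
      choose F hF1 hF2 using hmem
      let Φ : Pg → yIndex := fun p => ⟨(F p p.2).1, hF1 p p.2⟩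
      have hΦ : Function.Injective Φ := fun p q e => Subtype.ext (by
        have h : (F (p : G) p.2).1 = (F (q : G) q.2).1 := congrArg (fun u : yIndex => (u : Fin 8 × Fin 8 × Fin 2)) e
        rw [hF2 p p.2, hF2 q q.2, Subtype.ext h])
      obtain ⟨p, hp⟩ := (hΦ.bijective_of_nat_card_le (by
        rw [hPgc, Nat.card_eq_fintype_card, Fintype.card_coe, yIndex_card])).2 ⟨t, ht⟩
      have e : (F (p : G) p.2).1 = t := congrArg Subtype.val hp
      exact ⟨(Finset.mem_filter.1 ht).2.1, by
        rw [show (⟨t, (Finset.mem_filter.1 ht).2.1⟩ : Idx) = F (p : G) p.2 from Subtype.ext e.symm, ← hF2 p p.2]; exact p.2⟩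
    -- no prime above three
    have hprime : ∀ q : ℕ, q.Prime → q ∣ Nat.card C → q = 2 ∨ q = 3 := by
      intro q hq hqC
      haveI : Fact q.Prime := ⟨hq⟩
      by_contra hne
      push Not at hne
      obtain ⟨x, hx⟩ := exists_prime_orderOf_dvd_card' (G := C) q hqC
      have key : ∀ u : C, orderOf u = q → ∀ p ∈ Pg, Commute (u : G) p := by
        intro u hu
        have huN : u ∈ Nh := by
          show π u ∈ N
          rw [← QuotientGroup.eq_one_iff, ← orderOf_eq_one_iff, ← Nat.dvd_one]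
          rw [← ((Nat.coprime_primes hq Nat.prime_two).2 hne.1).mul_right ((Nat.coprime_primes hq Nat.prime_three).2 hne.2) |>.gcd_eq_one]
          refine Nat.dvd_gcd ?_ ?_
          · rw [← hu]
            exact orderOf_map_dvd ((QuotientGroup.mk' N).comp π) u
          · exact (show (6 : ℕ) = 2 * 3 from rfl) ▸ hq6 ▸ orderOf_dvd_natCard _
        have hqg : IsPGroup q (zpowers (⟨u, huN⟩ : Nh)) := IsPGroup.of_card (n := 1) (by
          rw [Nat.card_zpowers, Subgroup.orderOf_mk, hu, pow_one])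
        obtain ⟨Q, hQ⟩ := hqg.exists_le_sylow
        haveI hQn : (Q : Subgroup Nh).Normal := Q.normal_of_normalizerCondition Group.normalizerCondition_of_isNilpotent
        rintro _ ⟨_, ⟨p, hp, rfl⟩, rfl⟩
        have := Subgroup.commute_of_normal_of_disjoint _ _ hQn hPn
          (IsPGroup.disjoint_of_ne q 2 hne.1 _ _ Q.2 P.2) ⟨u, huN⟩ p (hQ (mem_zpowers _)) hp
        exact congrArg (fun v : Nh => ((v : C) : G)) this.eq
      obtain ⟨h4, hp8⟩ := hall _ yIndex_mem.1
      obtain ⟨h2, hb1⟩ := hall _ yIndex_mem.2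
      set p := c.θ (selem ⟨_, h4⟩) with hp
      set g := c.θ eg8 with hg
      have hb1' : c.θ (selem ⟨_, h2⟩) = g * c.Bg * g⁻¹ := by
        rw [hg, ← map_inv, ← map_mul, ← map_mul]
        congr 1
        exact Subtype.ext (by show JJ (D8list 2, D8list 2) * sw8 ^ 0 = g8 * b8 * g8⁻¹; decide +kernel)
      have hxb : Commute (x : G) (g * c.Bg * g⁻¹) := hb1' ▸ key x hx _ hb1
      have hx' : g⁻¹ * (x : G) * g ∈ C := mem_centralizer_singleton_iff.2 (by
        have := hxb.map (MulAut.conj g⁻¹).toMonoidHom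
        simp only [MulEquiv.coe_toMonoidHom, MulAut.conj_apply, inv_inv] at this
        rw [show g⁻¹ * (g * c.Bg * g⁻¹) * g = c.Bg by group] at this
        exact this.eq)
      have ho : orderOf (⟨_, hx'⟩ : C) = q := by
        rw [Subgroup.orderOf_mk, ← hx, ← Subgroup.orderOf_coe x, ← MulEquiv.orderOf_eq (MulAut.conj g⁻¹) (x : G),
          MulAut.conj_apply, inv_inv]
      have hc1 := key x hx p hp8
      have hc2 : Commute (x : G) (g * p * g⁻¹) := by
        have := (key ⟨_, hx'⟩ ho p hp8).map (MulAut.conj g).toMonoidHom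
        simp only [MulEquiv.coe_toMonoidHom, MulAut.conj_apply] at this
        rwa [show g * (g⁻¹ * (x : G) * g) * g⁻¹ = x by group] at this
      have hu := hc1.mul_right hc2
      set pp : alternatingGroup (Fin 8) := selem ⟨((4 : Fin 8), (5 : Fin 8), (0 : Fin 2)), h4⟩ with hpp
      have hv : ((pp * (eg8 * pp * eg8⁻¹) : alternatingGroup (Fin 8)) : Perm (Fin 8)) = p8 * (g8 * p8 * g8⁻¹) := by
        show JJ (D8list 4, D8list 5) * sw8 ^ 0 * (g8 * (JJ (D8list 4, D8list 5) * sw8 ^ 0) * g8⁻¹) = _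
        decide +kernel
      have hxK : (x : G) ∈ c.K := by
        refine c.three_cent (pp * (eg8 * pp * eg8⁻¹)) (Subtype.ext ?_) (fun e => u8_order.2 ?_) ?_
        · simp only [Subgroup.coe_mul] at hv ⊢
          rw [hv]; exact u8_order.1
        · rw [← hv, e]; rfl
        · rw [map_mul, map_mul, map_mul, map_inv]; exact hu
      obtain ⟨x0, hx0⟩ := hxK
      have hxb8 : (x0 : Perm (Fin 8)) ∈ centralizer ({b8} : Set (Perm (Fin 8))) :=
        mem_centralizer_singleton_iff.2 ((c.commute_iff (x := x0) (y := eb8)).1 (by rw [hx0]; exact mem_centralizer_singleton_iff.1 x.2))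
      have hd := Subgroup.orderOf_dvd_natCard _ hxb8
      rw [b8_cent_card, Subgroup.orderOf_coe, ← orderOf_injective c.θ c.inj x0, hx0, Subgroup.orderOf_coe, hx,
        show (384 : ℕ) = 2 ^ 7 * 3 from rfl] at hd
      rcases (Nat.Prime.dvd_mul hq).1 hd with h | h
      · exact hne.1 ((Nat.prime_dvd_prime_iff_eq hq Nat.prime_two).1 (hq.dvd_of_dvd_pow h))
      · exact hne.2 ((Nat.prime_dvd_prime_iff_eq hq Nat.prime_three).1 h)
    have hN16 : Nat.card N = 16 := by
      have hNC : Nat.card N ∣ Nat.card C := by rw [hL, hLN]; exact ⟨12, by ring⟩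
      have hpow : ∀ q : ℕ, q.Prime → q ∣ Nat.card N → q = 2 := fun q hq h => by
        rcases hprime q hq (h.trans hNC) with e | e
        · exact e
        · subst e
          exact absurd h (Nat.prime_three.coprime_iff_not_dvd.1 (Nat.coprime_comm.1 hcop))
      obtain ⟨k, hk⟩ : ∃ k, Nat.card N = 2 ^ k :=
        ⟨_, Nat.eq_prime_pow_of_unique_prime_dvd Nat.card_pos.ne' fun {q} hq h => hpow q hq h⟩
      rw [hk] at h16 h32 ⊢
      have h4 : 4 ≤ k := by
        by_contra h
        have := Nat.le_of_dvd (pow_pos two_pos k) h16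
        have := Nat.pow_le_pow_right (show 1 ≤ 2 by norm_num) (show k ≤ 3 by omega)
        omega
      have h5 : k ≤ 4 := by
        by_contra h
        exact h32 (Nat.pow_dvd_pow 2 (show 5 ≤ k by omega))
      rw [show k = 4 by omega]; rfl
    have hC192 : Nat.card C = 192 := by rw [hL, hLN, hN16]
    have hyC : zpowers (c.θ ey8) ≤ C := zpowers_le.2 y.2
    have heq : SS.map c.θ ⊔ zpowers (c.θ ey8) = C := by
      refine Subgroup.eq_of_le_of_card_ge (sup_le hT hyC) ?_
      rw [hC192, show (192 : ℕ) = 64 * 3 from rfl]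
      refine Nat.le_of_dvd Nat.card_pos ((show Nat.Coprime 64 3 by norm_num).mul_dvd_of_dvd_of_dvd ?_ ?_)
      · have h := Subgroup.card_dvd_of_le (le_sup_left : SS.map c.θ ≤ SS.map c.θ ⊔ zpowers (c.θ ey8))
        rwa [card_map_of_injective c.inj, SS_card.1] at h
      · have h := Subgroup.card_dvd_of_le (le_sup_right : zpowers (c.θ ey8) ≤ SS.map c.θ ⊔ zpowers (c.θ ey8))
        rwa [Nat.card_zpowers, show orderOf (c.θ ey8) = 3 from orderOf_eq_prime (by rw [pow_three, ← mul_assoc, c.y_pow])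
          (fun e => hy1 (Subtype.ext e))] at h
    rw [← heq]
    exact sup_le (by rintro _ ⟨x, -, rfl⟩; exact ⟨x, rfl⟩) (zpowers_le.2 ⟨ey8, rfl⟩)
  · -- no extension of the alternating group of degree five
    exfalso
    obtain ⟨e5⟩ := he5
    have h60 : Nat.card (C ⧸ Z) = 60 * Nat.card N := by
      rw [Subgroup.card_eq_card_quotient_mul_card_subgroup N, Nat.card_congr e5.toEquiv,
        nat_card_alternatingGroup, Nat.card_fin]
      rfl
    have hp : IsPGroup 2 N := fun n => ⟨1, Subtype.ext (by simpa using hexp n n.2)⟩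
    obtain ⟨k, hk⟩ := IsPGroup.iff_card.1 hp
    rw [hL, h60, hk] at h64 h128
    have hk3 : k = 3 := by
      rw [show 60 * 2 ^ k * 2 = 15 * 2 ^ (k + 3) by ring] at h64 h128
      have hlo : 2 ^ 6 ∣ 2 ^ (k + 3) := (show Nat.Coprime (2 ^ 6) 15 by norm_num).dvd_of_dvd_mul_left h64
      have := Nat.le_of_dvd (pow_pos two_pos _) hlo
      have h1 := (Nat.pow_le_pow_iff_right (show 1 < 2 by norm_num)).1 this
      by_contra hne
      exact h128 (Dvd.dvd.mul_left (Nat.pow_dvd_pow 2 (show 7 ≤ k + 3 by omega)) 15)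
    letI : MulAction X N :=
      { smul := fun x n => ⟨(x : C ⧸ Z) * n * (x : C ⧸ Z)⁻¹, hN.conj_mem _ n.2 _⟩
        one_smul := fun n => Subtype.ext (by show (1 : C ⧸ Z) * n * (1 : C ⧸ Z)⁻¹ = n; group)
        mul_smul := fun a b n => Subtype.ext (by
          show ((a : C ⧸ Z) * b) * n * ((a : C ⧸ Z) * b)⁻¹ = a * (b * n * (b : C ⧸ Z)⁻¹) * (a : C ⧸ Z)⁻¹
          group) }
    have hfix : Nat.card (MulAction.fixedPoints X N) = 1 := by
      rw [Nat.card_eq_one_iff_unique]
      refine ⟨⟨fun a b => ?_⟩, ⟨⟨1, fun x => Subtype.ext (by show (x : C ⧸ Z) * 1 * (x : C ⧸ Z)⁻¹ = 1; group)⟩⟩⟩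
      have one : ∀ a : MulAction.fixedPoints X N, ((a : N) : C ⧸ Z) = 1 := fun a => by
        have hmem : ((a : N) : C ⧸ Z) ∈ X := hXC.le (mem_centralizer_iff.2 fun v hv =>
          mul_inv_eq_iff_eq_mul.1 (congrArg (fun u : N => (u : C ⧸ Z)) (a.2 ⟨v, hv⟩)))
        have h1 := orderOf_dvd_of_pow_eq_one (hexp _ (a : N).2)
        have h2 := Subgroup.orderOf_dvd_natCard X hmem
        rw [hXc] at h2
        exact orderOf_eq_one_iff.1 (Nat.dvd_one.1 ((show Nat.gcd 2 3 = 1 from rfl) ▸ Nat.dvd_gcd h1 h2))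
      exact Subtype.ext (Subtype.ext ((one a).trans (one b).symm))
    have h := IsPGroup.card_modEq_card_fixedPoints (IsPGroup.of_card (p := 3) (n := 1) (G := X) (by rw [hXc]; rfl)) N
    rw [hfix, hk, hk3] at h
    exact absurd h (by decide)
  · -- not the linear group
    exfalso
    obtain ⟨e7⟩ := he7
    rw [hL, Nat.card_congr e7.toEquiv, Lie.PSpFourThreeAmalgam.card_psl_seven] at h64
    norm_num at h64

end Glue.Copy

end Cfsg.Agent.Lead.AltEightLocal
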