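import Cfsg.Agent.Lib.Lead.AltEightLocal.Glue
import Cfsg.Agent.Lib.Small.BoundedPres.Alt

/-!
The copy of the alternating group generated by the two normalisers.
-/

set_option autoImplicit false
set_option maxRecDepth 100000
set_option linter.style.haveILetI false

namespace Cfsg.Agent.Lead.AltEightLocal

open Subgroup Equiv
open Cfsg.Agent.Small.AltDeg Cfsg.Agent.Small.BoundedPres

theorem gcyc6 (i : Fin 6) : ((gcyc 6 i : A (6 + 2)) : Perm (Fin 8)) = c012 0 1 ⟨i.val + 2, by omega⟩ := by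
  have hab : (⟨0, by omega⟩ : Fin (6 + 2)) ≠ ⟨1, by omega⟩ := Fin.ne_of_val_ne Nat.zero_ne_one
  have hbc : (⟨1, by omega⟩ : Fin (6 + 2)) ≠ ⟨i.val + 2, by omega⟩ := Fin.ne_of_val_ne (show 1 ≠ i.val + 2 by omega)
  have hac : (⟨0, by omega⟩ : Fin (6 + 2)) ≠ ⟨i.val + 2, by omega⟩ := Fin.ne_of_val_ne (show 0 ≠ i.val + 2 by omega)
  obtain ⟨h1, h2, h3⟩ := cyc_apply hab hbc hac
  have hp0 : (⟨i.val + 2, by omega⟩ : Fin 8) ≠ 0 := fun e => hac e.symm
  have hp1 : (⟨i.val + 2, by omega⟩ : Fin 8) ≠ 1 := fun e => hbc e.symm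
  ext x : 1
  by_cases hx0 : x = 0
  · subst hx0
    refine h1.trans ?_
    rw [c012, Perm.mul_apply, swap_apply_of_ne_of_ne (by decide : (0 : Fin 8) ≠ 1) hp0.symm, swap_apply_left]
    rfl
  by_cases hx1 : x = 1
  · subst hx1
    refine h2.trans ?_
    rw [c012, Perm.mul_apply, swap_apply_left, swap_apply_of_ne_of_ne hp0 hp1]
  by_cases hxp : x = (⟨i.val + 2, by omega⟩ : Fin 8)
  · subst hxp
    refine h3.trans ?_
    rw [c012, Perm.mul_apply, swap_apply_right, swap_apply_right]
    rfl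
  · have hx : x ∉ ({⟨0, by omega⟩, ⟨1, by omega⟩, ⟨i.val + 2, by omega⟩} : Finset (Fin (6 + 2))) := by
      simp only [Finset.mem_insert, Finset.mem_singleton]
      rintro (e | e | e)
      · exact hx0 e
      · exact hx1 e
      · exact hxp e
    refine (cyc_supp hab hbc hac x hx).trans ?_
    rw [c012, Perm.mul_apply, swap_apply_of_ne_of_ne hx1 hxp, swap_apply_of_ne_of_ne hx0 hx1]

/-- a braid system with a three-element -/
structure Chain (G : Type*) [Group G] where
  z : G
  s : ℕ → G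
  z3 : z * z * z = 1
  sq : ∀ k < 5, s k * s k = 1
  braid : ∀ k < 4, s k * s (k + 1) * s k = s (k + 1) * s k * s (k + 1)
  comm : ∀ k l, k < 5 → l < 5 → k + 1 < l → Commute (s k) (s l)
  inv : ∀ k, 1 ≤ k → k < 5 → s k * z * s k = z⁻¹
  base : (z * (s 0 * z * s 0)⁻¹) * (z * (s 0 * z * s 0)⁻¹) = 1
  word : s 0 = z * (s 0 * z * s 0)⁻¹ * (s 0 * z * s 0)⁻¹ * z

namespace Chain

variable {G : Type*} [Group G] (c : Chain G)

def v (c : Chain G) : ℕ → G
  | 0 => c.z
  | n + 1 => (c.s n * v c n * c.s n)⁻¹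

theorem v_succ (n : ℕ) : c.v (n + 1) = (c.s n * c.v n * c.s n)⁻¹ := rfl

/-- the permuted index -/
def tr (k i : ℕ) : ℕ := if i = k then k + 1 else if i = k + 1 then k else i

theorem act (i : ℕ) : ∀ k, k < 5 → i < 6 → c.s k * c.v i * c.s k = (c.v (tr k i))⁻¹ := by
  induction i using Nat.strong_induction_on with
  | _ i ih =>
    intro k hk hi
    by_cases e1 : i = k
    · subst e1
      rw [tr, if_pos rfl, v_succ, inv_inv]
    by_cases e2 : i = k + 1
    · subst e2
      rw [tr, if_neg e1, if_pos rfl, v_succ]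
      have h := c.sq k hk
      have hs : (c.s k)⁻¹ = c.s k := inv_eq_of_mul_eq_one_right h
      rw [mul_inv_rev, mul_inv_rev, hs]
      calc c.s k * (c.s k * ((c.v k)⁻¹ * c.s k)) * c.s k = (c.s k * c.s k) * (c.v k)⁻¹ * (c.s k * c.s k) := by group
        _ = (c.v k)⁻¹ := by rw [h, one_mul, mul_one]
    rw [tr, if_neg e1, if_neg e2]
    match i with
    | 0 => exact c.inv k (by omega) hk
    | n + 1 =>
      have hn : c.s n * c.s n = 1 := c.sq n (by omega)
      have hsn : (c.s n)⁻¹ = c.s n := inv_eq_of_mul_eq_one_right hn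
      have hsk : (c.s k)⁻¹ = c.s k := inv_eq_of_mul_eq_one_right (c.sq k hk)
      by_cases e3 : k + 1 = n
      · subst e3
        have hb := c.braid k (by omega)
        have h1 := ih k (by omega) k (by omega) (by omega)
        have h2 := ih k (by omega) (k + 1) (by omega) (by omega)
        rw [tr, if_pos rfl] at h1
        rw [tr, if_neg (by omega), if_neg (by omega)] at h2
        have hv : c.v (k + 1 + 1) = c.s (k + 1) * (c.s k * c.v k * c.s k) * c.s (k + 1) := by
          rw [v_succ, v_succ, mul_inv_rev, mul_inv_rev, inv_inv, hsn]; group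
        have hi2 : (c.v (k + 1 + 1))⁻¹ = c.s (k + 1) * (c.s k * (c.v k)⁻¹ * c.s k) * c.s (k + 1) := by
          rw [hv, mul_inv_rev, mul_inv_rev, mul_inv_rev, mul_inv_rev, hsn, hsk]; group
        rw [hi2, ← h2, hv]
        calc c.s k * (c.s (k + 1) * (c.s k * c.v k * c.s k) * c.s (k + 1)) * c.s k
            = (c.s k * c.s (k + 1) * c.s k) * c.v k * (c.s k * c.s (k + 1) * c.s k) := by group
          _ = (c.s (k + 1) * c.s k * c.s (k + 1)) * c.v k * (c.s (k + 1) * c.s k * c.s (k + 1)) := by rw [hb]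
          _ = _ := by group
      · have hcm : c.s k * c.s n = c.s n * c.s k := by
          rcases Nat.lt_or_ge k n with h | h
          · exact (c.comm k n hk (by omega) (by omega)).eq
          · exact (c.comm n k (by omega) hk (by omega)).symm.eq
        have h1 := ih n (by omega) k hk (by omega)
        rw [tr, if_neg (by omega), if_neg (by omega)] at h1
        rw [v_succ, inv_inv, mul_inv_rev, mul_inv_rev, hsn]
        calc c.s k * (c.s n * ((c.v n)⁻¹ * c.s n)) * c.s k
            = (c.s k * c.s n) * (c.v n)⁻¹ * (c.s n * c.s k) := by group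
          _ = (c.s n * c.s k) * (c.v n)⁻¹ * (c.s k * c.s n) := by rw [hcm]
          _ = c.s n * (c.s k * c.v n * c.s k)⁻¹ * c.s n := by rw [mul_inv_rev, mul_inv_rev, hsk]; group
          _ = c.s n * c.v n * c.s n := by rw [h1, inv_inv]

/-- the pair relation -/
def R (i j : ℕ) : Prop := (c.v i * c.v j) * (c.v i * c.v j) = 1

theorem R_conj {k i j : ℕ} (hk : k < 5) (hi : i < 6) (hj : j < 6) (h : c.R i j) : c.R (tr k i) (tr k j) := by
  have hs := c.sq k hk
  have hsk : (c.s k)⁻¹ = c.s k := inv_eq_of_mul_eq_one_right hs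
  have h1 : ((c.v (tr k i))⁻¹ * (c.v (tr k j))⁻¹) * ((c.v (tr k i))⁻¹ * (c.v (tr k j))⁻¹) = 1 := by
    rw [← c.act i k hk hi, ← c.act j k hk hj]
    calc c.s k * c.v i * c.s k * (c.s k * c.v j * c.s k) * (c.s k * c.v i * c.s k * (c.s k * c.v j * c.s k))
        = c.s k * c.v i * (c.s k * c.s k) * c.v j * (c.s k * c.s k) * c.v i * (c.s k * c.s k) * c.v j * c.s k := by group
      _ = c.s k * ((c.v i * c.v j) * (c.v i * c.v j)) * c.s k := by rw [hs]; group
      _ = 1 := by rw [h, mul_one, hs]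
  show c.v (tr k i) * c.v (tr k j) * (c.v (tr k i) * c.v (tr k j)) = 1
  generalize c.v (tr k i) = a at h1 ⊢
  generalize c.v (tr k j) = b at h1 ⊢
  calc a * b * (a * b) = a * (a⁻¹ * b⁻¹ * (a⁻¹ * b⁻¹))⁻¹ * a⁻¹ := by group
    _ = 1 := by rw [h1]; group

theorem R_all {i j : ℕ} (hij : i ≠ j) (hi : i < 6) (hj : j < 6) : c.R i j := by
  have key : ∀ i j : ℕ, i < j → j < 6 → c.R i j := by
    have base : ∀ j : ℕ, j + 1 < 6 → c.R 0 (j + 1) := by
      intro j
      induction j with
      | zero => intro _; exact c.base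
      | succ n ih =>
        intro hn
        have := c.R_conj (k := n + 1) (by omega) (by omega) (by omega) (ih (by omega))
        rwa [tr, if_neg (by omega), if_neg (by omega), tr, if_pos rfl] at this
    intro i
    induction i with
    | zero =>
      intro j hj hj6
      obtain ⟨m, rfl⟩ : ∃ m, j = m + 1 := ⟨j - 1, by omega⟩
      exact base m hj6
    | succ n ih =>
      intro j hj hj6
      have := c.R_conj (k := n) (by omega) (by omega) hj6 (ih j (by omega) hj6)
      rwa [tr, if_pos rfl, tr, if_neg (by omega), if_neg (by omega)] at this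
  rcases Nat.lt_or_ge i j with h | h
  · exact key i j h hj
  · have h' := key j i (by omega) hi
    show c.v i * c.v j * (c.v i * c.v j) = 1
    calc c.v i * c.v j * (c.v i * c.v j) = (c.v j)⁻¹ * (c.v j * c.v i * (c.v j * c.v i)) * c.v j := by group
      _ = 1 := by rw [show c.v j * c.v i * (c.v j * c.v i) = 1 from h']; group

theorem v3 : ∀ i, i < 6 → c.v i * c.v i * c.v i = 1 := by
  intro i
  induction i with
  | zero => intro _; exact c.z3
  | succ n ih =>
    intro hn
    have hs := c.sq n (by omega)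
    rw [v_succ, ← mul_inv_rev, ← mul_inv_rev, inv_eq_one]
    calc c.s n * c.v n * c.s n * (c.s n * c.v n * c.s n * (c.s n * c.v n * c.s n))
        = c.s n * c.v n * (c.s n * c.s n) * c.v n * (c.s n * c.s n) * c.v n * c.s n := by group
      _ = c.s n * (c.v n * c.v n * c.v n) * c.s n := by rw [hs]; group
      _ = 1 := by rw [ih (by omega), mul_one, hs]

theorem word_all : ∀ k, k < 5 → c.s k = c.v k * c.v (k + 1) * c.v (k + 1) * c.v k := by
  intro k
  induction k with
  | zero => intro _; exact c.word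
  | succ n ih =>
    intro hn
    have h0 := ih (by omega)
    set u := c.s n * c.s (n + 1) with hu
    have hs := c.sq n (by omega)
    have hs' := c.sq (n + 1) hn
    have hui : u⁻¹ = c.s (n + 1) * c.s n := by
      rw [hu, mul_inv_rev, inv_eq_of_mul_eq_one_right hs, inv_eq_of_mul_eq_one_right hs']
    have hus : u * c.s n * u⁻¹ = c.s (n + 1) := by
      rw [hui, hu]
      calc c.s n * c.s (n + 1) * c.s n * (c.s (n + 1) * c.s n)
          = (c.s n * c.s (n + 1) * c.s n) * c.s (n + 1) * c.s n := by group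
        _ = c.s (n + 1) * c.s n * (c.s (n + 1) * c.s (n + 1)) * c.s n := by rw [c.braid n (by omega)]; group
        _ = c.s (n + 1) := by rw [hs', mul_one, mul_assoc, hs, mul_one]
    have inv_conj : ∀ a : G, c.s n * a⁻¹ * c.s n = (c.s n * a * c.s n)⁻¹ := fun a => by
      rw [mul_inv_rev, mul_inv_rev, inv_eq_of_mul_eq_one_right hs]; group
    have ha : u * c.v n * u⁻¹ = c.v (n + 1) := by
      have h1 := c.act n (n + 1) hn (by omega)
      rw [tr, if_neg (by omega), if_neg (by omega)] at h1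
      rw [hui, hu, show c.s n * c.s (n + 1) * c.v n * (c.s (n + 1) * c.s n) =
        c.s n * (c.s (n + 1) * c.v n * c.s (n + 1)) * c.s n by group, h1, inv_conj, v_succ]
    have hb : u * c.v (n + 1) * u⁻¹ = c.v (n + 1 + 1) := by
      have h1 := c.act (n + 1) (n + 1) hn (by omega)
      rw [tr, if_pos rfl] at h1
      have h2 := c.act (n + 1 + 1) n (by omega) (by omega)
      rw [tr, if_neg (by omega), if_neg (by omega)] at h2
      rw [hui, hu, show c.s n * c.s (n + 1) * c.v (n + 1) * (c.s (n + 1) * c.s n) =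
        c.s n * (c.s (n + 1) * c.v (n + 1) * c.s (n + 1)) * c.s n by group, h1, inv_conj, h2, inv_inv]
    rw [← hus, h0, show u * (c.v n * c.v (n + 1) * c.v (n + 1) * c.v n) * u⁻¹ =
      (u * c.v n * u⁻¹) * (u * c.v (n + 1) * u⁻¹) * (u * c.v (n + 1) * u⁻¹) * (u * c.v n * u⁻¹) by group, ha, hb]

theorem exists_hom : ∃ θ : A (6 + 2) →* G, ∀ i : Fin 6, θ (gcyc 6 i) = c.v i.val :=
  carmichael_hom 6 (by norm_num) (fun i => c.v i.val)
    (fun i => by rw [pow_three, ← mul_assoc]; exact c.v3 _ i.isLt)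
    (fun i j h => by rw [pow_two]; exact c.R_all (fun e => h (Fin.ext e)) i.isLt j.isLt)

end Chain

variable {G : Type*} [Group G] [Finite G] {d : Data G} (g : Glue d)

theorem pp_eq {p q : PP} (h3 : pr3 p = pr3 q) (h5 : pr5 p = pr5 q) : p = q := ext_PP h3 h5

namespace Glue

/-- the five involutions -/
def s (g : Glue d) : ℕ → G
  | 0 => g.ψ S0'
  | 1 => d.φ T0
  | 2 => d.φ S2
  | 3 => d.φ J0
  | _ => d.φ S4

theorem ψ_A : ∀ i j, Commute (d.φ (AA i)) (g.ψ (AA j)) := g.comm

/-- the commutation of the two ends -/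
theorem s_comm02 : Commute (g.ψ S0') (d.φ S2) := by
  have hT : T0 * T0 = 1 := ext_PP (by decide) (by decide +kernel)
  have e4 : Commute (g.ψ S0') (d.φ S4) := by
    have h : Commute (g.ψ S0') (g.ψ (Z0 * J0 * Z0⁻¹)) := (show Commute S0' (Z0 * J0 * Z0⁻¹) from
      ext_PP (by decide +kernel) (by decide +kernel)).map g.ψ
    have e : g.ψ (Z0 * J0 * Z0⁻¹) = d.φ (W0 * J0 * W0⁻¹) := by
      rw [map_mul, map_mul, map_inv, g.ψZ, g.ψJ, ← map_inv, ← map_mul, ← map_mul]
    rw [e, show W0 * J0 * W0⁻¹ = S4 from ext_PP (by decide) (by decide +kernel)] at h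
    exact h
  have ef : Commute (g.ψ S0') (d.φ (S4 * S2)) := by
    have h := (g.ψ_A 2 0).map (MulAut.conj (d.φ T0)).toMonoidHom
    simp only [MulEquiv.coe_toMonoidHom, MulAut.conj_apply] at h
    have e1 : d.φ T0 * g.ψ (AA 0) * (d.φ T0)⁻¹ = g.ψ S0' := by
      rw [← g.ψT, ← map_inv, ← map_mul, ← map_mul]
      exact congrArg g.ψ (ext_PP (by decide +kernel) (by decide +kernel))
    have e2 : d.φ T0 * d.φ (AA 2) * (d.φ T0)⁻¹ = d.φ (S4 * S2) := by
      rw [← map_inv, ← map_mul, ← map_mul]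
      exact congrArg d.φ (ext_PP (by decide +kernel) (by decide +kernel))
    rw [e1, e2] at h
    exact h.symm
  have e : d.φ S2 = d.φ S4 * d.φ (S4 * S2) := by
    rw [← map_mul]
    exact congrArg d.φ (ext_PP (by decide +kernel) (by decide +kernel))
  rw [e]
  exact e4.mul_right ef

def chain : Chain G where
  z := d.φ Z0
  s := g.s
  z3 := by rw [← map_mul, ← map_mul, show Z0 * Z0 * Z0 = 1 from ext_PP (by decide) (by decide), map_one]
  sq := fun k hk => by
    rcases k with _ | _ | _ | _ | _ | k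
    all_goals first | omega | skip
    all_goals
      refine (map_mul _ _ _).symm.trans ((congrArg _ ?_).trans (map_one _))
      exact ext_PP (by decide +kernel) (by decide +kernel)
  braid := fun k hk => by
    rcases k with _ | _ | _ | _ | k
    all_goals first | omega | skip
    · simp only [s, ← g.ψT, ← map_mul]
      exact congrArg _ (ext_PP (by decide +kernel) (by decide +kernel))
    all_goals
      simp only [s, ← map_mul]
      exact congrArg _ (ext_PP (by decide +kernel) (by decide +kernel))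
  comm := fun k l hk hl h => by
    rcases k with _ | _ | _ | k <;> rcases l with _ | _ | _ | _ | _ | l
    all_goals first | omega | skip
    · exact g.s_comm02
    · show Commute (g.ψ S0') (d.φ J0)
      rw [← g.ψJ]; exact (show Commute S0' J0 from ext_PP (by decide +kernel) (by decide +kernel)).map g.ψ
    · show Commute (g.ψ S0') (d.φ S4)
      have e : g.ψ (Z0 * J0 * Z0⁻¹) = d.φ (W0 * J0 * W0⁻¹) := by
        rw [map_mul, map_mul, map_inv, g.ψZ, g.ψJ, ← map_inv, ← map_mul, ← map_mul]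
      rw [show S4 = W0 * J0 * W0⁻¹ from ext_PP (by decide) (by decide +kernel), ← e]
      exact (show Commute S0' (Z0 * J0 * Z0⁻¹) from ext_PP (by decide +kernel) (by decide +kernel)).map g.ψ
    · exact (show Commute T0 J0 from ext_PP (by decide +kernel) (by decide +kernel)).map d.φ
    · exact (show Commute T0 S4 from ext_PP (by decide +kernel) (by decide +kernel)).map d.φ
    · exact (show Commute S2 S4 from ext_PP (by decide +kernel) (by decide +kernel)).map d.φ
  inv := fun k h1 hk => by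
    rcases k with _ | _ | _ | _ | _ | k
    all_goals first | omega | skip
    all_goals
      simp only [s, ← map_mul, ← map_inv]
      exact congrArg _ (ext_PP (by decide +kernel) (by decide +kernel))
  base := by
    simp only [s, ← g.ψW, ← map_mul, ← map_inv]
    rw [← map_one g.ψ]
    exact congrArg _ (ext_PP (by decide +kernel) (by decide +kernel))
  word := by
    simp only [s, ← g.ψW, ← map_mul, ← map_inv]
    exact congrArg _ (ext_PP (by decide +kernel) (by decide +kernel))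

/-- the embedding of the alternating group of degree eight -/
theorem exists_emb : ∃ θ : alternatingGroup (Fin 8) →* G, Function.Injective θ ∧
    (∀ i : Fin 6, θ (gcyc 6 i) = g.chain.v i.val) := by
  obtain ⟨θ, hθ⟩ := g.chain.exists_hom
  refine ⟨θ, ?_, hθ⟩
  haveI := alternatingGroup.isSimpleGroup (α := Fin 8) (by simp)
  rw [← MonoidHom.ker_eq_bot_iff]
  refine (IsSimpleGroup.eq_bot_or_eq_top_of_normal θ.ker inferInstance).resolve_right fun h => ?_
  have h0 := MonoidHom.mem_ker.1 (h ▸ mem_top (gcyc 6 0) : gcyc 6 0 ∈ θ.ker)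
  rw [hθ] at h0
  change d.φ Z0 = 1 at h0
  exact absurd (congrArg pr3 (d.inj (h0.trans (map_one d.φ).symm))) (by decide)

theorem five_gen (S : Subgroup (Perm (Fin 5))) (h1 : swap 3 4 ∈ S) (h2 : swap 0 4 ∈ S) (h3 : swap 0 1 ∈ S)
    (h4 : swap 1 2 ∈ S) : S = ⊤ := by
  have tr : ∀ {a b c : Fin 5}, swap a b ∈ S → swap b c ∈ S → swap a b * swap b c * swap a b ∈ S :=
    fun ha hb => mul_mem (mul_mem ha hb) ha
  have h02 : swap 0 2 ∈ S := by
    have := tr h3 h4; rwa [show swap 0 1 * swap 1 2 * swap 0 1 = (swap 0 2 : Perm (Fin 5)) by decide +kernel] at this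
  have h03 : swap 0 3 ∈ S := by
    have := tr h2 (swap_comm (3 : Fin 5) 4 ▸ h1)
    rwa [show swap 0 4 * swap 4 3 * swap 0 4 = (swap 0 3 : Perm (Fin 5)) by decide +kernel] at this
  have star : ∀ a : Fin 5, swap 0 a ∈ S := by
    intro a
    fin_cases a
    · exact (show swap (0 : Fin 5) 0 = 1 by decide) ▸ one_mem S
    · exact h3
    · exact h02
    · exact h03
    · exact h2
  rw [eq_top_iff, ← Equiv.Perm.closure_isSwap, closure_le]
  rintro σ ⟨a, b, hab, rfl⟩
  by_cases ha : a = 0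
  · subst ha; exact star b
  by_cases hb : b = 0
  · subst hb; rw [swap_comm]; exact star a
  · have := tr (swap_comm (0 : Fin 5) a ▸ star a) (star b)
    have key : ∀ a b : Fin 5, a ≠ b → a ≠ 0 → b ≠ 0 → swap a 0 * swap 0 b * swap a 0 = swap a b := by decide +kernel
    rwa [key a b hab ha hb] at this

/-- a subgroup of the model with full image on five letters and containing the centre is everything -/
theorem pp_top (H : Subgroup PP) (hz : Z0 ∈ H) (h5 : H.map pr5 = ⊤) : H = ⊤ := by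
  rw [eq_top_iff]
  intro p _
  obtain ⟨h, hh, e⟩ := (h5 ▸ mem_top (pr5 p) : pr5 p ∈ H.map pr5)
  have hk : pr5 (h⁻¹ * p) = 1 := by rw [map_mul, map_inv, e, inv_mul_cancel]
  have k3 : ∀ σ : Perm (Fin 3), Perm.sign σ = 1 → ∃ i : Fin 3, σ = c012 0 1 2 ^ i.val := by decide
  obtain ⟨i, hi⟩ := k3 (pr3 (h⁻¹ * p)) ((sign_eq _).trans (by rw [← pr5_apply, hk, map_one]))
  have : h⁻¹ * p = Z0 ^ i.val := pp_eq (by rw [map_pow]; exact hi) (by rw [hk, map_pow]; exact (one_pow _).symm)
  rw [show p = h * (h⁻¹ * p) by group, this]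
  exact mul_mem hh (pow_mem hz _)

/-- what is used about the copy -/
structure Copy (d : Data G) where
  θ : alternatingGroup (Fin 8) →* G
  inj : Function.Injective θ
  hφ : ∀ p, d.φ p ∈ θ.range
  hb : d.b ∈ θ.range
  hz : θ (gcyc 6 0) = d.φ Z0
  hT : θ (gcyc 6 1 * gcyc 6 2 * gcyc 6 2 * gcyc 6 1) = d.φ T0
  hS2 : θ (gcyc 6 2 * gcyc 6 3 * gcyc 6 3 * gcyc 6 2) = d.φ S2
  hJ : θ (gcyc 6 3 * gcyc 6 4 * gcyc 6 4 * gcyc 6 3) = d.φ J0
  hS4 : θ (gcyc 6 4 * gcyc 6 5 * gcyc 6 5 * gcyc 6 4) = d.φ S4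

theorem exists_copy (g : Glue d) : Nonempty (Copy d) := by
  obtain ⟨θ, hinj, hθ⟩ := g.exists_emb
  have hw : ∀ (k : Fin 6) (l : Fin 6), l.val = k.val + 1 →
      θ (gcyc 6 k * gcyc 6 l * gcyc 6 l * gcyc 6 k) = g.s k.val := fun k l e => by
    rw [map_mul, map_mul, map_mul, hθ, hθ, e]
    exact (g.chain.word_all k.val (by omega)).symm
  have hz : θ (gcyc 6 0) = d.φ Z0 := hθ 0
  set H := θ.range.comap d.φ with hH
  have hs : ∀ (k l : Fin 6), l.val = k.val + 1 → g.s k.val ∈ θ.range := fun k l e => ⟨_, hw k l e⟩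
  have hφ : ∀ p, d.φ p ∈ θ.range := by
    have htop : H = ⊤ := by
      refine pp_top H ⟨_, hz⟩ ?_
      refine five_gen _ ⟨T0, hs 1 2 rfl, by decide +kernel⟩ ⟨S2, hs 2 3 rfl, by decide +kernel⟩
        ⟨J0, hs 3 4 rfl, by decide +kernel⟩ ⟨S4, hs 4 5 rfl, by decide +kernel⟩
    exact fun p => (htop ▸ mem_top p : p ∈ H)
  refine ⟨⟨θ, hinj, hφ, ?_, hz, hw 1 2 rfl, hw 2 3 rfl, hw 3 4 rfl, hw 4 5 rfl⟩⟩
  -- an element of the copy carrying `z` to `w`
  let u : alternatingGroup (Fin 8) := ⟨swap 0 5 * swap 1 6 * swap 2 7 * swap 3 4, by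
    rw [Equiv.Perm.mem_alternatingGroup]; decide +kernel⟩
  have hu : u * gcyc 6 0 * u⁻¹ = (gcyc 6 3 * gcyc 6 4 * gcyc 6 4 * gcyc 6 3) * (gcyc 6 4 * gcyc 6 5 * gcyc 6 5 * gcyc 6 4) := by
    refine Subtype.ext ?_
    simp only [Subgroup.coe_mul, Subgroup.coe_inv, gcyc6, u]
    decide +kernel
  have hw0 : θ u * d.φ Z0 * (θ u)⁻¹ = d.φ W0 := by
    have e := congrArg θ hu
    rw [map_mul, map_mul, map_inv, hz, map_mul θ (gcyc 6 3 * gcyc 6 4 * gcyc 6 4 * gcyc 6 3), hw 3 4 rfl, hw 4 5 rfl] at e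
    rw [e]
    show d.φ J0 * d.φ S4 = _
    rw [← map_mul]
    exact congrArg d.φ (ext_PP (by decide) (by decide +kernel))
  obtain ⟨q, hq⟩ := d.hN ((θ u)⁻¹ * d.b) (Or.inl (by
    rw [mul_inv_rev, inv_inv, d.binv]
    calc (θ u)⁻¹ * d.b * d.φ Z0 * (d.b * θ u) = (θ u)⁻¹ * (d.b * d.φ Z0 * d.b) * θ u := by group
      _ = (θ u)⁻¹ * (θ u * d.φ Z0 * (θ u)⁻¹) * θ u := by rw [d.hbz, hw0]
      _ = d.φ Z0 := by group))
  rw [show d.b = θ u * d.φ q by rw [hq]; group]
  exact mul_mem ⟨u, rfl⟩ (hφ q)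

end Glue

end Cfsg.Agent.Lead.AltEightLocal
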