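import Cfsg.Agent.Lib.Lead.AltEightLocal.Setup
import Cfsg.Agent.Lib.Solv.MaxClass
import Cfsg.Agent.S0058
import Cfsg.Agent.Lib.Fusion.OrderFormula

/-!
The two classes of involutions and the kernel in the centraliser of the four-group.
-/

set_option autoImplicit false
set_option maxRecDepth 100000

namespace Cfsg.Agent.Lead.AltEightLocal

open Subgroup Equiv

/-- an element of order four -/
def C4a : PP := el (swap 0 1) (swap 0 2 * swap 1 3 * swap 2 3)
def J1 : PP := el (swap 0 1) (swap 2 3)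

/-- a Sylow two-subgroup of the model -/
def TT : Subgroup PP :=
  ((centralizer ({swap 0 1} : Set (Perm (Fin 3)))).comap pr3 ⊓
    (MulAction.stabilizer (Perm (Fin 5)) (4 : Fin 5)).comap pr5) ⊓ centralizer ({A0} : Set PP)

theorem mem_TT {p : PP} : p ∈ TT ↔ p.1.1 * swap 0 1 = swap 0 1 * p.1.1 ∧ p.1.2 4 = 4 ∧ p * A0 = A0 * p := by
  simp only [TT, mem_inf, mem_comap, mem_centralizer_singleton_iff, MulAction.mem_stabilizer_iff, pr3_apply,
    pr5_apply, Perm.smul_def, and_assoc]

def TTlist : Fin 8 → PP := ![1, A0, A1, A2, J0, J1, C4a, C4a⁻¹]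

theorem TT_spec (p : PP) : p ∈ TT ↔ ∃ i, p = TTlist i := by
  constructor
  · intro h
    obtain ⟨h3, h4, h5⟩ := mem_TT.1 h
    have k3 : ∀ σ : Perm (Fin 3), σ * swap 0 1 = swap 0 1 * σ → σ = 1 ∨ σ = swap 0 1 := by decide
    have k5 : ∀ π : Perm (Fin 5), π 4 = 4 → π * (swap 0 1 * swap 2 3) = swap 0 1 * swap 2 3 * π →
        (Perm.sign π = 1 ∧ π ∈ ([1, swap 0 1 * swap 2 3, swap 0 2 * swap 1 3, swap 0 3 * swap 1 2] : List (Perm (Fin 5)))) ∨
        (Perm.sign π = -1 ∧ π ∈ ([swap 0 1, swap 2 3, swap 0 2 * swap 1 3 * swap 2 3,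
          (swap 0 2 * swap 1 3 * swap 2 3)⁻¹] : List (Perm (Fin 5)))) := by decide +kernel
    have hs := sign_eq p
    rcases k5 _ h4 (val2 h5) with ⟨e1, e2⟩ | ⟨e1, e2⟩ <;> rcases k3 _ h3 with e3 | e3 <;>
      simp only [List.mem_cons, List.not_mem_nil, or_false] at e2
    · rcases e2 with e | e | e | e
      · exact ⟨0, ext_PP e3 e⟩
      · exact ⟨1, ext_PP e3 e⟩
      · exact ⟨2, ext_PP e3 e⟩
      · exact ⟨3, ext_PP e3 e⟩
    · rw [e3, e1] at hs; exact absurd hs (by decide)
    · rw [e3, e1, map_one] at hs; exact absurd hs (by decide)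
    · rcases e2 with e | e | e | e
      · exact ⟨4, ext_PP e3 e⟩
      · exact ⟨5, ext_PP e3 e⟩
      · exact ⟨6, ext_PP e3 e⟩
      · exact ⟨7, ext_PP (e3.trans (by decide)) e⟩
  · rintro ⟨i, rfl⟩
    rw [mem_TT]
    fin_cases i <;> exact ⟨by decide +kernel, by decide +kernel, ext_PP (by decide +kernel) (by decide +kernel)⟩

theorem card_TT : Nat.card TT = 8 := by
  have k : ∀ i j : Fin 8, (TTlist i).1.2 = (TTlist j).1.2 → i = j := by decide +kernel
  rw [← Nat.card_congr (Equiv.ofBijective (fun i : Fin 8 => (⟨TTlist i, (TT_spec _).2 ⟨i, rfl⟩⟩ : TT)) ⟨?_, ?_⟩)]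
  · simp
  · exact fun i j h => k i j (val2 (congrArg Subtype.val h))
  · rintro ⟨p, hp⟩
    obtain ⟨i, rfl⟩ := (TT_spec p).1 hp
    exact ⟨i, rfl⟩

variable {G : Type*} [Group G] [Finite G] (d : Data G)

namespace Data

theorem binv : d.b⁻¹ = d.b := inv_eq_of_mul_eq_one_right d.hb

/-- conjugation by the involution -/
theorem bb (x : G) : d.b * (d.b * x * d.b) * d.b = x := by
  calc d.b * (d.b * x * d.b) * d.b = (d.b * d.b) * x * (d.b * d.b) := by group
    _ = x := by rw [d.hb, one_mul, mul_one]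

theorem bmul (x y : G) : d.b * (x * y) * d.b = (d.b * x * d.b) * (d.b * y * d.b) := by
  calc d.b * (x * y) * d.b = d.b * x * (d.b * d.b) * y * d.b := by rw [d.hb, mul_one]; group
    _ = _ := by group

theorem bw : d.b * d.φ W0 * d.b = d.φ Z0 := by rw [← d.hbz, d.bb]

theorem zw_comm : Commute (d.φ Z0) (d.φ W0) := (show Commute Z0 W0 from ZW_comm).map d.φ

theorem cent_z {g : G} (h : Commute g (d.φ Z0)) : ∃ p, p * Z0 = Z0 * p ∧ g = d.φ p := by
  obtain ⟨p, rfl⟩ := d.hN g (Or.inl (by rw [h.eq, mul_inv_cancel_right]))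
  exact ⟨p, d.inj (by rw [map_mul, map_mul]; exact h.eq), rfl⟩

theorem inv_z {g : G} (hg : g * g = 1) (h : g * d.φ Z0 * g = (d.φ Z0)⁻¹) :
    ∃ p, p * p = 1 ∧ p * Z0 * p = Z0⁻¹ ∧ g = d.φ p := by
  obtain ⟨p, rfl⟩ := d.hN g (Or.inr (by rw [inv_eq_of_mul_eq_one_right hg]; exact h))
  exact ⟨p, d.inj (by rw [map_mul, hg, map_one]), d.inj (by rw [map_mul, map_mul, map_inv]; exact h), rfl⟩

theorem hD {g : G} (h1 : Commute g (d.φ Z0)) (h2 : Commute g (d.φ W0)) :
    ∃ p ∈ centralizer ({Z0, W0} : Set PP), g = d.φ p := by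
  obtain ⟨p, hp, rfl⟩ := d.cent_z h1
  refine ⟨p, ?_, rfl⟩
  rw [mem_centralizer_iff]
  rintro x (rfl | rfl)
  · exact hp.symm
  · exact d.inj (by rw [map_mul, map_mul]; exact h2.eq.symm)

/-- the class of the involutions of the alternating factor -/
def IsA (g : G) : Prop := IsConj (d.φ A0) g

theorem isA_conj {g : G} (h : d.IsA g) (x : G) : d.IsA (x * g * x⁻¹) := h.trans (isConj_iff.2 ⟨x, rfl⟩)

theorem isA_map {p q : PP} (r : PP) (h : r * p * r⁻¹ = q) (hp : d.IsA (d.φ p)) : d.IsA (d.φ q) := by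
  rw [← h, map_mul, map_mul, map_inv]
  exact d.isA_conj hp _

theorem isA_A0 : d.IsA (d.φ A0) := IsConj.refl _

theorem isA_A1 : d.IsA (d.φ A1) :=
  d.isA_map W0⁻¹ (ext_PP (by decide) (by decide +kernel)) d.isA_A0

theorem isA_A2 : d.IsA (d.φ A2) :=
  d.isA_map W0 (ext_PP (by decide) (by decide +kernel)) d.isA_A0

theorem isA_T1 : d.IsA (d.φ T1) :=
  d.isA_map (el (swap 0 1) (swap 2 4)) (ext_PP (by decide) (by decide +kernel)) d.isA_A0

theorem bT0 : ∃ x : PP, d.φ x = d.b * d.φ T0 * d.b ∧ x * x = 1 ∧ x * Z0 = Z0 * x ∧ x * W0 * x = W0⁻¹ := by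
  have hT : d.φ T0 * d.φ T0 = 1 := by rw [← map_mul, show T0 * T0 = 1 from ext_PP (by decide) (by decide), map_one]
  have hTW : Commute (d.φ T0) (d.φ W0) := (show Commute T0 W0 from ext_PP (by decide) (by decide +kernel)).map d.φ
  have hc : Commute (d.b * d.φ T0 * d.b) (d.φ Z0) := by
    have h := congrArg (fun u => d.b * u * d.b) hTW.eq
    simp only [d.bmul, d.bw] at h
    exact h
  obtain ⟨x, hx, e⟩ := d.cent_z hc
  refine ⟨x, e.symm, d.inj ?_, hx, d.inj ?_⟩
  · rw [map_mul, ← e, map_one, ← d.bmul, hT, mul_one, d.hb]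
  · rw [map_mul, map_mul, map_inv, ← e, ← d.hbz, ← d.bmul, ← d.bmul, ← map_mul, ← map_mul]
    conv_rhs => rw [mul_inv_rev, mul_inv_rev, d.binv, ← mul_assoc, ← map_inv]
    rw [show T0 * Z0 * T0 = Z0⁻¹ from ext_PP (by decide) (by decide)]

theorem isA_T0 : d.IsA (d.φ T0) := by
  obtain ⟨x, e, h0, h1, h2⟩ := d.bT0
  obtain ⟨-, m, rfl⟩ := invol_cz x h0 h1 h2
  have := d.isA_conj (d.isA_map (W0 ^ m.val) rfl d.isA_T1) d.b
  rwa [e, d.binv, d.bb] at this

theorem isA_J0 : d.IsA (d.φ J0) :=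
  d.isA_map (el 1 (swap 0 3 * swap 1 4)) (ext_PP (by decide) (by decide +kernel)) d.isA_T0

theorem isA_J1 : d.IsA (d.φ J1) :=
  d.isA_map A1 (ext_PP (by decide) (by decide +kernel)) d.isA_J0

theorem TT_invol {p : PP} (hp : p ∈ TT) (h2 : p * p = 1) (h1 : p ≠ 1) : d.IsA (d.φ p) := by
  obtain ⟨i, rfl⟩ := (TT_spec p).1 hp
  fin_cases i
  · exact absurd rfl h1
  · exact d.isA_A0
  · exact d.isA_A1
  · exact d.isA_A2
  · exact d.isA_J0
  · exact d.isA_J1
  · exact absurd (congrArg pr5 h2) (by rw [map_mul, map_one]; decide +kernel)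
  · exact absurd (congrArg pr5 h2) (by rw [map_mul, map_one]; decide +kernel)

/-- Sylow three-subgroups of centralisers inside `C(z)` -/
theorem three_sylow (H : Subgroup G) (hz : d.φ Z0 ∈ H)
    (hH : ∀ p : PP, p * Z0 = Z0 * p → d.φ p ∈ H → p * p * p = 1 → pr5 p = 1) :
    ∃ P : Sylow 3 H, (P : Subgroup H).map H.subtype = zpowers (d.φ Z0) := by
  haveI : Fact (Nat.Prime 3) := ⟨Nat.prime_three⟩
  have h3 : IsPGroup 3 (zpowers (⟨d.φ Z0, hz⟩ : H)) := by
    refine IsPGroup.of_card (n := 1) ?_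
    rw [Nat.card_zpowers, Subgroup.orderOf_mk, orderOf_injective d.φ d.inj, pow_one]
    exact orderOf_eq_prime Z0_pow fun e => absurd (congrArg pr3 e) (by decide)
  obtain ⟨P, hP⟩ := h3.exists_le_sylow
  refine ⟨P, le_antisymm ?_ ?_⟩
  · rintro _ ⟨g, hg, rfl⟩
    have hcard : Nat.card (P : Subgroup H) ∣ 9 := by
      obtain ⟨k, hk⟩ := IsPGroup.iff_card.1 P.2
      rw [hk]
      by_contra hc
      have hk3 : 3 ≤ k := by
        by_contra h
        exact hc ((Nat.pow_dvd_pow 3 (show k ≤ 2 by omega)))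
      exact d.h27 (((Nat.pow_dvd_pow 3 hk3).trans (hk ▸ card_subgroup_dvd_card (P : Subgroup H))).trans
        (card_subgroup_dvd_card H))
    haveI : IsMulCommutative (P : Subgroup H) := by
      obtain ⟨k, hk, hk'⟩ := (Nat.dvd_prime_pow Nat.prime_three (m := 2)).1 hcard
      interval_cases k
      · haveI : Subsingleton (P : Subgroup H) := Finite.card_le_one_iff_subsingleton.1 (by rw [hk']; norm_num)
        exact ⟨⟨fun a b => Subsingleton.elim _ _⟩⟩
      · haveI := isCyclic_of_prime_card (α := (P : Subgroup H)) (p := 3) (by rw [hk', pow_one])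
        infer_instance
      · exact IsPGroup.isMulCommutative_of_card_eq_prime_sq hk'
    have hc : Commute (g : G) (d.φ Z0) := congrArg (fun u : (P : Subgroup H) => ((u : H) : G))
      (IsMulCommutative.is_comm.comm (⟨g, hg⟩ : (P : Subgroup H)) ⟨_, hP (mem_zpowers _)⟩)
    obtain ⟨p, hp, e⟩ := d.cent_z hc
    obtain ⟨k, hk⟩ := P.2 ⟨g, hg⟩
    have hgk : (g : G) ^ 3 ^ k = 1 := congrArg (fun u : (P : Subgroup H) => ((u : H) : G)) hk
    have hpk : p ^ 3 ^ k = 1 := d.inj (by rw [map_pow, ← e, hgk, map_one])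
    have hp3 : p * p * p = 1 := by
      have k3 : ∀ σ : Perm (Fin 3), σ * c012 0 1 2 = c012 0 1 2 * σ → σ * σ * σ = 1 ∧ Perm.sign σ = 1 := by decide
      obtain ⟨e1, e2⟩ := k3 _ (val1 hp)
      have k5 : ∀ π : Perm (Fin 5), Perm.sign π = 1 → π * π * π = 1 ∨ π * π = 1 ∨ π * π * π * π * π = 1 := by
        decide +kernel
      have h5 := congrArg pr5 hpk
      rw [map_pow, map_one] at h5
      refine ext_PP e1 ?_
      have hcop : ∀ n : ℕ, Nat.Coprime n 3 → (pr5 p) ^ n = 1 → pr5 p = 1 := fun n hn h => by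
        have hd : orderOf (pr5 p) ∣ Nat.gcd n (3 ^ k) :=
          Nat.dvd_gcd (orderOf_dvd_of_pow_eq_one h) (orderOf_dvd_of_pow_eq_one h5)
        rw [(hn.pow_right k).gcd_eq_one, Nat.dvd_one, orderOf_eq_one_iff] at hd
        exact hd
      rcases k5 _ ((sign_eq p).symm.trans e2) with h | h | h
      · exact h
      · show pr5 p * pr5 p * pr5 p = 1
        rw [hcop 2 (by norm_num) (by rw [pow_two]; exact h), one_mul, one_mul]
      · show pr5 p * pr5 p * pr5 p = 1
        rw [hcop 5 (by norm_num) (by simp only [pow_succ, pow_zero, one_mul]; exact h), one_mul, one_mul]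
    have hπ := hH p hp (e ▸ g.2) hp3
    have k3 : ∀ σ : Perm (Fin 3), σ * c012 0 1 2 = c012 0 1 2 * σ → ∃ i : Fin 3, σ = c012 0 1 2 ^ i.val := by decide
    obtain ⟨i, hi⟩ := k3 _ (val1 hp)
    show (g : G) ∈ _
    rw [e, show p = Z0 ^ i.val from ext_PP (by simpa [Z0, el] using hi) (by simpa [Z0, el, pr5_apply] using hπ),
      map_pow]
    exact pow_mem (mem_zpowers _) _
  · exact zpowers_le.2 ⟨_, hP (mem_zpowers _), rfl⟩

theorem z_five : HasFive (d.φ Z0) :=
  ⟨d.φ F5, by rw [orderOf_injective d.φ d.inj, F5_facts.1], F5_facts.2.map d.φ⟩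

theorem zw_not_five : ¬ HasFive (d.φ Z0 * d.φ W0) := not_five d.h18

/-- the two classes differ -/
theorem not_isA_b : ¬ d.IsA d.b := by
  intro h
  obtain ⟨g, hg⟩ := isConj_iff.1 (h : IsConj (d.φ A0) d.b)
  haveI : Fact (Nat.Prime 3) := ⟨Nat.prime_three⟩
  set H := centralizer ({d.φ A0} : Set G) with hH
  have hz : d.φ Z0 ∈ H := mem_centralizer_singleton_iff.2
    ((show Commute Z0 A0 from ext_PP (by decide) (by decide)).map d.φ).eq
  obtain ⟨P, hP⟩ := d.three_sylow H hz (fun p hp hm h3 => by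
    have k : ∀ π : Perm (Fin 5), Perm.sign π = 1 → π * π * π = 1 →
        π * (swap 0 1 * swap 2 3) = swap 0 1 * swap 2 3 * π → π = 1 := by decide +kernel
    have k3 : ∀ σ : Perm (Fin 3), σ * c012 0 1 2 = c012 0 1 2 * σ → Perm.sign σ = 1 := by decide
    refine k _ ((sign_eq p).symm.trans (k3 _ (val1 hp))) (val2 h3) (val2 (?_ : p * A0 = A0 * p))
    exact d.inj (by rw [map_mul, map_mul]; exact mem_centralizer_singleton_iff.1 hm))
  set y := d.φ Z0 * d.φ W0 with hy
  have hby : Commute d.b y := by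
    have e : d.b * y * d.b = y := by rw [hy, d.bmul, d.hbz, d.bw]; exact d.zw_comm.symm.eq
    show d.b * y = y * d.b
    calc d.b * y = d.b * y * (d.b * d.b) := by rw [d.hb, mul_one]
      _ = (d.b * y * d.b) * d.b := by group
      _ = y * d.b := by rw [e]
  have hy' : g⁻¹ * y * g ∈ H := by
    rw [hH, mem_centralizer_singleton_iff]
    calc g⁻¹ * y * g * d.φ A0 = g⁻¹ * (y * (g * d.φ A0 * g⁻¹)) * g := by group
      _ = g⁻¹ * ((g * d.φ A0 * g⁻¹) * y) * g := by rw [hg, hby.eq]
      _ = d.φ A0 * (g⁻¹ * y * g) := by group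
  have hy3 : (g⁻¹ * y * g) ^ 3 = 1 := by
    rw [show g⁻¹ * y * g = g⁻¹ * y * g⁻¹⁻¹ by group, conj_pow, hy, d.zw_comm.mul_pow, ← map_pow, ← map_pow,
      Z0_pow, W0_pow, map_one, one_mul]; group
  have hp : IsPGroup 3 (zpowers (⟨_, hy'⟩ : H)) := by
    obtain ⟨k, -, hk⟩ := (Nat.dvd_prime_pow Nat.prime_three (m := 1)).1
      (orderOf_dvd_of_pow_eq_one (show (⟨_, hy'⟩ : H) ^ 3 ^ 1 = 1 from Subtype.ext (by simpa using hy3)))
    exact IsPGroup.of_card (n := k) (by rw [Nat.card_zpowers, hk])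
  obtain ⟨Q, hQ⟩ := hp.exists_le_sylow
  obtain ⟨u, hu⟩ := MulAction.exists_smul_eq H P Q
  have hm : (⟨_, hy'⟩ : H) ∈ ((u • P : Sylow 3 H) : Subgroup H) := hu ▸ hQ (mem_zpowers _)
  rw [Sylow.coe_subgroup_smul, Subgroup.mem_smul_pointwise_iff_exists] at hm
  obtain ⟨v, hv, huv⟩ := hm
  have hv' : (v : G) ∈ zpowers (d.φ Z0) := hP ▸ ⟨v, hv, rfl⟩
  have e : g⁻¹ * y * g = (u : G) * v * (u : G)⁻¹ := (congrArg Subtype.val huv).symm
  obtain ⟨k, hk⟩ := mem_zpowers_iff.1 hv'
  refine d.zw_not_five ?_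
  have h5 : HasFive (v : G) := by
    obtain ⟨f, hf, hc⟩ := d.z_five
    exact ⟨f, hf, hk ▸ hc.zpow_right k⟩
  have := h5.conj (g * (u : G))
  rwa [show g * (u : G) * v * (g * (u : G))⁻¹ = g * ((u : G) * v * (u : G)⁻¹) * g⁻¹ by group, ← e,
    show g * (g⁻¹ * y * g) * g⁻¹ = y by group] at this

theorem b_ne_one : d.b ≠ 1 := by
  intro h
  have e := d.hbz
  rw [h, one_mul, mul_one] at e
  exact absurd (congrArg pr3 (d.inj e)) (by decide)

/-- a two-subgroup with a small centraliser of order at least sixteen cannot contain the two reflections -/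
theorem fuse {S : Subgroup G} (hS : IsPGroup 2 S) (h16 : 16 ≤ Nat.card S)
    (hsm : ∃ v : S, Nat.card (centralizer ({v} : Set S)) ≤ 4)
    (hb : d.b ∈ S) (ht : d.φ T0 ∈ S) : d.IsA d.b := by
  haveI : Fact (Nat.Prime 2) := ⟨Nat.prime_two⟩
  obtain ⟨k, hk⟩ := IsPGroup.iff_card.1 hS
  obtain ⟨n, rfl⟩ : ∃ n, k = n + 4 := ⟨k - 4, by
    have : 4 ≤ k := by
      by_contra h
      have := Nat.pow_le_pow_right (show 1 ≤ 2 by norm_num) (show k ≤ 3 by omega)
      omega
    omega⟩
  obtain ⟨v, hv⟩ := hsm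
  have hne' : (⊤ : Subgroup S).lowerCentralSeries (n + 2) ≠ ⊥ :=
    Solv.lcs_ne_bot_of_small_centralizer (p := 2) (n + 2) (by rw [hk]) ⟨v, by simpa using hv⟩
  obtain ⟨x, hx⟩ := Solv.exists_cyclic_index_two (n + 1) (G := S) (by rw [hk]) hne'
  obtain ⟨px, hpx, hpx1, hpx2, hpx3⟩ := d.bT0
  obtain ⟨hxT, -, -⟩ := invol_cz px hpx1 hpx2 hpx3
  set B : S := ⟨d.b, hb⟩ with hB
  set T : S := ⟨d.φ T0, ht⟩ with hT
  have hB2 : B * B = 1 := Subtype.ext d.hb
  have hT2 : T * T = 1 := Subtype.ext (by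
    show d.φ T0 * d.φ T0 = 1
    rw [← map_mul, show T0 * T0 = 1 from ext_PP (by decide) (by decide), map_one])
  have hcomm : Commute (B * T * B) T := Subtype.ext (by
    show d.b * d.φ T0 * d.b * d.φ T0 = d.φ T0 * (d.b * d.φ T0 * d.b)
    rw [← hpx, ← map_mul, hxT, map_mul])
  have hne : B * T * B * T ≠ 1 := by
    intro e
    have e' := congrArg Subtype.val e
    simp only [Subgroup.coe_mul, Subgroup.coe_one, hB, hT] at e'
    rw [← hpx, ← map_mul, ← map_one d.φ] at e'
    have e'' := d.inj e'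
    have hxe : px = T0 := by
      rw [eq_inv_of_mul_eq_one_left e'']
      exact inv_eq_of_mul_eq_one_right (ext_PP (by decide) (by decide))
    rw [hxe] at hpx2
    exact absurd (congrArg pr3 hpx2) (by rw [map_mul, map_mul]; decide)
  set X := zpowers x with hX
  have hidx : X.index = 2 := by
    have h := X.card_mul_index
    rw [hX, Nat.card_zpowers, hx, hk, pow_succ 2 (n + 3)] at h
    exact Nat.eq_of_mul_eq_mul_left (pow_pos two_pos _) h
  have hBX : B ∉ X := by
    intro h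
    -- an involution of a normal cyclic subgroup is central
    haveI := Subgroup.normal_of_index_eq_two hidx
    have hT' : T * B * T⁻¹ = B := by
      obtain ⟨i, hi⟩ := mem_zpowers_iff.1 h
      obtain ⟨j, hj⟩ := mem_zpowers_iff.1 (Subgroup.Normal.conj_mem inferInstance B h T)
      have o1 : orderOf B = 2 := orderOf_eq_prime (by rw [pow_two, hB2]) fun e => d.b_ne_one (congrArg Subtype.val e)
      have o2 : orderOf (T * B * T⁻¹) = 2 := by
        rw [← o1]; exact (MulEquiv.orderOf_eq (MulAut.conj T) B)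
      exact (Fusion.invol_unique_in_zpowers o2 (Subgroup.Normal.conj_mem inferInstance B h T)).trans
        (Fusion.invol_unique_in_zpowers o1 h).symm
    refine hne ?_
    have : T * B = B * T := mul_inv_eq_iff_eq_mul.1 hT'
    calc B * T * B * T = B * (T * B) * T := by group
      _ = (B * B) * (T * T) := by rw [this]; group
      _ = 1 := by rw [hB2, hT2, one_mul]
  have hTX : T ∉ X := by
    intro h
    haveI := Subgroup.normal_of_index_eq_two hidx
    have h2 : B * T * B⁻¹ ∈ X := Subgroup.Normal.conj_mem inferInstance T h B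
    rw [inv_eq_of_mul_eq_one_right hB2] at h2
    have o1 : orderOf T = 2 := orderOf_eq_prime (by rw [pow_two, hT2]) fun e =>
      absurd (congrArg pr3 (d.inj ((congrArg Subtype.val e).trans (map_one d.φ).symm))) (by decide)
    have o2 : orderOf (B * T * B) = 2 := orderOf_eq_prime (by
      rw [pow_two]
      calc B * T * B * (B * T * B) = B * T * (B * B) * T * B := by group
        _ = B * (T * T) * B := by rw [hB2, mul_one]; group
        _ = 1 := by rw [hT2, mul_one, hB2]) fun e => by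
      have e' : T = 1 := by
        calc T = (B * B) * T * (B * B) := by rw [hB2, one_mul, mul_one]
          _ = B * (B * T * B) * B := by group
          _ = 1 := by rw [e, mul_one, hB2]
      rw [e', orderOf_one] at o1
      norm_num at o1
    exact hne (by rw [(Fusion.invol_unique_in_zpowers o2 h2).trans (Fusion.invol_unique_in_zpowers o1 h).symm, hT2])
  have hr : B * T ∈ X := (Subgroup.mul_mem_iff_of_index_two hidx).2 (iff_of_false hBX hTX)
  -- a square root of `B * T`
  obtain ⟨i, hi⟩ := mem_zpowers_iff.1 hr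
  have hr4 : (B * T) ^ 4 = 1 := by
    calc (B * T) ^ 4 = (B * T * B * T) * (B * T * B * T) := by simp only [pow_succ, pow_zero, one_mul, mul_assoc]
      _ = (B * T * B) * (B * T * B) * (T * T) := by
          rw [mul_assoc (B * T * B) T, ← mul_assoc T (B * T * B) T, ← hcomm.eq]; group
      _ = 1 := by
          rw [hT2, mul_one]
          calc B * T * B * (B * T * B) = B * T * (B * B) * T * B := by group
            _ = B * (T * T) * B := by rw [hB2, mul_one]; group
            _ = 1 := by rw [hT2, mul_one, hB2]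
  have hpow : ((orderOf x : ℕ) : ℤ) ∣ i * 4 := by
    rw [orderOf_dvd_iff_zpow_eq_one, zpow_mul, hi]
    exact_mod_cast hr4
  have hpar : (2 : ℤ) ∣ i := by
    have h8 : (8 : ℤ) ∣ i * 4 := by
      refine Int.dvd_trans ?_ hpow
      rw [hx]
      exact ⟨2 ^ n, by push_cast; ring⟩
    omega
  obtain ⟨j, rfl⟩ := hpar
  set q := x ^ j with hq
  have hqq : q * q = B * T := by rw [← hi, hq, ← zpow_add]; ring_nf
  have hqX : q ∈ X := zpow_mem (mem_zpowers x) j
  haveI := Subgroup.normal_of_index_eq_two hidx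
  obtain ⟨e, he⟩ := mem_zpowers_iff.1 (show B * q * B⁻¹ ∈ X from Subgroup.Normal.conj_mem inferInstance q hqX B)
  -- `B` inverts `q * q`
  have hinv : B * (q * q) * B⁻¹ = (q * q)⁻¹ := by
    rw [hqq, inv_eq_of_mul_eq_one_right hB2, mul_inv_rev, inv_eq_of_mul_eq_one_right hB2,
      inv_eq_of_mul_eq_one_right hT2]
    calc B * (B * T) * B = B * B * T * B := by group
      _ = T * B := by rw [hB2, one_mul]
  have hcq : Commute (B * q * B⁻¹) q := by
    rw [← he, hq]; exact Commute.zpow_zpow_self x e j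
  set u := B * q * B⁻¹ with hu
  have hu2 : u * u = (q * q)⁻¹ := by rw [← hinv, hu]; group
  have hs : (u * q) * (u * q) = 1 := by
    calc u * q * (u * q) = u * (q * u) * q := by group
      _ = (u * u) * (q * q) := by rw [← hcq.eq]; group
      _ = 1 := by rw [hu2, inv_mul_cancel]
  -- `u q` lies in the cyclic group and squares to one
  have hq8 : q * q * q * q ≠ 1 := by
    intro e'
    refine hne ?_
    calc B * T * B * T = (q * q) * (q * q) := by rw [hqq]; group
      _ = 1 := by rw [← e']; group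
  have hfin : u * q = 1 ∨ u * q = q * q * q * q := by
    by_cases h1 : u * q = 1
    · exact Or.inl h1
    · right
      have hm1 : u * q ∈ X := mul_mem (Subgroup.Normal.conj_mem inferInstance q hqX B) hqX
      have hm2 : q * q * q * q ∈ X := mul_mem (mul_mem (mul_mem hqX hqX) hqX) hqX
      have h4 : q * q * q * q * (q * q * q * q) = 1 := by
        calc q * q * q * q * (q * q * q * q) = ((q * q)) ^ 4 := by simp only [pow_succ, pow_zero, one_mul, mul_assoc]
          _ = 1 := by rw [hqq, hr4]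
      exact (Fusion.invol_unique_in_zpowers (orderOf_eq_prime (by rw [pow_two, hs]) h1) hm1).trans
        (Fusion.invol_unique_in_zpowers (orderOf_eq_prime (by rw [pow_two, h4]) hq8) hm2).symm
  have hT' : T = B * (q * q) := by
    rw [hqq, ← mul_assoc, hB2, one_mul]
  have hBinv : B⁻¹ = B := inv_eq_of_mul_eq_one_right hB2
  obtain ⟨g, hg⟩ : ∃ g : S, g * B * g⁻¹ = T := by
    rcases hfin with e' | e'
    · -- inversion
      have eq1 : B * q = q⁻¹ * B := by
        have : u = q⁻¹ := eq_inv_of_mul_eq_one_left e'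
        rw [← this, hu]; group
      refine ⟨q⁻¹, ?_⟩
      rw [inv_inv, ← eq1, hT', mul_assoc]
    · -- semidihedral action
      have eq1 : B * q = q * q * q * B := by
        have : u = q * q * q := mul_right_cancel e'
        rw [← this, hu]; group
      have eq2 : B * q⁻¹ = (q * q * q)⁻¹ * B := by
        calc B * q⁻¹ = (q * B⁻¹)⁻¹ := by group
          _ = (q * B)⁻¹ := by rw [hBinv]
          _ = (B * (B * q) * B)⁻¹ := by
              congr 1
              calc q * B = B * B * q * B := by rw [hB2, one_mul]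
                _ = _ := by group
          _ = (B * (q * q * q * B) * B)⁻¹ := by rw [eq1]
          _ = (q * q * q)⁻¹ * B := by
              rw [show B * (q * q * q * B) * B = B * (q * q * q) * (B * B) by group, hB2, mul_one, mul_inv_rev, hBinv]
      refine ⟨q, ?_⟩
      rw [hT', mul_assoc q B, eq2, ← mul_assoc B (q) q, eq1, mul_assoc (q * q * q) B q, eq1]
      have h8 : q * q * q * q * (q * q * q * q) = 1 := by
        calc q * q * q * q * (q * q * q * q) = ((q * q)) ^ 4 := by simp only [pow_succ, pow_zero, one_mul, mul_assoc]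
          _ = 1 := by rw [hqq, hr4]
      calc q * ((q * q * q)⁻¹ * B) = q * q⁻¹ * q⁻¹ * q⁻¹ * B := by group
        _ = (q * q * q * q * (q * q * q * q)) * (q⁻¹ * q⁻¹) * B := by rw [h8, one_mul]; group
        _ = q * q * q * (q * q * q * B) := by
          simp only [mul_assoc]
          rw [mul_inv_cancel_left, mul_inv_cancel_left]
  have hB' : (g : G) * d.b * (g : G)⁻¹ = d.φ T0 := congrArg Subtype.val hg
  exact d.isA_T0.trans (isConj_iff.2 ⟨(g : G)⁻¹, by rw [← hB']; group⟩)

end Data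

end Cfsg.Agent.Lead.AltEightLocal
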