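import Cfsg.Agent.Lib.Lead.AltEightLocal.Fours

/-!
The kernel of the centraliser of the four-group, and the second copy of the normaliser.
-/

set_option autoImplicit false
set_option maxRecDepth 100000
set_option linter.style.haveILetI false

namespace Cfsg.Agent.Lead.AltEightLocal

open Subgroup Equiv
open scoped Pointwise

def AA : Fin 3 → PP := ![A0, A1, A2]
def BB : Fin 3 → PP := ![B0, B1, B2]

theorem AA_conj (i : Fin 3) : ∀ m : Fin 3, W0 ^ m.val * AA i * (W0 ^ m.val)⁻¹ ∈ ({A0, A1, A2} : Set PP) := by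
  have key : ∀ i m : Fin 3, (c012 0 1 2 : Perm (Fin 5)) ^ m.val * (AA i).1.2 * ((c012 0 1 2) ^ m.val)⁻¹ ∈
      ([A0.1.2, A1.1.2, A2.1.2] : List (Perm (Fin 5))) := by decide +kernel
  intro m
  have hk := key i m
  have h3 : ∀ i, (AA i).1.1 = 1 := by decide +kernel
  have e : pr3 (W0 ^ m.val * AA i * (W0 ^ m.val)⁻¹) = 1 := by
    rw [map_mul, map_mul, map_inv, show pr3 (AA i) = 1 from h3 i, mul_one, mul_inv_cancel]
  have e5 : pr5 (W0 ^ m.val * AA i * (W0 ^ m.val)⁻¹) = (c012 0 1 2 : Perm (Fin 5)) ^ m.val * (AA i).1.2 * ((c012 0 1 2) ^ m.val)⁻¹ := by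
    rw [map_mul, map_mul, map_inv, map_pow]; rfl
  simp only [List.mem_cons, List.not_mem_nil, or_false] at hk
  rcases hk with h | h | h
  · exact Or.inl (ext_PP e (e5.trans h))
  · exact Or.inr (Or.inl (ext_PP e (e5.trans h)))
  · exact Or.inr (Or.inr (ext_PP e (e5.trans h)))

theorem mem_AA {p : PP} : p ∈ ({A0, A1, A2} : Set PP) ↔ ∃ i, p = AA i := by
  constructor
  · rintro (rfl | rfl | rfl)
    · exact ⟨0, rfl⟩
    · exact ⟨1, rfl⟩
    · exact ⟨2, rfl⟩
  · rintro ⟨i, rfl⟩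
    fin_cases i <;> simp [AA]

theorem centA (p : PP) (h0 : p * A0 = A0 * p) (h1 : p * A1 = A1 * p)
    (hZ : p * Z0 * p⁻¹ = Z0 ∨ p * Z0 * p⁻¹ = Z0⁻¹) :
    p * Z0 = Z0 * p ∧ (p * p * p = 1 → pr5 p = 1) ∧ pr5 p ∈ ([1, A0.1.2, A1.1.2, A2.1.2] : List (Perm (Fin 5))) := by
  have key : ∀ π : Perm (Fin 5), π * A0.1.2 = A0.1.2 * π → π * A1.1.2 = A1.1.2 * π →
      Perm.sign π = 1 ∧ (π * π * π = 1 → π = 1) ∧ π ∈ ([1, A0.1.2, A1.1.2, A2.1.2] : List (Perm (Fin 5))) := by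
    decide +kernel
  obtain ⟨e1, e2, e3⟩ := key _ (val2 h0) (val2 h1)
  refine ⟨?_, fun h => e2 (val2 h), e3⟩
  have k3 : ∀ σ : Perm (Fin 3), Perm.sign σ = 1 → σ * c012 0 1 2 = c012 0 1 2 * σ := by decide
  rcases hZ with e | e
  · exact mul_inv_eq_iff_eq_mul.1 e
  · refine ext_PP (k3 _ ((sign_eq p).trans e1)) ?_
    show p.1.2 * 1 = 1 * p.1.2
    rw [one_mul, mul_one]

/-- the twist of the five letters -/
def tauPair : (Perm (Fin 3) × Perm (Fin 5)) →* (Perm (Fin 3) × Perm (Fin 5)) :=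
  (MulAut.conj ((1, swap 3 4) : Perm (Fin 3) × Perm (Fin 5))).toMonoidHom

def tau : PP →* PP :=
  (tauPair.comp (Subgroup.subtype PP)).codRestrict PP (fun p => mem_PP (by
    show Perm.sign (1 * p.1.1 * 1⁻¹) = Perm.sign (swap 3 4 * p.1.2 * (swap 3 4)⁻¹)
    simp [sign_eq p]))

theorem pr3_tau (p : PP) : pr3 (tau p) = pr3 p := by
  show (1 : Perm (Fin 3)) * p.1.1 * 1⁻¹ = p.1.1
  simp

theorem pr5_tau (p : PP) : pr5 (tau p) = swap 3 4 * pr5 p * (swap 3 4)⁻¹ := rfl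

theorem tau_facts : tau Z0 = Z0 ∧ tau W0 = W0 ∧ tau T1 = T1 ∧ tau J0 = J0 ∧ ∀ i, tau (AA i) = BB i := by
  have k : ∀ p q : PP, pr3 p = pr3 q → swap 3 4 * pr5 p * (swap 3 4)⁻¹ = pr5 q → tau p = q := fun p q a b =>
    ext_PP ((pr3_tau p).trans a) ((pr5_tau p).trans b)
  refine ⟨k _ _ rfl (by decide +kernel), k _ _ rfl (by decide +kernel), k _ _ rfl (by decide +kernel),
    k _ _ rfl (by decide +kernel), fun i => k _ _ ?_ ?_⟩
  · fin_cases i <;> rfl
  · fin_cases i <;> decide +kernel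

variable {G : Type*} [Group G] [Finite G] (d : Data G)

/-- the second copy of the normaliser -/
structure Glue where
  ψ : PP →* G
  ψZ : ψ Z0 = d.φ W0
  ψW : ψ W0 = d.φ Z0
  ψT : ψ T1 = d.φ T0
  ψJ : ψ J0 = d.φ J0
  comm : ∀ i j, Commute (d.φ (AA i)) (ψ (AA j))
  ψconj : ∃ g : G, g * d.φ Z0 * g⁻¹ = d.φ W0 ∧ ∀ p, ∃ q, ψ p = g * d.φ q * g⁻¹

namespace Data

/-- the centraliser of the four-group -/
def CV : Subgroup G := centralizer ({d.φ A0, d.φ A1} : Set G)

theorem mem_CV {g : G} : g ∈ d.CV ↔ Commute g (d.φ A0) ∧ Commute g (d.φ A1) := by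
  simp only [CV, mem_centralizer_iff, Set.mem_insert_iff, Set.mem_singleton_iff, forall_eq_or_imp, forall_eq]
  exact and_congr ⟨Eq.symm, Eq.symm⟩ ⟨Eq.symm, Eq.symm⟩

theorem CV_comm {g : G} (hg : g ∈ d.CV) (i : Fin 3) : Commute g (d.φ (AA i)) := by
  obtain ⟨h0, h1⟩ := d.mem_CV.1 hg
  fin_cases i
  · exact h0
  · exact h1
  · show Commute g (d.φ A2)
    rw [show A2 = A0 * A1 from ext_PP (by decide) (by decide +kernel), map_mul]
    exact h0.mul_right h1

theorem z_mem_CV : d.φ Z0 ∈ d.CV :=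
  d.mem_CV.2 ⟨(show Commute Z0 A0 from ext_PP (by decide) (by decide)).map d.φ,
    (show Commute Z0 A1 from ext_PP (by decide) (by decide)).map d.φ⟩

theorem exists_kernel : ∃ K : Subgroup G, K ≤ d.CV ∧ (Nat.card K).Coprime 3 ∧ Nat.card d.CV = Nat.card K * 3 ∧
    (∀ g, g ∈ d.CV → (orderOf g).Coprime 3 → g ∈ K) := by
  haveI : Fact (Nat.Prime 3) := ⟨Nat.prime_three⟩
  obtain ⟨P, hP⟩ := d.three_sylow d.CV d.z_mem_CV (fun p hp hm h3 => by
    obtain ⟨h0, h1⟩ := d.mem_CV.1 hm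
    exact (centA p (d.inj (by rw [map_mul, map_mul]; exact h0.eq)) (d.inj (by rw [map_mul, map_mul]; exact h1.eq))
      (Or.inl (by rw [hp, mul_inv_cancel_right]))).2.1 h3)
  have hNC : normalizer ((P : Subgroup d.CV) : Set d.CV) ≤ centralizer ((P : Subgroup d.CV) : Set d.CV) := by
    intro g hg
    have hgz : (g : G) * d.φ Z0 * (g : G)⁻¹ ∈ zpowers (d.φ Z0) := by
      rw [← hP]
      refine ⟨g * ⟨d.φ Z0, d.z_mem_CV⟩ * g⁻¹, (Subgroup.mem_normalizer_iff.1 hg _).1 ?_, rfl⟩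
      obtain ⟨u, hu, e⟩ := (hP.symm ▸ mem_zpowers (d.φ Z0) : d.φ Z0 ∈ (P : Subgroup d.CV).map d.CV.subtype)
      rwa [show (⟨d.φ Z0, d.z_mem_CV⟩ : d.CV) = u from Subtype.ext e.symm]
    obtain ⟨k, hk⟩ := mem_zpowers_iff.1 hgz
    have hz3 : d.φ Z0 ^ (3 : ℤ) = 1 := by rw [← map_zpow]; exact_mod_cast (congrArg d.φ Z0_pow).trans (map_one _)
    have hkm : d.φ Z0 ^ k = d.φ Z0 ^ (k % 3) := by
      conv_lhs => rw [← Int.emod_add_mul_ediv k 3, zpow_add, zpow_mul, hz3, one_zpow, mul_one]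
    have hpm : (g : G) * d.φ Z0 * (g : G)⁻¹ = d.φ Z0 ∨ (g : G) * d.φ Z0 * (g : G)⁻¹ = (d.φ Z0)⁻¹ := by
      rcases (show k % 3 = 0 ∨ k % 3 = 1 ∨ k % 3 = 2 by omega) with e | e | e
      · rw [hkm, e, zpow_zero] at hk
        exact absurd (congrArg pr3 (d.inj ((conj_eq_one_iff.1 hk.symm).trans (map_one d.φ).symm))) (by decide)
      · exact Or.inl (by rw [← hk, hkm, e, zpow_one])
      · exact Or.inr (by rw [← hk, hkm, e]; refine eq_inv_of_mul_eq_one_left ?_; rw [← zpow_add_one]; exact hz3)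
    obtain ⟨p, hp⟩ := d.hN _ hpm
    obtain ⟨h0, h1⟩ := d.mem_CV.1 g.2
    rw [← hp] at h0 h1
    obtain ⟨hc, -, -⟩ := centA p (d.inj (by rw [map_mul, map_mul]; exact h0.eq))
      (d.inj (by rw [map_mul, map_mul]; exact h1.eq))
      (hpm.imp (fun e => d.inj (by rw [map_mul, map_mul, map_inv, hp]; exact e))
        fun e => d.inj (by rw [map_mul, map_mul, map_inv, hp, map_inv]; exact e))
    have hcz : Commute (g : G) (d.φ Z0) := hp ▸ (show Commute p Z0 from hc).map d.φ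
    rw [mem_centralizer_iff]
    intro u hu
    obtain ⟨i, hi⟩ := mem_zpowers_iff.1 (show (u : G) ∈ zpowers (d.φ Z0) from hP ▸ ⟨u, hu, rfl⟩)
    exact Subtype.ext (show (u : G) * g = g * u by rw [← hi]; exact (hcz.zpow_right i).eq.symm)
  set K0 := (MonoidHom.transferSylow P hNC).ker with hK0
  have hcompl := MonoidHom.ker_transferSylow_isComplement' P hNC
  have hPc : Nat.card (P : Subgroup d.CV) = 3 := by
    rw [← card_map_of_injective (K := (P : Subgroup d.CV)) d.CV.subtype_injective, hP, Nat.card_zpowers,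
      orderOf_injective d.φ d.inj]
    exact orderOf_eq_prime Z0_pow fun e => absurd (congrArg pr3 e) (by decide)
  have hcopK : (Nat.card K0).Coprime 3 := by
    rw [Nat.coprime_comm, Nat.prime_three.coprime_iff_not_dvd, ← hcompl.index_eq_card]
    exact P.not_dvd_index
  refine ⟨K0.map d.CV.subtype, map_subtype_le _, ?_, ?_, ?_⟩
  · rwa [card_map_of_injective d.CV.subtype_injective]
  · rw [card_map_of_injective d.CV.subtype_injective, ← hcompl.card_mul, hPc]
  · intro g hg hcop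
    refine ⟨⟨g, hg⟩, ?_, rfl⟩
    show (⟨g, hg⟩ : d.CV) ∈ K0
    rw [hK0, MonoidHom.mem_ker]
    rw [← orderOf_eq_one_iff]
    refine Nat.dvd_one.1 ?_
    rw [← (hcop : Nat.Coprime _ _).gcd_eq_one]
    refine Nat.dvd_gcd ?_ ?_
    · exact (orderOf_map_dvd _ _).trans (by rw [Subgroup.orderOf_mk])
    · exact (_root_.orderOf_dvd_natCard _).trans (dvd_of_eq hPc)

theorem three_dvd_A (p : PP) (hp : p * Z0 = Z0 * p) : p ^ 30 = 1 := by
  have k3 : ∀ σ : Perm (Fin 3), σ * c012 0 1 2 = c012 0 1 2 * σ → σ * σ * σ = 1 ∧ Perm.sign σ = 1 := by decide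
  obtain ⟨e1, e2⟩ := k3 _ (val1 hp)
  have k5 : ∀ π : Perm (Fin 5), Perm.sign π = 1 → π * π * π = 1 ∨ π * π = 1 ∨ π * π * π * π * π = 1 := by
    decide +kernel
  have h3 : pr3 (p ^ 30) = 1 := by
    rw [map_pow, show 30 = 3 * 10 from rfl, pow_mul, pow_three, ← mul_assoc, pr3_apply, e1, one_pow]
  refine ext_PP h3 ?_
  show pr5 (p ^ 30) = 1
  rw [map_pow]
  rcases k5 _ ((sign_eq p).symm.trans e2) with h | h | h <;> rw [← pr5_apply] at h
  · rw [show 30 = 3 * 10 from rfl, pow_mul, pow_three, ← mul_assoc, h, one_pow]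
  · rw [show 30 = 2 * 15 from rfl, pow_mul, pow_two, h, one_pow]
  · rw [show 30 = 5 * 6 from rfl, pow_mul, show pr5 p ^ 5 = 1 by simpa [pow_succ] using h, one_pow]

theorem diag_norm {x : G} (i j : Fin 3) (hi : i.val ≠ 0) (hj : j.val ≠ 0)
    (hx : Commute x (d.φ Z0 ^ i.val * d.φ W0 ^ j.val)) :
    ∀ p ∈ centralizer ({Z0, W0} : Set PP), ∃ p' ∈ centralizer ({Z0, W0} : Set PP), x * d.φ p * x⁻¹ = d.φ p' := by
  have hz3 : d.φ Z0 ^ 3 = 1 := by rw [← map_pow, Z0_pow, map_one]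
  have hw3 : d.φ W0 ^ 3 = 1 := by rw [← map_pow, W0_pow, map_one]
  have base : ∀ u : G, Commute u (d.φ Z0 * d.φ W0) → ∀ p ∈ centralizer ({Z0, W0} : Set PP),
      ∃ p' ∈ centralizer ({Z0, W0} : Set PP), u * d.φ p * u⁻¹ = d.φ p' := fun u hu p hp =>
    d.hnd u (mem_centralizer_singleton_iff.2 hu) p hp
  have sq : Commute x (d.φ Z0 ^ 2 * d.φ W0 ^ 2) → Commute x (d.φ Z0 * d.φ W0) := fun h => by
    have := h.pow_right 2
    rwa [(d.zw_comm.pow_pow 2 2).mul_pow, ← pow_mul, ← pow_mul, show 2 * 2 = 3 + 1 from rfl, pow_add, pow_add,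
      hz3, hw3, one_mul, one_mul, pow_one, pow_one] at this
  have viaT : Commute x (d.φ Z0 ^ 2 * d.φ W0) → ∀ p ∈ centralizer ({Z0, W0} : Set PP),
      ∃ p' ∈ centralizer ({Z0, W0} : Set PP), x * d.φ p * x⁻¹ = d.φ p' := fun h => by
    intro p hp
    have hTD : ∀ q ∈ centralizer ({Z0, W0} : Set PP), T0 * q * T0⁻¹ ∈ centralizer ({Z0, W0} : Set PP) := by
      intro q hq
      obtain ⟨a, b, rfl⟩ := mem_centZW.1 hq
      rw [T0_conj]
      exact mul_mem (pow_mem (mem_centZW.2 ⟨1, 0, by simp⟩) _) (pow_mem (mem_centZW.2 ⟨0, 1, by simp⟩) _)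
    have hc : Commute (d.φ T0 * x * (d.φ T0)⁻¹) (d.φ Z0 * d.φ W0) := by
      have := h.map (MulAut.conj (d.φ T0)).toMonoidHom
      simp only [MulEquiv.coe_toMonoidHom, MulAut.conj_apply] at this
      have e : d.φ T0 * (d.φ Z0 ^ 2 * d.φ W0) * (d.φ T0)⁻¹ = d.φ Z0 * d.φ W0 := by
        simp only [← map_pow, ← map_mul, ← map_inv]
        exact congrArg d.φ (ext_PP (by decide) (by decide +kernel))
      rwa [e] at this
    obtain ⟨q, hq, e⟩ := base _ hc _ (hTD p hp)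
    refine ⟨T0⁻¹ * q * T0, ?_, ?_⟩
    · rw [show T0⁻¹ = T0 from inv_eq_of_mul_eq_one_right (ext_PP (by decide) (by decide))]
      have := hTD q hq
      rwa [show T0⁻¹ = T0 from inv_eq_of_mul_eq_one_right (ext_PP (by decide) (by decide))] at this
    · rw [map_mul, map_mul, ← e, map_mul, map_mul, map_inv]; group
  rcases (show i.val = 1 ∨ i.val = 2 by omega) with ei | ei <;>
    rcases (show j.val = 1 ∨ j.val = 2 by omega) with ej | ej <;> rw [ei, ej] at hx
  · exact base x (by simpa using hx)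
  · refine viaT ?_
    have := hx.pow_right 2
    rwa [(d.zw_comm.pow_pow 1 2).mul_pow, ← pow_mul, ← pow_mul, show 2 * 2 = 3 + 1 from rfl, pow_succ _ 3,
      hw3, one_mul, one_mul] at this
  · exact viaT (by simpa using hx)
  · exact base x (sq hx)

theorem D_pow3 {p : PP} (hp : p ∈ centralizer ({Z0, W0} : Set PP)) : p ^ 3 = 1 := by
  obtain ⟨i, j, rfl⟩ := mem_centZW.1 hp
  rw [((show Commute Z0 W0 from ZW_comm).pow_pow i.val j.val).mul_pow, pow_right_comm, Z0_pow, pow_right_comm,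
    W0_pow, one_pow, one_pow, one_mul]

theorem coprime_pow_eq_one {g : G} (h3 : g ^ 3 = 1) (hc : (orderOf g).Coprime 3) : g = 1 := by
  rw [← orderOf_eq_one_iff, ← Nat.dvd_one, ← (hc : Nat.Coprime _ _).gcd_eq_one]
  exact Nat.dvd_gcd dvd_rfl (orderOf_dvd_of_pow_eq_one h3)

/-- the fixed points of the four elements of the Sylow subgroup in the kernel -/
theorem kernel_fix {K : Subgroup G} (hK : K ≤ d.CV) (hcop : (Nat.card K).Coprime 3)
    (hnorm : ∀ p ∈ centralizer ({Z0, W0} : Set PP), ∀ x ∈ K, d.φ p * x * (d.φ p)⁻¹ ∈ K)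
    {x : G} (hx : x ∈ K) :
    (Commute x (d.φ Z0) → ∃ p, p ∈ ({1, A0, A1, A2} : Set PP) ∧ x = d.φ p) ∧
    (∀ i j : Fin 3, i.val ≠ 0 → j.val ≠ 0 → Commute x (d.φ Z0 ^ i.val * d.φ W0 ^ j.val) → x = 1) := by
  have hord : (orderOf x).Coprime 3 := Nat.Coprime.coprime_dvd_left (Subgroup.orderOf_dvd_natCard _ hx) hcop
  refine ⟨fun h => ?_, fun i j hi hj h => ?_⟩
  · obtain ⟨p, hp, rfl⟩ := d.cent_z h
    obtain ⟨h0, h1⟩ := d.mem_CV.1 (hK hx)
    obtain ⟨-, -, h5⟩ := centA p (d.inj (by rw [map_mul, map_mul]; exact h0.eq))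
      (d.inj (by rw [map_mul, map_mul]; exact h1.eq)) (Or.inl (by rw [hp, mul_inv_cancel_right]))
    have k3 : ∀ σ : Perm (Fin 3), σ * c012 0 1 2 = c012 0 1 2 * σ → σ ^ 3 = 1 := by decide
    have hσ : pr3 p = 1 := by
      rw [← orderOf_eq_one_iff, ← Nat.dvd_one, ← (hord : Nat.Coprime _ _).gcd_eq_one]
      exact Nat.dvd_gcd (by rw [orderOf_injective d.φ d.inj]; exact orderOf_map_dvd pr3 p)
        (orderOf_dvd_of_pow_eq_one (k3 _ (val1 hp)))
    refine ⟨p, ?_, rfl⟩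
    simp only [List.mem_cons, List.not_mem_nil, or_false] at h5
    rcases h5 with e | e | e | e
    · exact Or.inl (ext_PP hσ e)
    · exact Or.inr (Or.inl (ext_PP hσ e))
    · exact Or.inr (Or.inr (Or.inl (ext_PP hσ e)))
    · exact Or.inr (Or.inr (Or.inr (ext_PP hσ e)))
  · have hfix : ∀ p ∈ centralizer ({Z0, W0} : Set PP), Commute x (d.φ p) := by
      intro p hp
      obtain ⟨p', hp', e⟩ := d.diag_norm i j hi hj h p hp
      have hK' : x * d.φ p * x⁻¹ * (d.φ p)⁻¹ ∈ K := by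
        rw [show x * d.φ p * x⁻¹ * (d.φ p)⁻¹ = x * (d.φ p * x⁻¹ * (d.φ p)⁻¹) by group]
        exact mul_mem hx (hnorm p hp _ (inv_mem hx))
      have e' : x * d.φ p * x⁻¹ * (d.φ p)⁻¹ = d.φ (p' * p⁻¹) := by rw [e, map_mul, map_inv]
      have h1 := coprime_pow_eq_one (g := x * d.φ p * x⁻¹ * (d.φ p)⁻¹)
        (by rw [e', ← map_pow, D_pow3 (mul_mem hp' (inv_mem hp)), map_one])
        (Nat.Coprime.coprime_dvd_left (Subgroup.orderOf_dvd_natCard _ hK') hcop)
      show x * d.φ p = d.φ p * x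
      calc x * d.φ p = (x * d.φ p * x⁻¹ * (d.φ p)⁻¹) * (d.φ p * x) := by group
        _ = d.φ p * x := by rw [h1, one_mul]
    obtain ⟨p, hp, rfl⟩ := d.hD (hfix Z0 (mem_centZW.2 ⟨1, 0, by simp⟩)) (hfix W0 (mem_centZW.2 ⟨0, 1, by simp⟩))
    exact coprime_pow_eq_one (by rw [← map_pow, D_pow3 hp, map_one]) hord

theorem CV_norm {p : PP} (hp : p ∈ centralizer ({Z0, W0} : Set PP)) {g : G} (hg : g ∈ d.CV) :
    d.φ p * g * (d.φ p)⁻¹ ∈ d.CV := by
  have key : ∀ i : Fin 3, ∃ k : Fin 3, p⁻¹ * AA i * p = AA k := by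
    intro i
    obtain ⟨a, c, rfl⟩ := mem_centZW.1 hp
    have hzA : Commute Z0 (AA i) := by
      refine ext_PP ?_ ?_
      · fin_cases i <;> decide +kernel
      · show (1 : Perm (Fin 5)) * _ = _ * 1
        rw [one_mul, mul_one]
    have h : (W0 ^ c.val)⁻¹ * AA i * W0 ^ c.val ∈ ({A0, A1, A2} : Set PP) := by
      rcases (show c.val = 0 ∨ c.val = 1 ∨ c.val = 2 by omega) with e | e | e <;> rw [e]
      · simpa using AA_conj i 0
      · have := AA_conj i 2
        rwa [show ((2 : Fin 3).val) = 2 from rfl, show W0 ^ 2 = W0⁻¹ from eq_inv_of_mul_eq_one_left (by rw [← pow_succ, W0_pow]), inv_inv] at this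
        all_goals rw [pow_one]
      · have := AA_conj i 1
        rwa [show ((1 : Fin 3).val) = 1 from rfl, show W0 ^ 2 = W0⁻¹ from eq_inv_of_mul_eq_one_left (by rw [← pow_succ, W0_pow]), inv_inv, ← pow_one W0] at *
    obtain ⟨k, hk⟩ := mem_AA.1 h
    refine ⟨k, ?_⟩
    rw [← hk]
    calc (Z0 ^ a.val * W0 ^ c.val)⁻¹ * AA i * (Z0 ^ a.val * W0 ^ c.val)
        = (W0 ^ c.val)⁻¹ * ((Z0 ^ a.val)⁻¹ * (AA i * Z0 ^ a.val)) * W0 ^ c.val := by group
      _ = _ := by rw [← (hzA.pow_left a.val).eq, inv_mul_cancel_left]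
  refine d.mem_CV.2 ⟨?_, ?_⟩
  · obtain ⟨k, hk⟩ := key 0
    have := (d.CV_comm hg k).map (MulAut.conj (d.φ p)).toMonoidHom
    simp only [MulEquiv.coe_toMonoidHom, MulAut.conj_apply] at this
    rwa [← map_inv, ← map_mul, ← map_mul, show p * AA k * p⁻¹ = A0 by rw [← hk]; simp [AA, mul_assoc], map_inv] at this
  · obtain ⟨k, hk⟩ := key 1
    have := (d.CV_comm hg k).map (MulAut.conj (d.φ p)).toMonoidHom
    simp only [MulEquiv.coe_toMonoidHom, MulAut.conj_apply] at this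
    rwa [← map_inv, ← map_mul, ← map_mul, show p * AA k * p⁻¹ = A1 by rw [← hk]; simp [AA, mul_assoc], map_inv] at this

/-- The kernel meets the centraliser of the second element nontrivially. -/
theorem exists_match : ∃ K : Subgroup G, K ≤ d.CV ∧ (Nat.card K).Coprime 3 ∧ Nat.card d.CV = Nat.card K * 3 ∧
    (∀ g, g ∈ d.CV → (orderOf g).Coprime 3 → g ∈ K) ∧
    (∀ p ∈ centralizer ({Z0, W0} : Set PP), ∀ x ∈ K, d.φ p * x * (d.φ p)⁻¹ ∈ K) ∧
    ∃ x ∈ K, x ≠ 1 ∧ Commute x (d.φ W0) := by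
  obtain ⟨K, hK, hcop, hcard, hmem⟩ := d.exists_kernel
  have hnorm : ∀ p ∈ centralizer ({Z0, W0} : Set PP), ∀ x ∈ K, d.φ p * x * (d.φ p)⁻¹ ∈ K := fun p hp x hx => by
    refine hmem _ (d.CV_norm hp (hK hx)) ?_
    rw [show orderOf (d.φ p * x * (d.φ p)⁻¹) = orderOf x from MulEquiv.orderOf_eq (MulAut.conj (d.φ p)) x]
    exact Nat.Coprime.coprime_dvd_left (Subgroup.orderOf_dvd_natCard _ hx) hcop
  refine ⟨K, hK, hcop, hcard, hmem, hnorm, ?_⟩
  by_contra hcon
  push Not at hcon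
  haveI : Fact (Nat.Prime 3) := ⟨Nat.prime_three⟩
  set D0 := (centralizer ({Z0, W0} : Set PP)).map d.φ with hD0
  have hD9 : Nat.card D0 = 9 := by
    rw [hD0, ← Nat.card_congr (Subgroup.equivMapOfInjective _ d.φ d.inj).toEquiv, card_centZW]
  haveI : IsMulCommutative D0 := IsPGroup.isMulCommutative_of_card_eq_prime_sq (p := 3) (by rw [hD9]; norm_num)
  have hcyc : ¬ IsCyclic D0 := by
    intro h
    obtain ⟨g, hg⟩ := h.exists_generator
    have h9 := orderOf_eq_card_of_forall_mem_zpowers hg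
    obtain ⟨p, hp, e⟩ := g.2
    have h3 : g ^ 3 = 1 := Subtype.ext (by
      show (g : G) ^ 3 = 1
      rw [← e, ← map_pow, D_pow3 hp, map_one])
    have := orderOf_le_of_pow_eq_one (by norm_num) h3
    omega
  have hDK : D0 ≤ normalizer (K : Set G) := by
    rintro _ ⟨p, hp, rfl⟩
    rw [Subgroup.mem_normalizer_iff]
    refine fun x => ⟨hnorm p hp x, fun h => ?_⟩
    have := hnorm p⁻¹ (inv_mem hp) _ h
    rwa [map_inv, inv_inv, show (d.φ p)⁻¹ * (d.φ p * x * (d.φ p)⁻¹) * d.φ p = x by group] at this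
  have hgen := S0058.result D0 K hcyc hDK (by
    rw [hD9, show 9 = 3 ^ 2 from rfl]; exact (Nat.coprime_comm.1 hcop).pow_left 2)
  -- so the kernel is the four-group
  set V := (closure ({A0, A1} : Set PP)).map d.φ with hV
  have hA0V : d.φ A0 ∈ V := ⟨A0, subset_closure (Set.mem_insert _ _), rfl⟩
  have hA1V : d.φ A1 ∈ V := ⟨A1, subset_closure (Set.mem_insert_of_mem _ rfl), rfl⟩
  have hKV : K ≤ V := by
    rw [← hgen]
    refine iSup₂_le fun a ha x hx => ?_
    obtain ⟨⟨p, hp, rfl⟩, ha1⟩ := ha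
    obtain ⟨hxK, hxc⟩ := hx
    obtain ⟨i, j, rfl⟩ := mem_centZW.1 hp
    have hxc' : Commute x (d.φ Z0 ^ i.val * d.φ W0 ^ j.val) := by
      rw [← map_pow, ← map_pow, ← map_mul]; exact mem_centralizer_singleton_iff.1 hxc
    obtain ⟨hfixz, hfixd⟩ := d.kernel_fix hK hcop hnorm hxK
    have hz3 : d.φ Z0 ^ 3 = 1 := by rw [← map_pow, Z0_pow, map_one]
    have hw3 : d.φ W0 ^ 3 = 1 := by rw [← map_pow, W0_pow, map_one]
    rcases (show i.val = 0 ∨ i.val ≠ 0 by omega) with ei | ei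
    · rcases (show j.val = 0 ∨ j.val = 1 ∨ j.val = 2 by omega) with ej | ej | ej
      · exact absurd (by rw [ei, ej, pow_zero, pow_zero, one_mul, map_one]) ha1
      · rw [ei, ej, pow_zero, one_mul, pow_one] at hxc'
        rw [not_ne_iff.1 (fun h => hcon x hxK h hxc')]; exact one_mem _
      · rw [ei, ej, pow_zero, one_mul] at hxc'
        have := hxc'.pow_right 2
        rw [← pow_mul, show 2 * 2 = 3 + 1 from rfl, pow_succ, hw3, one_mul] at this
        rw [not_ne_iff.1 (fun h => hcon x hxK h this)]; exact one_mem _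
    · rcases (show j.val = 0 ∨ j.val ≠ 0 by omega) with ej | ej
      · rw [ej, pow_zero, mul_one] at hxc'
        have hz : Commute x (d.φ Z0) := by
          rcases (show i.val = 1 ∨ i.val = 2 by omega) with e | e <;> rw [e] at hxc'
          · simpa using hxc'
          · have := hxc'.pow_right 2
            rwa [← pow_mul, show 2 * 2 = 3 + 1 from rfl, pow_succ, hz3, one_mul] at this
        obtain ⟨p, hp, rfl⟩ := hfixz hz
        rcases hp with rfl | rfl | rfl | rfl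
        · rw [map_one]; exact one_mem _
        · exact hA0V
        · exact hA1V
        · rw [show A2 = A0 * A1 from ext_PP (by decide) (by decide +kernel), map_mul]; exact mul_mem hA0V hA1V
      · rw [hfixd i j ei ej hxc']; exact one_mem _
  -- a Sylow two-subgroup through the model one
  haveI : Fact (Nat.Prime 2) := ⟨Nat.prime_two⟩
  have hT2 : IsPGroup 2 (TT.map d.φ) := (IsPGroup.of_card (n := 3) (by rw [card_TT]; rfl)).map d.φ
  obtain ⟨S, hS⟩ := hT2.exists_le_sylow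
  have hA : ∀ i : Fin 3, d.φ (AA i) ∈ (S : Subgroup G) := fun i => hS ⟨AA i, (TT_spec _).2 ⟨⟨i.val + 1, by omega⟩, by fin_cases i <;> rfl⟩, rfl⟩
  have hVcard : ∀ g ∈ V, g = 1 ∨ ∃ i, g = d.φ (AA i) := by
    rintro _ ⟨p, hp, rfl⟩
    have : p = 1 ∨ ∃ i, p = AA i := by
      induction hp using closure_induction with
      | mem x hx =>
        rcases hx with rfl | rfl
        · exact Or.inr ⟨0, rfl⟩
        · exact Or.inr ⟨1, rfl⟩
      | one => exact Or.inl rfl
      | mul x y _ _ hx hy =>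
        have k : ∀ i j : Fin 3, (AA i * AA j = 1) ∨ ∃ k, AA i * AA j = AA k := by
          intro i j
          fin_cases i <;> fin_cases j <;>
            first
              | exact Or.inl (ext_PP (by decide +kernel) (by decide +kernel))
              | exact Or.inr ⟨0, ext_PP (by decide +kernel) (by decide +kernel)⟩
              | exact Or.inr ⟨1, ext_PP (by decide +kernel) (by decide +kernel)⟩
              | exact Or.inr ⟨2, ext_PP (by decide +kernel) (by decide +kernel)⟩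
        rcases hx with rfl | ⟨i, rfl⟩
        · rwa [one_mul]
        rcases hy with rfl | ⟨j, rfl⟩
        · rw [mul_one]; exact Or.inr ⟨i, rfl⟩
        exact k i j
      | inv x _ hx =>
        rcases hx with rfl | ⟨i, rfl⟩
        · exact Or.inl inv_one
        · exact Or.inr ⟨i, by fin_cases i <;> exact ext_PP (by decide +kernel) (by decide +kernel)⟩
    exact this.imp (fun e => by rw [e, map_one]) fun ⟨i, e⟩ => ⟨i, by rw [e]⟩
  -- elements of `S` centralising the four-group lie in it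
  have hSV : ∀ g ∈ (S : Subgroup G), g ∈ d.CV → g ∈ V := by
    intro g hgS hgC
    refine hKV (hmem g hgC ?_)
    obtain ⟨k, hk⟩ := S.2 ⟨g, hgS⟩
    exact Nat.Coprime.coprime_dvd_left (orderOf_dvd_of_pow_eq_one (congrArg Subtype.val hk))
      (Nat.Coprime.pow_left k (by norm_num))
  haveI : Nontrivial (S : Subgroup G) := ⟨⟨⟨_, hA 0⟩, 1, fun e =>
    absurd (congrArg pr5 (d.inj ((congrArg Subtype.val e).trans (map_one d.φ).symm))) (by decide +kernel)⟩⟩
  haveI := S.2.center_nontrivial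
  obtain ⟨⟨c, hc⟩, hc1⟩ := exists_ne (1 : center (S : Subgroup G))
  have hcV : (c : G) ∈ V := hSV _ c.2 (d.mem_CV.2
    ⟨(congrArg Subtype.val (mem_center_iff.1 hc ⟨_, hA 0⟩)).symm, (congrArg Subtype.val (mem_center_iff.1 hc ⟨_, hA 1⟩)).symm⟩)
  obtain ⟨i, hi⟩ := (hVcard _ hcV).resolve_left fun e => hc1 (Subtype.ext (Subtype.ext e))
  obtain ⟨j, hj⟩ := exists_ne i
  have hsmall : Nat.card (centralizer ({(⟨_, hA j⟩ : (S : Subgroup G))} : Set (S : Subgroup G))) ≤ 4 := by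
    have hsub : ∀ g ∈ centralizer ({(⟨_, hA j⟩ : (S : Subgroup G))} : Set (S : Subgroup G)), (g : G) ∈ V := by
      intro g hg
      refine hSV _ g.2 ?_
      have h1 : Commute (g : G) (d.φ (AA j)) := congrArg Subtype.val (mem_centralizer_singleton_iff.1 hg)
      have h2 : Commute (g : G) (d.φ (AA i)) := hi ▸ congrArg Subtype.val (mem_center_iff.1 hc g)
      have k : ∀ i j : Fin 3, j ≠ i → (∃ a b : Bool, A0 = (cond a (AA i) 1) * (cond b (AA j) 1)) ∧
          (∃ a b : Bool, A1 = (cond a (AA i) 1) * (cond b (AA j) 1)) := by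
        intro i j h
        fin_cases i <;> fin_cases j <;> first
          | exact absurd rfl h
          | exact ⟨by first
              | exact ⟨true, false, ext_PP (by decide +kernel) (by decide +kernel)⟩
              | exact ⟨false, true, ext_PP (by decide +kernel) (by decide +kernel)⟩
              | exact ⟨true, true, ext_PP (by decide +kernel) (by decide +kernel)⟩, by first
              | exact ⟨true, false, ext_PP (by decide +kernel) (by decide +kernel)⟩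
              | exact ⟨false, true, ext_PP (by decide +kernel) (by decide +kernel)⟩
              | exact ⟨true, true, ext_PP (by decide +kernel) (by decide +kernel)⟩⟩
      obtain ⟨⟨a, b, e0⟩, ⟨a', b', e1⟩⟩ := k i j hj
      refine d.mem_CV.2 ⟨?_, ?_⟩
      · rw [e0, map_mul]
        refine Commute.mul_right ?_ ?_
        · cases a <;> simp [h2]
        · cases b <;> simp [h1]
      · rw [e1, map_mul]
        refine Commute.mul_right ?_ ?_
        · cases a' <;> simp [h2]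
        · cases b' <;> simp [h1]
    let f : centralizer ({(⟨_, hA j⟩ : (S : Subgroup G))} : Set (S : Subgroup G)) → V := fun g => ⟨g, hsub g g.2⟩
    refine (Nat.card_le_card_of_injective f fun a b e => Subtype.ext (Subtype.ext (congrArg (fun v : V => (v : G)) e))).trans ?_
    refine (Nat.card_le_card_of_surjective (fun k : Fin 4 => (⟨d.φ ((![1, A0, A1, A2] : Fin 4 → PP) k), by
      fin_cases k
      · simpa using one_mem V
      · exact hA0V
      · exact hA1V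
      · show d.φ A2 ∈ V
        rw [show A2 = A0 * A1 from ext_PP (by decide) (by decide +kernel), map_mul]; exact mul_mem hA0V hA1V⟩ : V))
      ?_).trans (by simp)
    rintro ⟨g, hg⟩
    rcases hVcard g hg with rfl | ⟨k, rfl⟩
    · exact ⟨0, Subtype.ext (by simp)⟩
    · exact ⟨k.succ, Subtype.ext (by fin_cases k <;> rfl)⟩
  have hTS : Nat.card (TT.map d.φ) = 8 := by
    rw [← Nat.card_congr (Subgroup.equivMapOfInjective _ d.φ d.inj).toEquiv, card_TT]
  have h8 : 8 ≤ Nat.card (S : Subgroup G) := hTS ▸ Subgroup.card_le_of_le hS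
  have hb2 : IsPGroup 2 (zpowers d.b) := IsPGroup.of_card (n := 1) (by
    rw [Nat.card_zpowers, pow_one]; exact orderOf_eq_prime (by rw [pow_two, d.hb]) d.b_ne_one)
  rcases Nat.lt_or_ge (Nat.card (S : Subgroup G)) 16 with h16 | h16
  · -- the model subgroup is a Sylow subgroup
    have hSeq : TT.map d.φ = (S : Subgroup G) := by
      refine Subgroup.eq_of_le_of_card_ge hS ?_
      obtain ⟨k, hk⟩ := IsPGroup.iff_card.1 S.2
      rw [hTS, hk]
      rw [hk] at h16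
      have : k ≤ 3 := by
        by_contra h
        have := Nat.pow_le_pow_right (show 1 ≤ 2 by norm_num) (show 4 ≤ k by omega)
        omega
      calc 2 ^ k ≤ 2 ^ 3 := Nat.pow_le_pow_right (by norm_num) this
        _ = 8 := rfl
    obtain ⟨S', hS'⟩ := hb2.exists_le_sylow
    obtain ⟨g, hg⟩ := MulAction.exists_smul_eq G S' S
    have hm : g * d.b * g⁻¹ ∈ TT.map d.φ := by
      rw [hSeq, ← hg, Sylow.coe_subgroup_smul]
      exact (Subgroup.mem_smul_pointwise_iff_exists _ _ _).2 ⟨d.b, hS' (mem_zpowers _), rfl⟩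
    obtain ⟨p, hp, e⟩ := hm
    have hp2 : p * p = 1 := d.inj (by
      rw [map_mul, e, map_one]
      calc g * d.b * g⁻¹ * (g * d.b * g⁻¹) = g * (d.b * d.b) * g⁻¹ := by group
        _ = 1 := by rw [d.hb, mul_one, mul_inv_cancel])
    have hp1 : p ≠ 1 := fun h => d.b_ne_one (conj_eq_one_iff.1 (by rw [← e, h, map_one]))
    have h := d.isA_conj (d.TT_invol hp hp2 hp1) g⁻¹
    rw [e, show g⁻¹ * (g * d.b * g⁻¹) * g⁻¹⁻¹ = d.b by group] at h
    exact d.not_isA_b h
  · -- a larger Sylow subgroup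
    have hT0 : d.φ T0 * d.φ T0 = 1 := by rw [← map_mul, show T0 * T0 = 1 from ext_PP (by decide) (by decide), map_one]
    obtain ⟨px, hpx, hpx1, hpx2, hpx3⟩ := d.bT0
    obtain ⟨hxT, -, -⟩ := invol_cz px hpx1 hpx2 hpx3
    set E := (closure ({T0, px} : Set PP)).map d.φ with hE
    -- the subgroup generated by the involution and the reflection is a two-group
    have h4 : (d.b * d.φ T0) ^ 4 = 1 := by
      have e1 : (d.b * d.φ T0) ^ 2 = d.φ (px * T0) := by
        rw [pow_two, map_mul, hpx]; group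
      rw [show 4 = 2 * 2 from rfl, pow_mul, e1, ← map_pow, pow_two,
        show px * T0 * (px * T0) = (px * px) * (T0 * T0) by
          rw [mul_assoc px T0, ← mul_assoc T0 px T0, ← hxT]; group,
        hpx1, show T0 * T0 = 1 from ext_PP (by decide) (by decide), one_mul, map_one]
    have hP : IsPGroup 2 (closure ({d.b, d.φ T0} : Set G)) := by
      set r := d.b * d.φ T0 with hr
      have hrb : d.b * r * d.b⁻¹ = r⁻¹ := by
        rw [hr, mul_inv_rev, d.binv, inv_eq_of_mul_eq_one_right hT0, ← mul_assoc, d.hb, one_mul]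
      have hzn : d.b ∈ normalizer (zpowers r : Set G) := by
        rw [mem_normalizer_iff_map_conj_eq, MonoidHom.map_zpowers]
        show zpowers (d.b * r * d.b⁻¹) = _
        rw [hrb, zpowers_inv]
      have hle : closure ({d.b, d.φ T0} : Set G) ≤ zpowers r ⊔ zpowers d.b := by
        rw [closure_le]
        rintro u (rfl | rfl)
        · exact mem_sup_right (mem_zpowers _)
        · have : d.φ T0 = d.b * r := by rw [hr, ← mul_assoc, d.hb, one_mul]
          rw [this]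
          exact mul_mem (mem_sup_right (mem_zpowers _)) (mem_sup_left (mem_zpowers _))
      have hr4 : IsPGroup 2 (zpowers r) := by
        obtain ⟨k, -, hk⟩ := (Nat.dvd_prime_pow Nat.prime_two (m := 2)).1 (orderOf_dvd_of_pow_eq_one (by simpa using h4))
        exact IsPGroup.of_card (n := k) (by rw [Nat.card_zpowers, hk])
      exact (IsPGroup.to_sup_of_normal_left' hr4 hb2 (zpowers_le.2 hzn)).to_le hle
    obtain ⟨S', hS'⟩ := hP.exists_le_sylow
    obtain ⟨g, hg⟩ := MulAction.exists_smul_eq G S S'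
    have hcS : Nat.card (S' : Subgroup G) = Nat.card (S : Subgroup G) := by rw [S'.card_eq_multiplicity, S.card_eq_multiplicity]
    refine d.not_isA_b (d.fuse S'.2 (hcS ▸ h16) ?_ (hS' (subset_closure (Set.mem_insert _ _)))
      (hS' (subset_closure (Set.mem_insert_of_mem _ rfl))))
    have hm : g * d.φ (AA j) * g⁻¹ ∈ (S' : Subgroup G) := by
      rw [← hg, Sylow.coe_subgroup_smul]
      exact (Subgroup.mem_smul_pointwise_iff_exists _ _ _).2 ⟨_, hA j, rfl⟩
    refine ⟨⟨_, hm⟩, le_trans ?_ hsmall⟩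
    refine Nat.card_le_card_of_injective
      (fun u : centralizer ({(⟨_, hm⟩ : (S' : Subgroup G))} : Set (S' : Subgroup G)) =>
        (⟨⟨g⁻¹ * (u : (S' : Subgroup G)) * g, ?_⟩, ?_⟩ : centralizer ({(⟨_, hA j⟩ : (S : Subgroup G))} : Set (S : Subgroup G)))) ?_
    · have hu := (u : (S' : Subgroup G)).2
      have : ((u : (S' : Subgroup G)) : G) ∈ (MulAut.conj g) • (S : Subgroup G) := by rw [← Sylow.coe_subgroup_smul, hg]; exact hu
      obtain ⟨v, hv, e⟩ := (Subgroup.mem_smul_pointwise_iff_exists _ _ _).1 this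
      rw [← e]
      show g⁻¹ * (g * v * g⁻¹) * g ∈ _
      rwa [show g⁻¹ * (g * v * g⁻¹) * g = v by group]
    · refine mem_centralizer_singleton_iff.2 (Subtype.ext ?_)
      have h := congrArg Subtype.val (mem_centralizer_singleton_iff.1 u.2)
      simp only [Subgroup.coe_mul] at h ⊢
      calc g⁻¹ * (u : (S' : Subgroup G)) * g * d.φ (AA j)
          = g⁻¹ * ((u : (S' : Subgroup G)) * (g * d.φ (AA j) * g⁻¹)) * g := by group
        _ = g⁻¹ * ((g * d.φ (AA j) * g⁻¹) * (u : (S' : Subgroup G))) * g := by rw [h]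
        _ = d.φ (AA j) * (g⁻¹ * (u : (S' : Subgroup G)) * g) := by group
    · intro a b e
      have h := congrArg (fun v : centralizer ({(⟨_, hA j⟩ : (S : Subgroup G))} : Set (S : Subgroup G)) => ((v : (S : Subgroup G)) : G)) e
      simp only [mul_left_inj, mul_right_inj] at h
      exact Subtype.ext (Subtype.ext h)

theorem exists_glue : Nonempty (Glue d) := by
  obtain ⟨K, hK, hcop, -, -, hnorm, x, hxK, hx1, hxw⟩ := d.exists_match
  -- conjugate into the centraliser of `z`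
  have conjc : ∀ u : G, Commute u (d.φ W0) → ∃ p, p * Z0 = Z0 * p ∧ d.φ p = d.b * u * d.b := fun u hu => by
    have h : Commute (d.b * u * d.b) (d.φ Z0) := by
      have := congrArg (fun v => d.b * v * d.b) hu.eq
      simp only [d.bmul, d.bw] at this
      exact this
    obtain ⟨p, hp, e⟩ := d.cent_z h
    exact ⟨p, hp, e.symm⟩
  obtain ⟨p, hpZ, hpx⟩ := conjc x hxw
  have hZD : Z0 ∈ centralizer ({Z0, W0} : Set PP) := mem_centZW.2 ⟨1, 0, by simp⟩
  have hq : ∀ q : PP, q * Z0 = Z0 * q → d.b * d.φ q * d.b ∈ K → q ^ 10 = 1 := by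
    intro q hqz hqK
    have ho : (orderOf q).Coprime 3 := by
      have e : orderOf (d.b * d.φ q * d.b) = orderOf q := by
        rw [← orderOf_injective d.φ d.inj q, ← MulEquiv.orderOf_eq (MulAut.conj d.b) (d.φ q), MulAut.conj_apply, d.binv]
      rw [← e]
      exact Nat.Coprime.coprime_dvd_left (Subgroup.orderOf_dvd_natCard _ hqK) hcop
    exact orderOf_dvd_iff_pow_eq_one.1
      (ho.dvd_of_dvd_mul_left (orderOf_dvd_of_pow_eq_one (n := 3 * 10) (three_dvd_A q hqz)))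
  have hback : d.b * d.φ p * d.b = x := by rw [hpx, d.bb]
  have hWq : ∀ q : PP, d.b * d.φ (W0 * q * W0⁻¹) * d.b = d.φ Z0 * (d.b * d.φ q * d.b) * (d.φ Z0)⁻¹ := fun q => by
    rw [map_mul, map_mul, d.bmul, d.bmul, d.bw, map_inv]
    congr 1
    rw [← d.bw, mul_inv_rev, mul_inv_rev, d.binv, mul_assoc]
  set q := W0 * p * W0⁻¹ with hqdef
  have hqZ : q * Z0 = Z0 * q :=
    ((((show Commute W0 Z0 from ZW_comm.symm)).mul_left hpZ).mul_left (show Commute W0 Z0 from ZW_comm.symm).inv_left).eq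
  have hqK : d.b * d.φ q * d.b ∈ K := by rw [hqdef, hWq, hback]; exact hnorm Z0 hZD x hxK
  set q' := W0 * q * W0⁻¹ with hq'def
  have hq'Z : q' * Z0 = Z0 * q' :=
    ((((show Commute W0 Z0 from ZW_comm.symm)).mul_left hqZ).mul_left (show Commute W0 Z0 from ZW_comm.symm).inv_left).eq
  have hq'K : d.b * d.φ q' * d.b ∈ K := by rw [hq'def, hWq]; exact hnorm Z0 hZD _ hqK
  have hpK : d.b * d.φ p * d.b ∈ K := hback.symm ▸ hxK
  have hmul : ∀ u v : PP, d.b * d.φ u * d.b ∈ K → d.b * d.φ v * d.b ∈ K → d.b * d.φ (u * v) * d.b ∈ K := fun u v hu hv => by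
    rw [map_mul, d.bmul]; exact mul_mem hu hv
  have c1 : Commute p Z0 := hpZ
  have c2 : Commute q Z0 := hqZ
  have c3 : Commute q' Z0 := hq'Z
  have hopt := four_options p hpZ (hq p hpZ hpK) (hq _ (c1.mul_left c2).eq (hmul _ _ hpK hqK))
    (hq _ ((c1.mul_left c1).mul_left c2).eq (hmul _ _ (hmul _ _ hpK hpK) hqK))
    (hq _ (((c1.mul_left c2).mul_left c1).mul_left c3).eq (hmul _ _ (hmul _ _ (hmul _ _ hpK hqK) hpK) hq'K))
  have hp1 : p ≠ 1 := fun e => hx1 (by rw [← hback, e, map_one, mul_one, d.hb])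
  -- choose the twist
  obtain ⟨τ, hτ, k, hk⟩ : ∃ τ : PP →* PP, (τ Z0 = Z0 ∧ τ W0 = W0 ∧ τ T1 = T1 ∧ τ J0 = J0) ∧ ∃ k, τ (AA k) = p := by
    obtain ⟨t1, t2, t3, t4, t5⟩ := tau_facts
    rcases hopt.resolve_left hp1 with (e | e | e) | (e | e | e)
    · exact ⟨MonoidHom.id _, ⟨rfl, rfl, rfl, rfl⟩, 0, e.symm⟩
    · exact ⟨MonoidHom.id _, ⟨rfl, rfl, rfl, rfl⟩, 1, e.symm⟩
    · exact ⟨MonoidHom.id _, ⟨rfl, rfl, rfl, rfl⟩, 2, e.symm⟩
    · exact ⟨tau, ⟨t1, t2, t3, t4⟩, 0, (t5 0).trans e.symm⟩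
    · exact ⟨tau, ⟨t1, t2, t3, t4⟩, 1, (t5 1).trans e.symm⟩
    · exact ⟨tau, ⟨t1, t2, t3, t4⟩, 2, (t5 2).trans e.symm⟩
  obtain ⟨hτZ, hτW, hτT, hτJ⟩ := hτ
  have hbK : ∀ j : Fin 3, d.b * d.φ (τ (AA j)) * d.b ∈ d.CV := by
    intro j
    obtain ⟨m, hm⟩ : ∃ m : Fin 3, W0 ^ m.val * AA k * (W0 ^ m.val)⁻¹ = AA j := by
      have key : ∀ k j : Fin 3, ∃ m : Fin 3, (c012 0 1 2 : Perm (Fin 5)) ^ m.val * (AA k).1.2 * ((c012 0 1 2) ^ m.val)⁻¹ = (AA j).1.2 := by
        decide +kernel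
      obtain ⟨m, hm⟩ := key k j
      refine ⟨m, ext_PP ?_ ?_⟩
      · rw [← pr3_apply, ← pr3_apply, map_mul, map_mul, map_inv]
        fin_cases k <;> fin_cases j <;> simp [AA, A0, A1, A2, el, pr3_apply]
      · rw [← pr5_apply, map_mul, map_mul, map_inv, map_pow]; exact hm
    refine hK ?_
    rw [← hm, show τ (W0 ^ m.val * AA k * (W0 ^ m.val)⁻¹) = W0 ^ m.val * p * (W0 ^ m.val)⁻¹ by
      rw [map_mul, map_mul, map_inv, map_pow, hτW, hk]]
    rcases (show m.val = 0 ∨ m.val = 1 ∨ m.val = 2 by omega) with e | e | e <;> rw [e]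
    · simpa using hpK
    · simpa [hqdef] using hqK
    · rw [show W0 ^ 2 * p * (W0 ^ 2)⁻¹ = q' by rw [hq'def, hqdef, pow_two]; group]
      exact hq'K
  let ψ0 : PP →* G := ((MulAut.conj d.b).toMonoidHom.comp d.φ).comp τ
  have hψ0 : ∀ u, ψ0 u = d.b * d.φ (τ u) * d.b := fun u => by
    show d.b * d.φ (τ u) * d.b⁻¹ = _; rw [d.binv]
  have p0Z : ψ0 Z0 = d.φ W0 := by rw [hψ0, hτZ, d.hbz]
  have p0W : ψ0 W0 = d.φ Z0 := by rw [hψ0, hτW, d.bw]
  have hT1 : ψ0 T1 * ψ0 T1 = 1 := by rw [← map_mul, show T1 * T1 = 1 from ext_PP (by decide) (by decide +kernel), map_one]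
  obtain ⟨x1, hx12, hx1Z, hx1e⟩ := d.inv_z hT1 (by
    rw [← p0W, ← map_mul, ← map_mul, ← map_inv, show T1 * W0 * T1 = W0⁻¹ from ext_PP (by decide) (by decide +kernel)])
  have hx1W : x1 * W0 = W0 * x1 := d.inj (by
    rw [map_mul, map_mul, ← hx1e, ← p0Z, ← map_mul, ← map_mul,
      show T1 * Z0 = Z0 * T1 from ext_PP (by decide) (by decide +kernel)])
  obtain ⟨n, rfl⟩ := invol_iz x1 hx12 hx1Z hx1W
  let ψ1 : PP →* G := (MulAut.conj (d.φ (Z0 ^ n.val))⁻¹).toMonoidHom.comp ψ0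
  have hψ1 : ∀ u, ψ1 u = (d.φ (Z0 ^ n.val))⁻¹ * ψ0 u * d.φ (Z0 ^ n.val) := fun u => by
    show _ * ψ0 u * (_)⁻¹ = _; rw [inv_inv]
  have zc : ∀ u, Commute Z0 u → Commute (d.φ (Z0 ^ n.val)) (d.φ u) := fun u h => (h.pow_left n.val).map d.φ
  have p1Z : ψ1 Z0 = d.φ W0 := by rw [hψ1, p0Z, mul_assoc, ← (zc W0 ZW_comm).eq, inv_mul_cancel_left]
  have p1W : ψ1 W0 = d.φ Z0 := by rw [hψ1, p0W, mul_assoc, ← (zc Z0 (Commute.refl _)).eq, inv_mul_cancel_left]
  have p1T : ψ1 T1 = d.φ T0 := by rw [hψ1, hx1e, map_mul, map_mul, map_inv]; group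
  have hJ1 : ψ1 J0 * ψ1 J0 = 1 := by rw [← map_mul, show J0 * J0 = 1 from ext_PP (by decide) (by decide +kernel), map_one]
  obtain ⟨x2, hx22, hx2Z, hx2e⟩ := d.inv_z hJ1 (by
    rw [← p1W, ← map_mul, ← map_mul, ← map_inv, show J0 * W0 * J0 = W0⁻¹ from ext_PP (by decide) (by decide +kernel)])
  have hx2W : x2 * W0 * x2 = W0⁻¹ := d.inj (by
    rw [map_mul, map_mul, map_inv, ← hx2e, ← p1Z, ← map_mul, ← map_mul, ← map_inv,
      show J0 * Z0 * J0 = Z0⁻¹ from ext_PP (by decide) (by decide +kernel)])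
  have hx2T : x2 * T0 = T0 * x2 := d.inj (by
    rw [map_mul, map_mul, ← hx2e, ← p1T, ← map_mul, ← map_mul,
      show J0 * T1 = T1 * J0 from ext_PP (by decide) (by decide +kernel)])
  obtain ⟨m, rfl⟩ := invol_izw x2 hx22 hx2Z hx2W hx2T
  let ψ2 : PP →* G := (MulAut.conj (d.φ (W0 ^ m.val))⁻¹).toMonoidHom.comp ψ1
  have hψ2 : ∀ u, ψ2 u = (d.φ (W0 ^ m.val))⁻¹ * ψ1 u * d.φ (W0 ^ m.val) := fun u => by
    show _ * ψ1 u * (_)⁻¹ = _; rw [inv_inv]
  have wc : ∀ u, Commute W0 u → Commute (d.φ (W0 ^ m.val)) (d.φ u) := fun u h => (h.pow_left m.val).map d.φ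
  have hTW : Commute W0 T0 := ext_PP (by decide) (by decide +kernel)
  refine ⟨⟨ψ2, ?_, ?_, ?_, ?_, ?_, ?_⟩⟩
  · rw [hψ2, p1Z, mul_assoc, ← (wc W0 (Commute.refl _)).eq, inv_mul_cancel_left]
  · rw [hψ2, p1W, mul_assoc, ← (wc Z0 ZW_comm.symm).eq, inv_mul_cancel_left]
  · rw [hψ2, p1T, mul_assoc, ← (wc T0 hTW).eq, inv_mul_cancel_left]
  · rw [hψ2, hx2e, map_mul, map_mul, map_inv]; group
  · intro i j
    obtain ⟨i', hi'⟩ := mem_AA.1 (AA_conj i m)
    have hzA : Commute Z0 (AA i') := by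
      refine ext_PP ?_ ?_
      · fin_cases i' <;> decide +kernel
      · show (1 : Perm (Fin 5)) * _ = _ * 1
        rw [one_mul, mul_one]
    have h0 : Commute (d.φ (AA i')) (ψ0 (AA j)) := by rw [hψ0]; exact (d.CV_comm (hbK j) i').symm
    have h1 : Commute (d.φ (AA i')) (ψ1 (AA j)) := by
      have := h0.map (MulAut.conj (d.φ (Z0 ^ n.val))⁻¹).toMonoidHom
      simp only [MulEquiv.coe_toMonoidHom, MulAut.conj_apply, inv_inv] at this
      rwa [mul_assoc _ (d.φ (AA i')), ← (zc _ hzA).eq, inv_mul_cancel_left, ← hψ1] at this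
    have h2 := h1.map (MulAut.conj (d.φ (W0 ^ m.val))⁻¹).toMonoidHom
    simp only [MulEquiv.coe_toMonoidHom, MulAut.conj_apply, inv_inv] at h2
    rwa [← map_inv, ← map_mul, ← map_mul, ← hi', show (W0 ^ m.val)⁻¹ * (W0 ^ m.val * AA i * (W0 ^ m.val)⁻¹) * W0 ^ m.val = AA i by group,
      map_inv, ← hψ2] at h2
  · refine ⟨(d.φ (W0 ^ m.val))⁻¹ * (d.φ (Z0 ^ n.val))⁻¹ * d.b, ?_, fun u => ⟨τ u, ?_⟩⟩
    · calc _ = (d.φ (W0 ^ m.val))⁻¹ * ((d.φ (Z0 ^ n.val))⁻¹ * (d.b * d.φ Z0 * d.b⁻¹) * d.φ (Z0 ^ n.val)) * d.φ (W0 ^ m.val) := by group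
        _ = d.φ W0 := by
          rw [d.binv, d.hbz, mul_assoc _ (d.φ W0), ← (zc W0 ZW_comm).eq, inv_mul_cancel_left, mul_assoc,
            ← (wc W0 (Commute.refl _)).eq, inv_mul_cancel_left]
    · rw [hψ2, hψ1, hψ0, mul_inv_rev, mul_inv_rev, inv_inv, inv_inv, d.binv]; group

end Data

end Cfsg.Agent.Lead.AltEightLocal
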