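import Cfsg.Agent.Lib.Lead.AltEightLocal.Model

/-!
Finite facts about the alternating group of degree eight.
-/

set_option autoImplicit false
set_option maxRecDepth 100000
set_option synthInstance.maxSize 4096
set_option synthInstance.maxHeartbeats 200000

namespace Cfsg.Agent.Lead.AltEightLocal

open Equiv

abbrev P4 := Perm (Fin 4)

/-- the two blocks of four points -/
def e44 : Fin 4 ⊕ Fin 4 ≃ Fin 8 where
  toFun := Sum.elim ![0, 1, 2, 4] ![5, 6, 7, 3]
  invFun := ![Sum.inl 0, Sum.inl 1, Sum.inl 2, Sum.inr 3, Sum.inl 3, Sum.inr 0, Sum.inr 1, Sum.inr 2]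
  left_inv := by decide
  right_inv := by decide

/-- the three and five points of the model -/
def e35 : Fin 3 ⊕ Fin 5 ≃ Fin 8 where
  toFun := Sum.elim ![0, 1, 2] ![5, 6, 7, 3, 4]
  invFun := ![Sum.inl 0, Sum.inl 1, Sum.inl 2, Sum.inr 3, Sum.inr 4, Sum.inr 0, Sum.inr 1, Sum.inr 2]
  left_inv := by decide
  right_inv := by decide

/-- permutations of the two blocks -/
def JJ : P4 × P4 →* Perm (Fin 8) :=
  e44.permCongrHom.toMonoidHom.comp (Perm.sumCongrHom (Fin 4) (Fin 4))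

/-- the model inside the alternating group -/
def iota : PP →* Perm (Fin 8) :=
  (e35.permCongrHom.toMonoidHom.comp (Perm.sumCongrHom (Fin 3) (Fin 5))).comp (Subgroup.subtype PP)

theorem JJ_inl (σ τ : P4) (i : Fin 4) : JJ (σ, τ) (e44 (Sum.inl i)) = e44 (Sum.inl (σ i)) := by
  simp [JJ, Equiv.permCongr_apply]

theorem JJ_inr (σ τ : P4) (i : Fin 4) : JJ (σ, τ) (e44 (Sum.inr i)) = e44 (Sum.inr (τ i)) := by
  simp [JJ, Equiv.permCongr_apply]

theorem JJ_inj : Function.Injective JJ :=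
  e44.permCongrHom.injective.comp Perm.sumCongrHom_injective

theorem sign_JJ (σ τ : P4) : Perm.sign (JJ (σ, τ)) = Perm.sign σ * Perm.sign τ := by
  simp [JJ, Equiv.Perm.sign_permCongr, Equiv.Perm.sign_sumCongr]

theorem sign_iota (p : PP) : Perm.sign (iota p) = 1 := by
  show Perm.sign (e35.permCongr (Perm.sumCongr p.1.1 p.1.2)) = 1
  rw [Equiv.Perm.sign_permCongr, Equiv.Perm.sign_sumCongr, sign_eq p, Int.units_mul_self]

theorem even_JJ (σ τ : P4) : Perm.sign (JJ (σ, τ)) = 1 ↔ Perm.sign σ = Perm.sign τ := by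
  rw [sign_JJ]
  rcases Int.units_eq_one_or (Perm.sign σ) with h | h <;> rcases Int.units_eq_one_or (Perm.sign τ) with h' | h' <;>
    rw [h, h'] <;> decide

theorem JJ_fix (σ τ : P4) : (∃ i, JJ (σ, τ) i = i) ↔ (∃ i, σ i = i) ∨ ∃ i, τ i = i := by
  constructor
  · rintro ⟨i, hi⟩
    obtain ⟨u, rfl⟩ := e44.surjective i
    cases u with
    | inl k => rw [JJ_inl] at hi; exact Or.inl ⟨k, Sum.inl_injective (e44.injective hi)⟩
    | inr k => rw [JJ_inr] at hi; exact Or.inr ⟨k, Sum.inr_injective (e44.injective hi)⟩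
  · rintro (⟨k, hk⟩ | ⟨k, hk⟩)
    · exact ⟨_, by rw [JJ_inl, hk]⟩
    · exact ⟨_, by rw [JJ_inr, hk]⟩

def cc : P4 := swap 0 1 * swap 2 3
def vv : P4 := swap 0 2 * swap 1 3
def q4 : P4 := swap 0 2 * swap 1 3 * swap 2 3
def DD : Fin 3 → P4 := ![swap 0 1 * swap 2 3, swap 0 2 * swap 1 3, swap 0 3 * swap 1 2]
def TR : Fin 3 → Fin 2 → P4 := ![![swap 0 1, swap 2 3], ![swap 0 2, swap 1 3], ![swap 0 3, swap 1 2]]
def TAU : Fin 4 → P4 := ![swap 0 1, swap 2 3, q4, q4⁻¹]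

def a8 : Perm (Fin 8) := JJ (1, cc)
def v8 : Perm (Fin 8) := JJ (1, vv)
def a8' : Perm (Fin 8) := JJ (cc, 1)
def b8 : Perm (Fin 8) := JJ (cc, cc)
def sw8 : Perm (Fin 8) := swap 0 5 * swap 1 6 * swap 2 7 * swap 4 3

theorem iota_A0 : iota A0 = a8 := by decide +kernel
theorem iota_A1 : iota A1 = v8 := by decide +kernel

/-- commuting with the involution of the second block -/
theorem range_JJ {x : Perm (Fin 8)} (h : x * a8 = a8 * x) : ∃ σ τ, x = JJ (σ, τ) ∧ τ * cc = cc * τ := by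
  have hfix : ∀ i, a8 i = i ↔ ∃ k, i = e44 (Sum.inl k) := by decide +kernel
  have hmap : Set.MapsTo (e44.symm.permCongr x) (Set.range Sum.inl) (Set.range Sum.inl) := by
    rintro _ ⟨k, rfl⟩
    have h1 : a8 (x (e44 (Sum.inl k))) = x (e44 (Sum.inl k)) := by
      have h2 := congrArg (fun f : Perm (Fin 8) => f (e44 (Sum.inl k))) h
      simp only [Perm.mul_apply] at h2
      rw [(hfix _).2 ⟨k, rfl⟩] at h2
      exact h2.symm
    obtain ⟨l, hl⟩ := (hfix _).1 h1
    refine ⟨l, ?_⟩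
    rw [Equiv.permCongr_apply, Equiv.symm_symm, hl, Equiv.symm_apply_apply]
  obtain ⟨⟨σ, τ⟩, hστ⟩ := Perm.mem_sumCongrHom_range_of_perm_mapsTo_inl hmap
  have e : x = JJ (σ, τ) := by
    show x = e44.permCongr (Perm.sumCongrHom (Fin 4) (Fin 4) (σ, τ))
    rw [hστ]
    ext i
    simp [Equiv.permCongr_apply]
  refine ⟨σ, τ, e, ?_⟩
  rw [e, a8, ← map_mul, ← map_mul] at h
  exact congrArg Prod.snd (JJ_inj h)

/-- the involutions of the centraliser -/
theorem cent_invol_classify : ∀ σ τ : P4, Perm.sign σ = Perm.sign τ → τ * cc = cc * τ → σ * σ = 1 → τ * τ = 1 →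
    ((∃ i, σ i = i) ∨ ∃ i, τ i = i) → ((∃ i, σ i = i) ∨ ∃ i, (cc * τ) i = i) →
    (σ = 1 ∧ (τ = 1 ∨ τ = cc ∨ τ = vv ∨ τ = cc * vv)) ∨
      ∃ k s, σ = TR k s ∧ (τ = TAU 0 ∨ τ = TAU 1) := by decide +kernel

theorem cent_four_classify : ∀ σ τ : P4, Perm.sign σ = Perm.sign τ → τ * cc = cc * τ → σ * σ = 1 → τ * τ = cc →
    ∃ k s, σ = TR k s ∧ (τ = TAU 2 ∨ τ = TAU 3) := by decide +kernel

theorem special_comm : ∀ (k : Fin 3) (s : Fin 2) (m : Fin 4),
    Perm.sign (TR k s) = Perm.sign (TAU m) ∧ TAU m * cc = cc * TAU m ∧ TR k s * DD k = DD k * TR k s ∧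
    DD k * DD k = 1 ∧ Perm.sign (DD k) = 1 ∧
    ((vv * TAU m * vv = TAU m ∧ DD k * TR k s * DD k = TR k s) ∨
      (vv * TAU m * vv = cc * TAU m ∧ DD k * TR k s * DD k = TR k s)) := by decide +kernel

theorem DD_nofix : ∀ k : Fin 3, ∀ i, DD k i ≠ i := by decide +kernel

/-- the elements commuting with a special element and its complement -/
theorem special_cent : ∀ (k : Fin 3) (s : Fin 2) (m : Fin 4), ∀ σ τ : P4, Perm.sign σ = Perm.sign τ →
    τ * cc = cc * τ → σ * TR k s = TR k s * σ → τ * TAU m = TAU m * τ → σ * DD k = DD k * σ →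
    ∃ i j l : Fin 2, σ = TR k s ^ j.val * DD k ^ l.val ∧ τ = cc ^ i.val * TAU m ^ j.val := by decide +kernel

theorem special_list : ∀ (k : Fin 3) (s : Fin 2) (m : Fin 4) (i j l : Fin 2),
    (TR k s ^ j.val * DD k ^ l.val) ^ 4 = 1 ∧ (cc ^ i.val * TAU m ^ j.val) ^ 4 = 1 ∧
    ((∀ a, (TR k s ^ j.val * DD k ^ l.val) a ≠ a) → (∀ a, (cc ^ i.val * TAU m ^ j.val) a ≠ a) →
      (TR k s ^ j.val * DD k ^ l.val) * (TR k s ^ j.val * DD k ^ l.val) = 1 →
      (cc ^ i.val * TAU m ^ j.val) * (cc ^ i.val * TAU m ^ j.val) = 1 →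
      TR k s ^ j.val * DD k ^ l.val = DD k ∧ cc ^ i.val * TAU m ^ j.val = cc) := by decide +kernel

/-- the permutations of the two classes -/
theorem invol_classes {x : Perm (Fin 8)} (hx : x * x = 1) (h1 : x ≠ 1) (hs : Perm.sign x = 1) :
    ∃ g : Perm (Fin 8), Perm.sign g = 1 ∧
      ((g * x * g⁻¹ = a8 ∧ ∃ i, x i = i) ∨ (g * x * g⁻¹ = b8 ∧ ∀ i, x i ≠ i)) := by
  haveI : Fact (Nat.Prime 2) := ⟨Nat.prime_two⟩
  obtain ⟨n, hn⟩ := Perm.cycleType_prime_order (σ := x) (by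
    rw [orderOf_eq_prime (p := 2) (by rw [pow_two, hx]) h1]; exact Nat.prime_two)
  rw [orderOf_eq_prime (p := 2) (by rw [pow_two, hx]) h1] at hn
  have hsum : 2 * (n + 1) ≤ 8 := by
    have h := Perm.sum_cycleType x
    rw [hn, Multiset.sum_replicate, smul_eq_mul] at h
    have h2 := Finset.card_le_univ x.support
    rw [Fintype.card_fin] at h2
    omega
  have hpar : n = 1 ∨ n = 3 := by
    rw [Perm.sign_of_cycleType, hn, Multiset.sum_replicate, Multiset.card_replicate, smul_eq_mul] at hs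
    rcases (show n = 0 ∨ n = 1 ∨ n = 2 ∨ n = 3 by omega) with rfl | rfl | rfl | rfl
    · exact absurd hs (by decide)
    · exact Or.inl rfl
    · exact absurd hs (by decide)
    · exact Or.inr rfl
  have hcard : x.support.card = 2 * (n + 1) := by
    have h := Perm.sum_cycleType x
    rw [hn, Multiset.sum_replicate, smul_eq_mul] at h
    omega
  have fin : ∀ r : Perm (Fin 8), r * swap 0 1 = swap 0 1 * r → r.cycleType = x.cycleType →
      ∃ g : Perm (Fin 8), Perm.sign g = 1 ∧ g * x * g⁻¹ = r := by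
    intro r hr hc
    obtain ⟨g, hg⟩ := isConj_iff.1 (Perm.isConj_iff_cycleType_eq.2 hc.symm)
    rcases Int.units_eq_one_or (Perm.sign g) with h | h
    · exact ⟨g, h, hg⟩
    · refine ⟨swap 0 1 * g, by rw [map_mul, h]; decide, ?_⟩
      calc swap 0 1 * g * x * (swap 0 1 * g)⁻¹ = swap 0 1 * (g * x * g⁻¹) * (swap 0 1)⁻¹ := by group
        _ = r := by rw [hg, ← hr, mul_inv_cancel_right]
  have ca : a8.cycleType = Multiset.replicate 2 2 := by
    obtain ⟨m, hm⟩ := Perm.cycleType_prime_order (σ := a8) (by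
      rw [orderOf_eq_prime (p := 2) (by decide +kernel) (by decide +kernel)]; exact Nat.prime_two)
    rw [orderOf_eq_prime (p := 2) (by decide +kernel) (by decide +kernel)] at hm
    have h := Perm.sum_cycleType a8
    rw [hm, Multiset.sum_replicate, smul_eq_mul, show a8.support.card = 4 by decide +kernel] at h
    rw [hm, show m + 1 = 2 by omega]
  have cb : b8.cycleType = Multiset.replicate 4 2 := by
    obtain ⟨m, hm⟩ := Perm.cycleType_prime_order (σ := b8) (by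
      rw [orderOf_eq_prime (p := 2) (by decide +kernel) (by decide +kernel)]; exact Nat.prime_two)
    rw [orderOf_eq_prime (p := 2) (by decide +kernel) (by decide +kernel)] at hm
    have h := Perm.sum_cycleType b8
    rw [hm, Multiset.sum_replicate, smul_eq_mul, show b8.support.card = 8 by decide +kernel] at h
    rw [hm, show m + 1 = 4 by omega]
  rcases hpar with rfl | rfl
  · obtain ⟨g, h, e⟩ := fin a8 (by decide +kernel) (by rw [ca, hn])
    refine ⟨g, h, Or.inl ⟨e, ?_⟩⟩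
    by_contra hc
    push Not at hc
    have : x.support = Finset.univ := Finset.eq_univ_of_forall fun i => Perm.mem_support.2 (hc i)
    rw [this, Finset.card_univ, Fintype.card_fin] at hcard
    omega
  · obtain ⟨g, h, e⟩ := fin b8 (by decide +kernel) (by rw [cb, hn])
    refine ⟨g, h, Or.inr ⟨e, fun i => Perm.mem_support.1 ?_⟩⟩
    rw [Finset.eq_univ_of_card x.support (by rw [hcard]; rfl)]
    exact Finset.mem_univ i

/-- the pairs of the Sylow two-subgroup -/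
def pairGroup : Subgroup (P4 × P4) where
  carrier := {p | p.1 * cc = cc * p.1 ∧ p.2 * cc = cc * p.2 ∧ Perm.sign p.1 = Perm.sign p.2}
  one_mem' := by simp
  mul_mem' := by
    rintro ⟨a, b⟩ ⟨a', b'⟩ ⟨h1, h2, h3⟩ ⟨k1, k2, k3⟩
    exact ⟨(Commute.mul_left h1 k1 : Commute (a * a') cc), (Commute.mul_left h2 k2 : Commute (b * b') cc),
      by simp only [Prod.fst_mul, Prod.snd_mul, map_mul, h3, k3]⟩
  inv_mem' := by
    rintro ⟨a, b⟩ ⟨h1, h2, h3⟩
    exact ⟨(Commute.inv_left h1 : Commute a⁻¹ cc), (Commute.inv_left h2 : Commute b⁻¹ cc),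
      by simp only [Prod.fst_inv, Prod.snd_inv, Perm.sign_inv]; exact h3⟩

def D8list : Fin 8 → P4 := ![1, cc, vv, cc * vv, swap 0 1, swap 2 3, q4, q4⁻¹]

theorem D8_spec : ∀ σ : P4, σ * cc = cc * σ → ∃ i, σ = D8list i := by decide +kernel

theorem D8_pow4 : ∀ σ : P4, σ * cc = cc * σ → σ * σ * (σ * σ) = 1 := by decide +kernel

theorem sw8_conj : ∀ i j : Fin 8, sw8 * JJ (D8list i, D8list j) * sw8 = JJ (D8list j, D8list i) := by decide +kernel

theorem sq_atype : ∀ i j : Fin 8, Perm.sign (D8list i) = Perm.sign (D8list j) → ∀ k : Fin 2,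
    (∃ a, (JJ (D8list i, D8list j) * sw8 ^ k.val * (JJ (D8list i, D8list j) * sw8 ^ k.val)) a = a) →
    JJ (D8list i, D8list j) * sw8 ^ k.val * (JJ (D8list i, D8list j) * sw8 ^ k.val) = 1 ∨
    JJ (D8list i, D8list j) * sw8 ^ k.val * (JJ (D8list i, D8list j) * sw8 ^ k.val) = a8 ∨
    JJ (D8list i, D8list j) * sw8 ^ k.val * (JJ (D8list i, D8list j) * sw8 ^ k.val) = a8' := by decide +kernel

theorem v_char : ∀ i j : Fin 8, Perm.sign (D8list i) = Perm.sign (D8list j) → ∀ k : Fin 2,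
    let u := JJ (D8list i, D8list j) * sw8 ^ k.val
    u * u = 1 → u * a8 = a8 * u → u ≠ 1 → u ≠ a8 → (∃ a, u a = a) → (∃ a, (a8 * u) a = a) → (∀ a, (a8' * u) a ≠ a) →
    u = v8 ∨ u = a8 * v8 := by decide +kernel

def y8 : Perm (Fin 8) := c012 0 2 5 * c012 1 4 6
def z8 : Perm (Fin 8) := c012 0 2 5
def j8 : Perm (Fin 8) := swap 2 5 * swap 4 6
def g8 : Perm (Fin 8) := swap 1 2 * swap 6 7
def p8 : Perm (Fin 8) := JJ (swap 0 1, swap 2 3)
def b1 : Perm (Fin 8) := JJ (vv, vv)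

/-- membership of the two blocks -/
def blk (i : Fin 8) : Bool := decide (i = 0 ∨ i = 1 ∨ i = 2 ∨ i = 4)

def pres (x : Perm (Fin 8)) : Bool := decide (∀ i j : Fin 8, blk i = blk j → blk (x i) = blk (x j))

theorem pres_syl : ∀ i j : Fin 8, ∀ k : Fin 2, pres (JJ (D8list i, D8list j) * sw8 ^ k.val) = true := by decide +kernel

def yIndex : Finset (Fin 8 × Fin 8 × Fin 2) :=
  Finset.univ.filter fun e => Perm.sign (D8list e.1) = Perm.sign (D8list e.2.1) ∧
    pres (y8⁻¹ * (JJ (D8list e.1, D8list e.2.1) * sw8 ^ e.2.2.val) * y8) = true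

theorem yIndex_card : yIndex.card = 32 := by decide +kernel

theorem yIndex_mem : ((4 : Fin 8), (5 : Fin 8), (0 : Fin 2)) ∈ yIndex ∧ ((2 : Fin 8), (2 : Fin 8), (0 : Fin 2)) ∈ yIndex := by
  decide +kernel

theorem u8_order : let u := p8 * (g8 * p8 * g8⁻¹); u * u * u = 1 ∧ u ≠ 1 := by decide +kernel

theorem syl_inj : ∀ i j i' j' : Fin 8, ∀ k k' : Fin 2,
    JJ (D8list i, D8list j) * sw8 ^ k.val = JJ (D8list i', D8list j') * sw8 ^ k'.val → i = i' ∧ j = j' ∧ k = k' := by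
  intro i j i' j' k k' h
  have key : ∀ i j : Fin 8, D8list i = D8list j → i = j := by decide +kernel
  have hblk : ∀ σ τ : P4, ∀ a : Fin 4, blk (JJ (σ, τ) (e44 (Sum.inl a))) = true := fun σ τ a => by
    rw [JJ_inl]; exact (by decide +kernel : ∀ a, blk (e44 (Sum.inl a)) = true) _
  have hk : k = k' := by
    by_contra hne
    have h0 := congrArg (fun f : Perm (Fin 8) => blk (f 0)) h
    simp only [Perm.mul_apply] at h0
    have e0 : (0 : Fin 8) = e44 (Sum.inl 0) := by decide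
    have e5 : (sw8 : Perm (Fin 8)) 0 = e44 (Sum.inr 0) := by decide +kernel
    have hr : ∀ σ τ : P4, blk (JJ (σ, τ) (e44 (Sum.inr 0))) = false := fun σ τ => by
      rw [JJ_inr]; exact (by decide +kernel : ∀ a, blk (e44 (Sum.inr a)) = false) _
    rcases (show (k = 0 ∧ k' = 1) ∨ (k = 1 ∧ k' = 0) by omega) with ⟨rfl, rfl⟩ | ⟨rfl, rfl⟩
    · simp only [Fin.val_zero, Fin.val_one, pow_zero, pow_one, Perm.one_apply, e5] at h0
      rw [hr, e0, hblk] at h0
      exact Bool.noConfusion h0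
    · simp only [Fin.val_zero, Fin.val_one, pow_zero, pow_one, Perm.one_apply, e5] at h0
      rw [hr, e0, hblk] at h0
      exact Bool.noConfusion h0
  subst hk
  have h' := JJ_inj (mul_right_cancel h)
  exact ⟨key _ _ (congrArg Prod.fst h'), key _ _ (congrArg Prod.snd h'), rfl⟩

theorem y8_facts : y8 * b8 = b8 * y8 ∧ j8 * b8 = b8 * j8 ∧ j8 * y8 * j8 = y8⁻¹ ∧ y8 * y8 * y8 = 1 ∧ y8 ≠ 1 ∧
    Perm.sign y8 = 1 ∧ Perm.sign j8 = 1 ∧ Perm.sign z8 = 1 ∧ z8 * y8 = y8 * z8 ∧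
    g8 * b8 * g8⁻¹ = b1 ∧ Perm.sign g8 = 1 := by decide +kernel

theorem y8_list : ∀ i j : Fin 3, ∀ k : Fin 2,
    (y8 ^ i.val * z8 ^ j.val * b8 ^ k.val) * b8 = b8 * (y8 ^ i.val * z8 ^ j.val * b8 ^ k.val) → j = 0 := by
  decide +kernel

theorem y8_list_inj : ∀ i j i' j' : Fin 3, ∀ k k' : Fin 2,
    y8 ^ i.val * z8 ^ j.val * b8 ^ k.val = y8 ^ i'.val * z8 ^ j'.val * b8 ^ k'.val → (i, j, k) = (i', j', k') := by
  decide +kernel

theorem y8_conj : ∃ g : Perm (Fin 8), Perm.sign g = 1 ∧ g * y8 * g⁻¹ = iota (Z0 * W0) :=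
  ⟨swap 1 7 * swap 7 4 * swap 4 5 * swap 5 2, by decide +kernel, by decide +kernel⟩

end Cfsg.Agent.Lead.AltEightLocal
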