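import Cfsg.Agent.Lib.Lead.AltEightLocal.Copy
import Cfsg.Agent.Lib.Lead.AltEightLocal.Points

/-!
The copy contains the normalisers of the three-subgroups, of the four-group and a Sylow two-subgroup.
-/

set_option autoImplicit false
set_option maxRecDepth 100000
set_option synthInstance.maxSize 4096
set_option linter.style.haveILetI false

namespace Cfsg.Agent.Lead.AltEightLocal

open Subgroup Equiv
open Cfsg.Agent.Small.AltDeg Cfsg.Agent.Small.BoundedPres
open scoped Pointwise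

theorem isA8 {x : Perm (Fin 8)} : x ∈ alternatingGroup (Fin 8) ↔ Perm.sign x = 1 :=
  Equiv.Perm.mem_alternatingGroup

variable {G : Type*} [Group G] [Finite G] {d : Data G} (c : Glue.Copy d)

namespace Glue.Copy

/-- the copy -/
abbrev K : Subgroup G := c.θ.range

/-- coordinates of the model -/
def ι8 : PP →* alternatingGroup (Fin 8) := iota.codRestrict _ fun p => isA8.2 (sign_iota p)

theorem θι (p : PP) : c.θ (ι8 p) = d.φ p := by
  set H := MonoidHom.eqLocus (c.θ.comp ι8) d.φ with hH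
  suffices h : H = ⊤ from (h ▸ mem_top p : p ∈ H)
  have gen : ∀ (p : PP) (x : alternatingGroup (Fin 8)), (x : Perm (Fin 8)) = iota p → c.θ x = d.φ p → p ∈ H := by
    intro p x hx hθ
    show c.θ (ι8 p) = d.φ p
    rw [← hθ]
    congr 1
    exact Subtype.ext hx.symm
  refine Glue.pp_top H (gen Z0 _ (by rw [gcyc6]; decide +kernel) c.hz) ?_
  refine Glue.five_gen _ ⟨T0, gen T0 _ ?_ c.hT, by decide +kernel⟩ ⟨S2, gen S2 _ ?_ c.hS2, by decide +kernel⟩
    ⟨J0, gen J0 _ ?_ c.hJ, by decide +kernel⟩ ⟨S4, gen S4 _ ?_ c.hS4, by decide +kernel⟩ <;>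
  · simp only [Subgroup.coe_mul, gcyc6]
    decide +kernel

theorem φ_eq {p : PP} {x : alternatingGroup (Fin 8)} (h : (x : Perm (Fin 8)) = iota p) : c.θ x = d.φ p := by
  rw [← c.θι]
  exact congrArg c.θ (Subtype.ext h)

theorem eq_of_θ {x y : alternatingGroup (Fin 8)} (h : c.θ x = c.θ y) : (x : Perm (Fin 8)) = y :=
  congrArg Subtype.val (c.inj h)

theorem commute_iff {x y : alternatingGroup (Fin 8)} :
    Commute (c.θ x) (c.θ y) ↔ (x : Perm (Fin 8)) * y = y * x := by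
  constructor
  · intro h
    have := c.eq_of_θ (x := x * y) (y := y * x) (by rw [map_mul, map_mul]; exact h.eq)
    simpa using this
  · intro h
    exact (show Commute x y from Subtype.ext h).map c.θ

theorem hbK : d.b ∈ c.K := c.hb

theorem bconj {g : G} : d.b * g * d.b ∈ c.K ↔ g ∈ c.K := by
  refine ⟨fun h => ?_, fun h => mul_mem (mul_mem c.hb h) c.hb⟩
  have := mul_mem (mul_mem c.hb h) c.hb
  rwa [d.bb] at this

theorem cent_z_K {g : G} (h : Commute g (d.φ Z0)) : g ∈ c.K := by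
  obtain ⟨p, -, rfl⟩ := d.cent_z h; exact c.hφ p

theorem cent_w_K {g : G} (h : Commute g (d.φ W0)) : g ∈ c.K := by
  refine c.bconj.1 (c.cent_z_K ?_)
  have := congrArg (fun u => d.b * u * d.b) h.eq
  simp only [d.bmul, d.bw] at this
  exact this

theorem not_five_diag (i j : Fin 3) (hi : i.val ≠ 0) (hj : j.val ≠ 0) :
    ¬ HasFive (d.φ (Z0 ^ i.val * W0 ^ j.val)) := by
  have h0 : ¬ HasFive (d.φ (Z0 * W0)) := by rw [map_mul]; exact d.zw_not_five
  have sq : ∀ p : PP, p ^ 3 = 1 → HasFive (d.φ (p ^ 2)) → HasFive (d.φ p) := fun p hp h => by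
    have := h.inv
    rwa [← map_inv, show (p ^ 2)⁻¹ = p from inv_eq_of_mul_eq_one_right (by rw [← pow_succ, hp])] at this
  have h3 : ∀ p ∈ centralizer ({Z0, W0} : Set PP), p ^ 3 = 1 := fun p hp => Data.D_pow3 hp
  have hc : Commute Z0 W0 := ZW_comm
  have e21 : ∀ a b : ℕ, (Z0 ^ a * W0 ^ b) ^ 2 = Z0 ^ (2 * a) * W0 ^ (2 * b) := fun a b => by
    rw [(hc.pow_pow a b).mul_pow, ← pow_mul, ← pow_mul, mul_comm a 2, mul_comm b 2]
  have m22 : Z0 ^ 2 * W0 ^ 2 = (Z0 ^ 1 * W0 ^ 1) ^ 2 := by rw [e21]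
  have m21 : ¬ HasFive (d.φ (Z0 ^ 2 * W0 ^ 1)) := fun h => by
    have := h.conj (d.φ T0)
    rw [← map_inv, ← map_mul, ← map_mul,
      show T0 * (Z0 ^ 2 * W0 ^ 1) * T0⁻¹ = Z0 * W0 from ext_PP (by decide +kernel) (by decide +kernel)] at this
    exact h0 this
  rcases (show i.val = 1 ∨ i.val = 2 by omega) with ei | ei <;>
    rcases (show j.val = 1 ∨ j.val = 2 by omega) with ej | ej <;> rw [ei, ej]
  · simpa using h0
  · intro h
    refine m21 ?_
    have := h.inv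
    rwa [← map_inv, show (Z0 ^ 1 * W0 ^ 2)⁻¹ = Z0 ^ 2 * W0 ^ 1 from ext_PP (by decide +kernel) (by decide +kernel)] at this
  · exact m21
  · intro h
    rw [m22] at h
    exact h0 (by simpa using sq _ (h3 _ (mem_centZW.2 ⟨1, 1, by simp⟩)) h)

theorem W0_five : HasFive (d.φ W0) := by
  have := d.z_five.conj d.b
  rwa [d.binv, d.hbz] at this

/-- elements normalising the Sylow three-subgroup -/
theorem norm_D {g : G} (hg : ∀ p ∈ centralizer ({Z0, W0} : Set PP),
    ∃ p' ∈ centralizer ({Z0, W0} : Set PP), g * d.φ p * g⁻¹ = d.φ p') : g ∈ c.K := by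
  obtain ⟨p', hp', e⟩ := hg Z0 (mem_centZW.2 ⟨1, 0, by simp⟩)
  have h5 : HasFive (d.φ p') := e ▸ d.z_five.conj g
  obtain ⟨i, j, rfl⟩ := mem_centZW.1 hp'
  rcases (show i.val = 0 ∨ i.val ≠ 0 by omega) with hi | hi
  · have hb' : d.b * g ∈ d.φ.range := by
      refine d.hN _ ?_
      have e' : d.b * g * d.φ Z0 * (d.b * g)⁻¹ = d.b * (g * d.φ Z0 * g⁻¹) * d.b := by
        rw [mul_inv_rev, d.binv]; group
      rw [e', e, hi, pow_zero, one_mul, map_pow]
      have hconj : d.b * d.φ W0 ^ j.val * d.b = d.φ Z0 ^ j.val := by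
        rcases (show j.val = 0 ∨ j.val = 1 ∨ j.val = 2 by omega) with h | h | h <;> rw [h]
        · rw [pow_zero, pow_zero, mul_one, d.hb]
        · rw [pow_one, pow_one, d.bw]
        · rw [pow_two, pow_two, d.bmul, d.bw]
      rw [hconj]
      rcases (show j.val = 0 ∨ j.val = 1 ∨ j.val = 2 by omega) with h | h | h
      · rw [hi, h, pow_zero, pow_zero, one_mul, map_one] at e
        exact absurd (congrArg pr3 (d.inj ((conj_eq_one_iff.1 e).trans (map_one d.φ).symm))) (by decide)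
      · exact Or.inl (by rw [h, pow_one])
      · exact Or.inr (by rw [h]; exact eq_inv_of_mul_eq_one_left (by rw [← pow_succ, ← map_pow, Z0_pow, map_one]))
    obtain ⟨q, hq⟩ := hb'
    rw [show g = d.b * d.φ q by rw [hq, ← mul_assoc, d.hb, one_mul]]
    exact mul_mem c.hb (c.hφ q)
  · rcases (show j.val = 0 ∨ j.val ≠ 0 by omega) with hj | hj
    · obtain ⟨q, rfl⟩ := d.hN g (by
        rw [e, hj, pow_zero, mul_one, map_pow]
        rcases (show i.val = 1 ∨ i.val = 2 by omega) with h | h <;> rw [h]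
        · exact Or.inl (pow_one _)
        · exact Or.inr (eq_inv_of_mul_eq_one_left (by rw [← pow_succ, ← map_pow, Z0_pow, map_one])))
      exact c.hφ q
    · exact absurd h5 (not_five_diag i j hi hj)

/-- centralisers of the elements of the Sylow three-subgroup -/
theorem cent_D {p : PP} (hp : p ∈ centralizer ({Z0, W0} : Set PP)) (h1 : p ≠ 1) {g : G} (hg : Commute g (d.φ p)) :
    g ∈ c.K := by
  obtain ⟨i, j, rfl⟩ := mem_centZW.1 hp
  rw [map_mul, map_pow, map_pow] at hg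
  have pw : ∀ u : G, u ^ 3 = 1 → ∀ n : Fin 3, n.val ≠ 0 → Commute g (u ^ n.val) → Commute g u := fun u hu n hn h => by
    rcases (show n.val = 1 ∨ n.val = 2 by omega) with e | e <;> rw [e] at h
    · simpa using h
    · have := h.pow_right 2
      rwa [← pow_mul, show 2 * 2 = 3 + 1 from rfl, pow_succ, hu, one_mul] at this
  rcases (show i.val = 0 ∨ i.val ≠ 0 by omega) with hi | hi
  · have hj : j.val ≠ 0 := fun hj => h1 (by rw [hi, hj, pow_zero, pow_zero, one_mul])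
    rw [hi, pow_zero, one_mul] at hg
    exact c.cent_w_K (pw _ (by rw [← map_pow, W0_pow, map_one]) j hj hg)
  · rcases (show j.val = 0 ∨ j.val ≠ 0 by omega) with hj | hj
    · rw [hj, pow_zero, mul_one] at hg
      exact c.cent_z_K (pw _ (by rw [← map_pow, Z0_pow, map_one]) i hi hg)
    · exact c.norm_D (d.diag_norm i j hi hj hg)

theorem card_A8 : Nat.card (alternatingGroup (Fin 8)) = 20160 := by
  rw [nat_card_alternatingGroup, Nat.card_fin]; rfl

/-- centralisers of elements of order three of the copy -/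
theorem three_cent (x : alternatingGroup (Fin 8)) (h3 : x * x * x = 1) (h1 : x ≠ 1) {g : G}
    (hg : Commute g (c.θ x)) : g ∈ c.K := by
  haveI : Fact (Nat.Prime 3) := ⟨Nat.prime_three⟩
  set D8' := (centralizer ({Z0, W0} : Set PP)).map ι8 with hD
  have hinj : Function.Injective ι8 := fun p q h => d.inj (by rw [← c.θι, ← c.θι, h])
  have hc9 : Nat.card D8' = 9 := by
    rw [hD, ← Nat.card_congr (Subgroup.equivMapOfInjective _ ι8 hinj).toEquiv, card_centZW]
  obtain ⟨P, hP⟩ := (IsPGroup.of_card (p := 3) (n := 2) (G := D8') (by rw [hc9]; rfl)).exists_le_sylow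
  have hPeq : D8' = (P : Subgroup (alternatingGroup (Fin 8))) := by
    refine Subgroup.eq_of_le_of_card_ge hP ?_
    rw [hc9, P.card_eq_multiplicity, card_A8]
    rw [show (20160 : ℕ) = 3 ^ 2 * 2240 from rfl, Nat.factorization_mul (by norm_num) (by norm_num),
      Nat.Prime.factorization_pow Nat.prime_three, Finsupp.add_apply, Finsupp.single_eq_same,
      Nat.factorization_eq_zero_of_not_dvd (show ¬ 3 ∣ 2240 by norm_num)]
    norm_num
  have hx : IsPGroup 3 (zpowers x) := IsPGroup.of_card (n := 1) (by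
    rw [Nat.card_zpowers, pow_one]; exact orderOf_eq_prime (by rw [pow_three, ← mul_assoc, h3]) h1)
  obtain ⟨Q, hQ⟩ := hx.exists_le_sylow
  obtain ⟨u, hu⟩ := MulAction.exists_smul_eq (alternatingGroup (Fin 8)) P Q
  have hm : x ∈ ((u • P : Sylow 3 (alternatingGroup (Fin 8))) : Subgroup (alternatingGroup (Fin 8))) :=
    hu ▸ hQ (mem_zpowers _)
  rw [Sylow.coe_subgroup_smul, Subgroup.mem_smul_pointwise_iff_exists] at hm
  obtain ⟨v, hv, huv⟩ := hm
  rw [← hPeq] at hv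
  obtain ⟨p, hp, rfl⟩ := hv
  have e : c.θ x = c.θ u * d.φ p * (c.θ u)⁻¹ := by
    rw [← huv, ← c.θι, ← map_inv, ← map_mul, ← map_mul]; rfl
  have hp1 : p ≠ 1 := fun h => h1 (c.inj (by rw [e, h, map_one, map_one, mul_one, mul_inv_cancel]))
  have hc' := hg.map (MulAut.conj (c.θ u)⁻¹).toMonoidHom
  simp only [MulEquiv.coe_toMonoidHom, MulAut.conj_apply, inv_inv, e] at hc'
  rw [show (c.θ u)⁻¹ * (c.θ u * d.φ p * (c.θ u)⁻¹) * c.θ u = d.φ p by group] at hc'
  have hm := mul_mem (mul_mem (show c.θ u ∈ c.K from ⟨u, rfl⟩) (c.cent_D hp hp1 hc')) (inv_mem (show c.θ u ∈ c.K from ⟨u, rfl⟩))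
  rwa [show c.θ u * ((c.θ u)⁻¹ * g * c.θ u) * (c.θ u)⁻¹ = g by group] at hm

/-- the centraliser of the four-group -/
theorem CV_K : d.CV ≤ c.K := by
  obtain ⟨K, hK, hcop, hcard, hmem, hnorm, -⟩ := d.exists_match
  haveI : Fact (Nat.Prime 3) := ⟨Nat.prime_three⟩
  set D0 := (centralizer ({Z0, W0} : Set PP)).map d.φ with hD0
  have hD9 : Nat.card D0 = 9 := by
    rw [hD0, ← Nat.card_congr (Subgroup.equivMapOfInjective _ d.φ d.inj).toEquiv, card_centZW]
  haveI : IsMulCommutative D0 := IsPGroup.isMulCommutative_of_card_eq_prime_sq (p := 3) (by rw [hD9]; norm_num)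
  have hcyc : ¬ IsCyclic D0 := by
    intro h
    obtain ⟨g, hg⟩ := h.exists_generator
    have h9 := orderOf_eq_card_of_forall_mem_zpowers hg
    obtain ⟨p, hp, e⟩ := g.2
    have h3 : g ^ 3 = 1 := Subtype.ext (by
      show (g : G) ^ 3 = 1
      rw [← e, ← map_pow, Data.D_pow3 hp, map_one])
    have := orderOf_le_of_pow_eq_one (by norm_num) h3
    omega
  have hDK : D0 ≤ normalizer (K : Set G) := by
    rintro _ ⟨p, hp, rfl⟩
    rw [Subgroup.mem_normalizer_iff]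
    refine fun x => ⟨hnorm p hp x, fun h => ?_⟩
    have := hnorm p⁻¹ (inv_mem hp) _ h
    rwa [map_inv, inv_inv, show (d.φ p)⁻¹ * (d.φ p * x * (d.φ p)⁻¹) * d.φ p = x by group] at this
  have hgen := S0058.result D0 K hcyc hDK (by
    rw [hD9, show 9 = 3 ^ 2 from rfl]; exact (Nat.coprime_comm.1 hcop).pow_left 2)
  have hKK : K ≤ c.K := by
    rw [← hgen]
    refine iSup₂_le fun a ha x hx => ?_
    obtain ⟨⟨p, hp, rfl⟩, ha1⟩ := ha
    exact c.cent_D hp (fun h => ha1 (by rw [h, map_one])) (mem_centralizer_singleton_iff.1 hx.2)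
  have hz : zpowers (d.φ Z0) ≤ d.CV := zpowers_le.2 d.z_mem_CV
  have hsup : K ⊔ zpowers (d.φ Z0) = d.CV := by
    refine Subgroup.eq_of_le_of_card_ge (sup_le hK hz) ?_
    have h3 : Nat.card (zpowers (d.φ Z0)) = 3 := by
      rw [Nat.card_zpowers, orderOf_injective d.φ d.inj]
      exact orderOf_eq_prime Z0_pow fun e => absurd (congrArg pr3 e) (by decide)
    rw [hcard]
    refine Nat.le_of_dvd Nat.card_pos (Nat.Coprime.mul_dvd_of_dvd_of_dvd hcop (Subgroup.card_dvd_of_le le_sup_left) ?_)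
    have h := Subgroup.card_dvd_of_le (le_sup_right : zpowers (d.φ Z0) ≤ K ⊔ zpowers (d.φ Z0))
    rwa [h3] at h
  rw [← hsup]
  exact sup_le hKK (zpowers_le.2 (c.hφ Z0))

/-- the normaliser of the four-group -/
theorem NV_K {g : G} (h0 : ∃ i, g * d.φ A0 * g⁻¹ = d.φ (AA i)) (h1 : ∃ i, g * d.φ A1 * g⁻¹ = d.φ (AA i)) :
    g ∈ c.K := by
  obtain ⟨i, hi⟩ := h0
  obtain ⟨j, hj⟩ := h1
  have hij : i ≠ j := by
    rintro rfl
    have h := d.inj (mul_left_cancel (mul_right_cancel (hi.trans hj.symm)))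
    exact absurd (congrArg pr5 h) (by decide +kernel)
  have perms : ∀ i j : Fin 3, i ≠ j → ∃ p : PP, p * A0 * p⁻¹ = AA i ∧ p * A1 * p⁻¹ = AA j := by
    intro i j hij
    fin_cases i <;> fin_cases j <;> first
      | exact absurd rfl hij
      | exact ⟨1, ext_PP (by decide +kernel) (by decide +kernel), ext_PP (by decide +kernel) (by decide +kernel)⟩
      | exact ⟨W0, ext_PP (by decide +kernel) (by decide +kernel), ext_PP (by decide +kernel) (by decide +kernel)⟩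
      | exact ⟨W0 * W0, ext_PP (by decide +kernel) (by decide +kernel), ext_PP (by decide +kernel) (by decide +kernel)⟩
      | exact ⟨J0, ext_PP (by decide +kernel) (by decide +kernel), ext_PP (by decide +kernel) (by decide +kernel)⟩
      | exact ⟨W0 * J0, ext_PP (by decide +kernel) (by decide +kernel), ext_PP (by decide +kernel) (by decide +kernel)⟩
      | exact ⟨W0 * W0 * J0, ext_PP (by decide +kernel) (by decide +kernel), ext_PP (by decide +kernel) (by decide +kernel)⟩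
  obtain ⟨p, hp0, hp1⟩ := perms i j hij
  have key : ∀ (q : PP) (k : Fin 3), p * q * p⁻¹ = AA k → g * d.φ q * g⁻¹ = d.φ (AA k) →
      Commute ((d.φ p)⁻¹ * g) (d.φ q) := fun q k e1 e2 => by
    show (d.φ p)⁻¹ * g * d.φ q = d.φ q * ((d.φ p)⁻¹ * g)
    rw [← e1, map_mul, map_mul, map_inv] at e2
    calc (d.φ p)⁻¹ * g * d.φ q = (d.φ p)⁻¹ * (g * d.φ q * g⁻¹) * g := by group
      _ = _ := by rw [e2]; group
  have := mul_mem (c.hφ p) (c.CV_K (d.mem_CV.2 ⟨key A0 i hp0 hi, key A1 j hp1 hj⟩))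
  rwa [← mul_assoc, mul_inv_cancel, one_mul] at this

theorem θa : ∀ x : alternatingGroup (Fin 8), (x : Perm (Fin 8)) = a8 → c.θ x = d.φ A0 :=
  fun x hx => c.φ_eq (hx.trans iota_A0.symm)

theorem θv : ∀ x : alternatingGroup (Fin 8), (x : Perm (Fin 8)) = v8 → c.θ x = d.φ A1 :=
  fun x hx => c.φ_eq (hx.trans iota_A1.symm)

/-- the two classes in coordinates -/
theorem isA_fix (x : alternatingGroup (Fin 8)) (h2 : x * x = 1) (h1 : x ≠ 1) :
    d.IsA (c.θ x) ↔ ∃ i, (x : Perm (Fin 8)) i = i := by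
  have hb8 : Perm.sign b8 = 1 := by decide +kernel
  have fwd : ∀ (x : alternatingGroup (Fin 8)), x * x = 1 → x ≠ 1 →
      ((∃ i, (x : Perm (Fin 8)) i = i) ∧ d.IsA (c.θ x)) ∨
      ((∀ i, (x : Perm (Fin 8)) i ≠ i) ∧ IsConj (c.θ ⟨b8, isA8.2 hb8⟩) (c.θ x)) := by
    intro x h2 h1
    obtain ⟨g, hg, h⟩ := invol_classes (x := (x : Perm (Fin 8))) (congrArg Subtype.val h2)
      (fun e => h1 (Subtype.ext e)) (isA8.1 x.2)
    rcases h with ⟨e, hf⟩ | ⟨e, hf⟩
    · refine Or.inl ⟨hf, ?_⟩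
      have := c.θa (⟨g, isA8.2 hg⟩ * x * (⟨g, isA8.2 hg⟩)⁻¹) e
      rw [map_mul, map_mul, map_inv] at this
      exact isConj_comm.1 (isConj_iff.2 ⟨_, this⟩)
    · refine Or.inr ⟨hf, ?_⟩
      have e' : ⟨g, isA8.2 hg⟩ * x * (⟨g, isA8.2 hg⟩)⁻¹ = (⟨b8, isA8.2 hb8⟩ : alternatingGroup (Fin 8)) :=
        Subtype.ext e
      refine isConj_comm.1 (isConj_iff.2 ⟨c.θ ⟨g, isA8.2 hg⟩, ?_⟩)
      rw [← map_inv, ← map_mul, ← map_mul, e']
  -- the class without fixed points is that of `d.b`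
  have hbA : ¬ d.IsA (c.θ ⟨b8, isA8.2 hb8⟩) := by
    obtain ⟨xb, hxb⟩ := c.hb
    rcases fwd xb (c.inj (by rw [map_mul, hxb, d.hb, map_one])) (fun e => d.b_ne_one (by rw [← hxb, e, map_one])) with
      ⟨-, h⟩ | ⟨-, h⟩
    · exact absurd (hxb ▸ h) d.not_isA_b
    · intro hA
      exact d.not_isA_b (hxb ▸ hA.trans h)
  rcases fwd x h2 h1 with ⟨hf, h⟩ | ⟨hf, h⟩
  · exact ⟨fun _ => hf, fun _ => h⟩
  · refine ⟨fun hA => absurd (hA.trans (isConj_comm.1 h)) hbA, fun ⟨i, hi⟩ => absurd hi (hf i)⟩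

theorem invol_b (x : alternatingGroup (Fin 8)) (h2 : x * x = 1) (hf : ∀ i, (x : Perm (Fin 8)) i ≠ i) :
    ∃ g : alternatingGroup (Fin 8), (g : Perm (Fin 8)) * x * (g : Perm (Fin 8))⁻¹ = b8 := by
  have h1 : (x : Perm (Fin 8)) ≠ 1 := fun e => hf 0 (by rw [e]; rfl)
  obtain ⟨g, hg, ⟨-, i, hi⟩ | ⟨e, -⟩⟩ := invol_classes (x := (x : Perm (Fin 8))) (congrArg Subtype.val h2) h1 (isA8.1 x.2)
  · exact absurd hi (hf i)
  · exact ⟨⟨g, isA8.2 hg⟩, e⟩

/-- the Sylow two-subgroup in coordinates -/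
def SS : Subgroup (alternatingGroup (Fin 8)) :=
  ((pairGroup.map JJ) ⊔ zpowers sw8).subgroupOf (alternatingGroup (Fin 8))

theorem SS_le : (pairGroup.map JJ) ⊔ zpowers sw8 ≤ alternatingGroup (Fin 8) := by
  refine sup_le ?_ (zpowers_le.2 (isA8.2 (by decide +kernel)))
  rintro _ ⟨⟨σ, τ⟩, ⟨-, -, h⟩, rfl⟩
  exact isA8.2 ((even_JJ σ τ).2 h)

theorem SS_isPGroup : IsPGroup 2 SS := by
  haveI : Fact (Nat.Prime 2) := ⟨Nat.prime_two⟩
  have hP : IsPGroup 2 (pairGroup.map JJ) := by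
    refine IsPGroup.map ?_ JJ
    rintro ⟨⟨σ, τ⟩, h1, h2, -⟩
    refine ⟨2, Subtype.ext ?_⟩
    show ((σ, τ) : P4 × P4) ^ (2 ^ 2) = 1
    rw [show (2 : ℕ) ^ 2 = 2 * 2 from rfl, pow_mul, pow_two, pow_two]
    exact Prod.ext (D8_pow4 σ h1) (D8_pow4 τ h2)
  have hS : IsPGroup 2 (zpowers sw8) := by
    refine IsPGroup.of_card (n := 1) ?_
    rw [Nat.card_zpowers, pow_one]
    exact orderOf_eq_prime (by decide +kernel) (by decide +kernel)
  have hn : zpowers sw8 ≤ normalizer ((pairGroup.map JJ : Subgroup (Perm (Fin 8))) : Set (Perm (Fin 8))) := by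
    rw [zpowers_le, Subgroup.mem_normalizer_iff]
    have hinv : sw8⁻¹ = sw8 := inv_eq_of_mul_eq_one_right (by decide +kernel)
    have key : ∀ u ∈ pairGroup.map JJ, sw8 * u * sw8 ∈ pairGroup.map JJ := by
      rintro _ ⟨⟨σ, τ⟩, ⟨h1, h2, h3⟩, rfl⟩
      obtain ⟨i, rfl⟩ := D8_spec σ h1
      obtain ⟨j, rfl⟩ := D8_spec τ h2
      exact ⟨(D8list j, D8list i), ⟨h2, h1, h3.symm⟩, (sw8_conj i j).symm⟩
    intro u
    rw [hinv]
    refine ⟨key u, fun h => ?_⟩
    have := key _ h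
    rwa [show sw8 * (sw8 * u * sw8) * sw8 = (sw8 * sw8) * u * (sw8 * sw8) by group,
      show sw8 * sw8 = 1 by decide +kernel, one_mul, mul_one] at this
  exact (IsPGroup.to_sup_of_normal_left' hP hS hn).of_equiv (Subgroup.subgroupOfEquivOfLe SS_le).symm

/-- index set of the Sylow subgroup -/
abbrev Idx := {e : Fin 8 × Fin 8 × Fin 2 // Perm.sign (D8list e.1) = Perm.sign (D8list e.2.1)}

def selem (e : Idx) : alternatingGroup (Fin 8) :=
  ⟨JJ (D8list e.1.1, D8list e.1.2.1) * sw8 ^ e.1.2.2.val,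
    mul_mem (isA8.2 ((even_JJ _ _).2 e.2)) (pow_mem (isA8.2 (by decide +kernel)) _)⟩

theorem selem_mem (e : Idx) : selem e ∈ SS := by
  show JJ (D8list e.1.1, D8list e.1.2.1) * sw8 ^ e.1.2.2.val ∈ (pairGroup.map JJ) ⊔ zpowers sw8
  refine mul_mem (mem_sup_left ⟨_, ⟨?_, ?_, e.2⟩, rfl⟩) (mem_sup_right (pow_mem (mem_zpowers _) _))
  · exact (by decide +kernel : ∀ i, D8list i * cc = cc * D8list i) _
  · exact (by decide +kernel : ∀ i, D8list i * cc = cc * D8list i) _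

theorem SS_card : Nat.card SS = 64 ∧ ∀ x ∈ SS, ∃ e, x = selem e := by
  haveI : Fact (Nat.Prime 2) := ⟨Nat.prime_two⟩
  let f : Idx → SS := fun e => ⟨selem e, selem_mem e⟩
  have hf : Function.Injective f := by
    rintro ⟨⟨i, j, k⟩, h⟩ ⟨⟨i', j', k'⟩, h'⟩ e
    obtain ⟨rfl, rfl, rfl⟩ := syl_inj i j i' j' k k' (congrArg (fun u : SS => ((u : alternatingGroup (Fin 8)) : Perm (Fin 8))) e)
    rfl
  have hI : Nat.card Idx = 64 := by rw [Nat.card_eq_fintype_card]; decide +kernel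
  have h1 := Nat.card_le_card_of_injective f hf
  obtain ⟨k, hk⟩ := IsPGroup.iff_card.1 SS_isPGroup
  have h2 : 2 ^ k ∣ 20160 := hk ▸ card_A8 ▸ card_subgroup_dvd_card SS
  have hk6 : k ≤ 6 := by
    by_contra h
    exact absurd ((Nat.pow_dvd_pow 2 (show 7 ≤ k by omega)).trans h2) (by norm_num)
  have hc : Nat.card SS = 64 := by
    have := Nat.pow_le_pow_right (show 1 ≤ 2 by norm_num) hk6
    omega
  refine ⟨hc, fun x hx => ?_⟩
  obtain ⟨e, he⟩ := (hf.bijective_of_nat_card_le (by rw [hc, hI])).2 ⟨x, hx⟩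
  exact ⟨e, (congrArg Subtype.val he).symm⟩

/-- the order of a Sylow two-subgroup -/
theorem sylow_two (c : Glue.Copy d) (S : Sylow 2 G) : Nat.card (S : Subgroup G) = 64 := by
  haveI : Fact (Nat.Prime 2) := ⟨Nat.prime_two⟩
  set T := SS.map c.θ with hT
  have hTc : Nat.card T = 64 := by rw [hT, card_map_of_injective c.inj, SS_card.1]
  have hsq : ∀ w ∈ T, d.IsA (w * w) → w * w = d.φ A0 ∨ w * w = c.θ ⟨a8', isA8.2 (by decide +kernel)⟩ := by
    rintro _ ⟨x, hx, rfl⟩ hA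
    obtain ⟨⟨⟨i, j, k⟩, hs⟩, rfl⟩ := SS_card.2 x hx
    rw [← map_mul] at hA ⊢
    have hne : selem ⟨⟨i, j, k⟩, hs⟩ * selem ⟨⟨i, j, k⟩, hs⟩ ≠ 1 := by
      intro e
      rw [e, map_one] at hA
      obtain ⟨g, hg⟩ := isConj_iff.1 (isConj_comm.1 (hA : IsConj (d.φ A0) 1))
      rw [mul_one, mul_inv_cancel] at hg
      exact absurd (congrArg pr5 (d.inj (hg.symm.trans (map_one d.φ).symm))) (by decide +kernel)
    have h4 : (selem ⟨⟨i, j, k⟩, hs⟩ * selem ⟨⟨i, j, k⟩, hs⟩) * (selem ⟨⟨i, j, k⟩, hs⟩ * selem ⟨⟨i, j, k⟩, hs⟩) = 1 := by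
      refine c.inj ?_
      obtain ⟨g, hg⟩ := isConj_iff.1 (hA : IsConj (d.φ A0) _)
      rw [map_mul, ← hg, map_one]
      have : d.φ A0 * d.φ A0 = 1 := by rw [← map_mul, show A0 * A0 = 1 from ext_PP (by decide) (by decide +kernel), map_one]
      calc g * d.φ A0 * g⁻¹ * (g * d.φ A0 * g⁻¹) = g * (d.φ A0 * d.φ A0) * g⁻¹ := by group
        _ = 1 := by rw [this, mul_one, mul_inv_cancel]
    rcases sq_atype i j hs k ((c.isA_fix _ h4 hne).1 hA) with e | e | e
    · exact absurd (Subtype.ext e) hne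
    · exact Or.inl (c.θa _ e)
    · exact Or.inr (congrArg c.θ (Subtype.ext e))
  -- the normaliser lies in the copy
  have hN : normalizer (T : Set G) ≤ c.K := by
    intro g hg
    have hcj : ∀ t ∈ T, g * t * g⁻¹ ∈ T := fun t ht => (Subgroup.mem_normalizer_iff.1 hg t).1 ht
    set sA : alternatingGroup (Fin 8) := ⟨a8, isA8.2 (by decide +kernel)⟩ with hsA
    set sA' : alternatingGroup (Fin 8) := ⟨a8', isA8.2 (by decide +kernel)⟩ with hsA'
    set sS : alternatingGroup (Fin 8) := ⟨sw8, isA8.2 (by decide +kernel)⟩ with hsS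
    have wit : ∀ p : P4 × P4, p ∈ pairGroup → ∀ y : alternatingGroup (Fin 8), (y : Perm (Fin 8)) = JJ p * JJ p →
        ∃ w ∈ T, w * w = c.θ y := by
      intro p hp y hy
      refine ⟨c.θ ⟨JJ p, SS_le (mem_sup_left ⟨p, hp, rfl⟩)⟩, ⟨_, mem_sup_left ⟨p, hp, rfl⟩, rfl⟩, ?_⟩
      rw [← map_mul]; exact congrArg c.θ (Subtype.ext hy.symm)
    have hA' : d.IsA (c.θ sA') := (c.isA_fix sA' (Subtype.ext (by decide +kernel))
      (fun e => absurd (congrArg Subtype.val e) (by show a8' ≠ 1; decide +kernel))).2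
      (show ∃ i, a8' i = i by decide +kernel)
    have image : ∀ w ∈ T, d.IsA (w * w) → g * (w * w) * g⁻¹ = d.φ A0 ∨ g * (w * w) * g⁻¹ = c.θ sA' := by
      intro w hw hA
      have := hsq _ (hcj w hw) (by
        rw [show g * w * g⁻¹ * (g * w * g⁻¹) = g * (w * w) * g⁻¹ by group]; exact d.isA_conj hA g)
      rwa [show g * w * g⁻¹ * (g * w * g⁻¹) = g * (w * w) * g⁻¹ by group] at this
    obtain ⟨w, hw, ew⟩ := wit (swap 0 1, q4) ⟨by decide +kernel, by decide +kernel, by decide +kernel⟩ sA (by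
      show a8 = _; decide +kernel)
    obtain ⟨w', hw', ew'⟩ := wit (q4, swap 0 1) ⟨by decide +kernel, by decide +kernel, by decide +kernel⟩ sA' (by
      show a8' = _; decide +kernel)
    have ea : c.θ sA = d.φ A0 := c.θa _ rfl
    rw [ea] at ew
    have i0 := image w hw (by rw [ew]; exact d.isA_A0)
    have i1 := image w' hw' (by rw [ew']; exact hA')
    rw [ew] at i0; rw [ew'] at i1
    -- adjust to fix the first involution
    have hne : d.φ A0 ≠ c.θ sA' := by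
      rw [← ea]
      exact fun h => absurd (c.eq_of_θ h) (by show a8 ≠ a8'; decide +kernel)
    have swc : c.θ sS * c.θ sA' * (c.θ sS)⁻¹ = d.φ A0 := by
      rw [← ea, ← map_inv, ← map_mul, ← map_mul]
      exact congrArg c.θ (Subtype.ext (by show sw8 * a8' * sw8⁻¹ = a8; decide +kernel))
    have swc' : c.θ sS * d.φ A0 * (c.θ sS)⁻¹ = c.θ sA' := by
      rw [← ea, ← map_inv, ← map_mul, ← map_mul]
      exact congrArg c.θ (Subtype.ext (by show sw8 * a8 * sw8⁻¹ = a8'; decide +kernel))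
    obtain ⟨k, hk, hkT, hk0, hk1⟩ : ∃ k ∈ c.K, (∀ t ∈ T, k * g * t * (k * g)⁻¹ ∈ T) ∧
        k * g * d.φ A0 * (k * g)⁻¹ = d.φ A0 ∧ k * g * c.θ sA' * (k * g)⁻¹ = c.θ sA' := by
      have hinj2 : g * d.φ A0 * g⁻¹ ≠ g * c.θ sA' * g⁻¹ := fun h => hne (mul_left_cancel (mul_right_cancel h))
      have hsT : c.θ sS ∈ T := ⟨sS, mem_sup_right (mem_zpowers _), rfl⟩
      rcases i0 with e0 | e0
      · refine ⟨1, one_mem _, fun t ht => by simpa using hcj t ht, by simpa using e0, ?_⟩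
        rcases i1 with e1 | e1
        · exact absurd (e0.trans e1.symm) hinj2
        · simpa using e1
      · refine ⟨c.θ sS, ⟨sS, rfl⟩, fun t ht => ?_, ?_, ?_⟩
        · rw [show c.θ sS * g * t * (c.θ sS * g)⁻¹ = c.θ sS * (g * t * g⁻¹) * (c.θ sS)⁻¹ by group]
          exact mul_mem (mul_mem hsT (hcj t ht)) (inv_mem hsT)
        · rw [show c.θ sS * g * d.φ A0 * (c.θ sS * g)⁻¹ = c.θ sS * (g * d.φ A0 * g⁻¹) * (c.θ sS)⁻¹ by group, e0, swc]
        · rw [show c.θ sS * g * c.θ sA' * (c.θ sS * g)⁻¹ = c.θ sS * (g * c.θ sA' * g⁻¹) * (c.θ sS)⁻¹ by group]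
          rcases i1 with e1 | e1
          · rw [e1, swc']
          · exact absurd (e0.trans e1.symm) hinj2
    suffices h : k * g ∈ c.K by
      have := mul_mem (inv_mem hk) h; rwa [inv_mul_cancel_left] at this
    refine c.NV_K ⟨0, hk0⟩ ?_
    -- the image of the second involution
    set u := k * g
    set sV : alternatingGroup (Fin 8) := ⟨v8, isA8.2 (by decide +kernel)⟩ with hsV
    have ev : c.θ sV = d.φ A1 := c.θv _ rfl
    have hvT : d.φ A1 ∈ T := by
      rw [← ev]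
      exact ⟨sV, mem_sup_left ⟨(1, vv), ⟨by decide +kernel, by decide +kernel, by decide +kernel⟩, rfl⟩, rfl⟩
    obtain ⟨x, hx, ex⟩ := hkT _ hvT
    obtain ⟨⟨⟨i, j, l⟩, hs⟩, rfl⟩ := SS_card.2 x hx
    have hx2 : selem ⟨⟨i, j, l⟩, hs⟩ * selem ⟨⟨i, j, l⟩, hs⟩ = 1 := c.inj (by
      rw [map_mul, ex, map_one]
      have : d.φ A1 * d.φ A1 = 1 := by rw [← map_mul, show A1 * A1 = 1 from ext_PP (by decide) (by decide +kernel), map_one]
      calc u * d.φ A1 * u⁻¹ * (u * d.φ A1 * u⁻¹) = u * (d.φ A1 * d.φ A1) * u⁻¹ := by group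
        _ = 1 := by rw [this, mul_one, mul_inv_cancel])
    have hx1 : selem ⟨⟨i, j, l⟩, hs⟩ ≠ 1 := fun e => by
      rw [e, map_one] at ex
      exact absurd (congrArg pr5 (d.inj ((conj_eq_one_iff.1 ex.symm).trans (map_one d.φ).symm))) (by decide +kernel)
    have hxa : Commute (c.θ (selem ⟨⟨i, j, l⟩, hs⟩)) (c.θ sA) := by
      rw [ex, ea]
      have h := ((show Commute A1 A0 from ext_PP (by decide) (by decide +kernel)).map d.φ).map (MulAut.conj u).toMonoidHom
      simp only [MulEquiv.coe_toMonoidHom, MulAut.conj_apply, hk0] at h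
      exact h
    have hxne : (selem ⟨⟨i, j, l⟩, hs⟩ : Perm (Fin 8)) ≠ a8 := fun e => by
      have := (c.θa _ e).symm.trans ex
      rw [← hk0] at this
      exact absurd (congrArg pr5 (d.inj (mul_left_cancel (mul_right_cancel this)))) (by decide +kernel)
    have hf0 := (c.isA_fix _ hx2 hx1).1 (by rw [ex]; exact d.isA_conj d.isA_A1 u)
    have hprod : ∀ s : alternatingGroup (Fin 8), u * c.θ s * u⁻¹ = c.θ s →
        c.θ (s * selem ⟨⟨i, j, l⟩, hs⟩) = u * c.θ (s * sV) * u⁻¹ := fun s e => by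
      rw [map_mul, map_mul, ex, ev]; conv_lhs => rw [← e]
      group
    have hsq2 : ∀ s : alternatingGroup (Fin 8), (s : Perm (Fin 8)) * v8 * ((s : Perm (Fin 8)) * v8) = 1 →
        (s * sV) * (s * sV) = 1 := fun s e => Subtype.ext e
    have sq' : ∀ s : alternatingGroup (Fin 8), u * c.θ s * u⁻¹ = c.θ s → (s : Perm (Fin 8)) * v8 * ((s : Perm (Fin 8)) * v8) = 1 →
        (s * selem ⟨⟨i, j, l⟩, hs⟩) * (s * selem ⟨⟨i, j, l⟩, hs⟩) = 1 := fun s e e' => c.inj (by
      rw [map_mul, hprod s e, map_one]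
      calc u * c.θ (s * sV) * u⁻¹ * (u * c.θ (s * sV) * u⁻¹) = u * (c.θ (s * sV) * c.θ (s * sV)) * u⁻¹ := by group
        _ = 1 := by rw [← map_mul, hsq2 s e', map_one, mul_one, mul_inv_cancel])
    have ne' : ∀ s : alternatingGroup (Fin 8), u * c.θ s * u⁻¹ = c.θ s → s * sV ≠ 1 → s * selem ⟨⟨i, j, l⟩, hs⟩ ≠ 1 := fun s e hne h => by
      have := hprod s e
      rw [h, map_one] at this
      exact hne (c.inj ((conj_eq_one_iff.1 this.symm).trans (map_one c.θ).symm))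
    have ha1 : sA * sV ≠ 1 := fun h => absurd (congrArg Subtype.val h) (by show a8 * v8 ≠ 1; decide +kernel)
    have ha1' : sA' * sV ≠ 1 := fun h => absurd (congrArg Subtype.val h) (by show a8' * v8 ≠ 1; decide +kernel)
    have hf1 : ∃ a, (a8 * (selem ⟨⟨i, j, l⟩, hs⟩ : Perm (Fin 8))) a = a := by
      refine (c.isA_fix _ (sq' sA (ea.symm ▸ hk0) (by decide +kernel)) (ne' sA (ea.symm ▸ hk0) ha1)).1 ?_
      rw [hprod sA (ea.symm ▸ hk0)]
      exact d.isA_conj ((c.isA_fix _ (hsq2 sA (by decide +kernel)) ha1).2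
        (show ∃ a, (a8 * v8) a = a by decide +kernel)) u
    have hf2 : ∀ a, (a8' * (selem ⟨⟨i, j, l⟩, hs⟩ : Perm (Fin 8))) a ≠ a := fun a h => by
      have hAA := (c.isA_fix _ (sq' sA' hk1 (by decide +kernel)) (ne' sA' hk1 ha1')).2 ⟨a, h⟩
      rw [hprod sA' hk1] at hAA
      have h' := d.isA_conj hAA u⁻¹
      rw [show u⁻¹ * (u * c.θ (sA' * sV) * u⁻¹) * u⁻¹⁻¹ = c.θ (sA' * sV) by group] at h'
      obtain ⟨b', hb'⟩ := (c.isA_fix _ (hsq2 sA' (by decide +kernel)) ha1').1 h'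
      exact (by decide +kernel : ∀ a, (a8' * v8) a ≠ a) b' hb'
    rcases v_char i j hs l (congrArg Subtype.val hx2) (c.commute_iff.1 hxa) (fun e => hx1 (Subtype.ext e)) hxne hf0 hf1 hf2 with e | e
    · exact ⟨1, by rw [← ex]; exact c.θv _ e⟩
    · refine ⟨2, ?_⟩
      rw [← ex, show selem ⟨⟨i, j, l⟩, hs⟩ = sA * sV from Subtype.ext e, map_mul, ea, ev, ← map_mul]
      exact congrArg d.φ (ext_PP (by decide) (by decide +kernel))
  -- so the model subgroup is a Sylow subgroup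
  have hp : IsPGroup 2 T := SS_isPGroup.map c.θ
  obtain ⟨S', hS'⟩ := hp.exists_le_sylow
  suffices h : T = (S' : Subgroup G) by rw [S.card_eq_multiplicity, ← S'.card_eq_multiplicity, ← h, hTc]
  by_contra hne
  haveI := S'.2.isNilpotent
  have hlt : T.subgroupOf (S' : Subgroup G) < ⊤ :=
    lt_top_iff_ne_top.2 fun h => hne (le_antisymm hS' (subgroupOf_eq_top.1 h))
  obtain ⟨g, hgN, hgT⟩ := SetLike.exists_of_lt (Group.normalizerCondition_of_isNilpotent _ hlt)
  have hgn : (g : G) ∈ normalizer (T : Set G) := by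
    rw [Subgroup.mem_normalizer_iff] at hgN ⊢
    intro t
    constructor
    · exact fun ht => (hgN ⟨t, hS' ht⟩).1 ht
    · intro ht
      have htS : t ∈ (S' : Subgroup G) := by
        have := mul_mem (mul_mem (inv_mem g.2) (hS' ht)) g.2
        rwa [show (g : G)⁻¹ * ((g : G) * t * (g : G)⁻¹) * g = t by group] at this
      exact (hgN ⟨t, htS⟩).2 ht
  have h1 : IsPGroup 2 ((S' : Subgroup G) ⊓ c.K : Subgroup G) := S'.2.to_le inf_le_left
  have h2 : T ≤ (S' : Subgroup G) ⊓ c.K := le_inf hS' (by rintro _ ⟨x, -, rfl⟩; exact ⟨x, rfl⟩)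
  have h3 : Nat.card ((S' : Subgroup G) ⊓ c.K : Subgroup G) ∣ 20160 := by
    have := Subgroup.card_dvd_of_le (inf_le_right : (S' : Subgroup G) ⊓ c.K ≤ c.K)
    rwa [← Nat.card_congr (MonoidHom.ofInjective c.inj).toEquiv, card_A8] at this
  obtain ⟨k, hk⟩ := IsPGroup.iff_card.1 h1
  rw [hk] at h3
  have hk6 : k ≤ 6 := by
    by_contra h
    exact absurd ((Nat.pow_dvd_pow 2 (show 7 ≤ k by omega)).trans h3) (by norm_num)
  have h4 : T = (S' : Subgroup G) ⊓ c.K := Subgroup.eq_of_le_of_card_ge h2 (by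
    rw [hk, hTc]; exact Nat.pow_le_pow_right (by norm_num) hk6)
  exact hgT (show (g : G) ∈ T from h4 ▸ ⟨g.2, hN hgn⟩)

end Glue.Copy

end Cfsg.Agent.Lead.AltEightLocal
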