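import Mathlib

/-!
The normaliser of a three-cycle in the alternating group of degree eight, and finite checks inside it.
-/

set_option autoImplicit false
set_option maxRecDepth 100000

namespace Cfsg.Agent.Lead.AltEightLocal

open Equiv

/-- the subgroup of index two of `Sym 3 × Sym 5` -/
abbrev parityHom : Perm (Fin 3) × Perm (Fin 5) →* ℤˣ :=
  ((Equiv.Perm.sign).comp (MonoidHom.fst (Perm (Fin 3)) (Perm (Fin 5)))) *
    ((Equiv.Perm.sign).comp (MonoidHom.snd (Perm (Fin 3)) (Perm (Fin 5))))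

abbrev PP : Subgroup (Perm (Fin 3) × Perm (Fin 5)) := parityHom.ker

theorem mem_PP {σ : Perm (Fin 3)} {π : Perm (Fin 5)} (h : Perm.sign σ = Perm.sign π) : (σ, π) ∈ PP := by
  rw [MonoidHom.mem_ker]
  show Perm.sign σ * Perm.sign π = 1
  rw [h, Int.units_mul_self]

theorem sign_eq (p : PP) : Perm.sign p.1.1 = Perm.sign p.1.2 := by
  have h : Perm.sign p.1.1 * Perm.sign p.1.2 = 1 := p.2
  calc Perm.sign p.1.1 = Perm.sign p.1.1 * (Perm.sign p.1.2 * Perm.sign p.1.2) := by rw [Int.units_mul_self, mul_one]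
    _ = Perm.sign p.1.2 := by rw [← mul_assoc, h, one_mul]

def el (σ : Perm (Fin 3)) (π : Perm (Fin 5)) (h : Perm.sign σ = Perm.sign π := by decide) : PP :=
  ⟨(σ, π), mem_PP h⟩

theorem ext_PP {p q : PP} (h1 : p.1.1 = q.1.1) (h2 : p.1.2 = q.1.2) : p = q := Subtype.ext (Prod.ext h1 h2)

def c012 {n : ℕ} [NeZero n] (a b c : Fin n) : Perm (Fin n) := swap a b * swap b c

def Z0 : PP := el (c012 0 1 2) 1
def W0 : PP := el 1 (c012 0 1 2)
def T0 : PP := el (swap 0 1) (swap 3 4)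
def T1 : PP := el 1 (swap 0 1 * swap 3 4)
def J0 : PP := el (swap 0 1) (swap 0 1)
def S2 : PP := el (swap 0 1) (swap 0 4)
def S4 : PP := el (swap 0 1) (swap 1 2)
def S0' : PP := el 1 (swap 0 1 * swap 2 4)
def A0 : PP := el 1 (swap 0 1 * swap 2 3)
def A1 : PP := el 1 (swap 0 2 * swap 1 3)
def A2 : PP := el 1 (swap 0 3 * swap 1 2)
def B0 : PP := el 1 (swap 0 1 * swap 2 4)
def B1 : PP := el 1 (swap 0 2 * swap 1 4)
def B2 : PP := el 1 (swap 0 4 * swap 1 2)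
def F5 : PP := el 1 (swap 0 1 * swap 1 2 * swap 2 3 * swap 3 4)

theorem Z0_pow : Z0 ^ 3 = 1 := ext_PP (by decide) (by decide)
theorem W0_pow : W0 ^ 3 = 1 := ext_PP (by decide) (by decide)
theorem ZW_comm : Z0 * W0 = W0 * Z0 := ext_PP (by decide) (by decide)

/-- the elements generating a normal subgroup of order three -/
theorem normal_three (p : PP) (h3 : p ^ 3 = 1) (h1 : p ≠ 1)
    (hw : W0 * p * W0⁻¹ = p ∨ W0 * p * W0⁻¹ = p⁻¹) (hf : F5 * p * F5⁻¹ = p ∨ F5 * p * F5⁻¹ = p⁻¹) :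
    p = Z0 ∨ p = Z0⁻¹ := by
  have key : ∀ π : Perm (Fin 5), π * π * π = 1 →
      (c012 0 1 2 * π = π * c012 0 1 2 ∨ c012 0 1 2 * π * π = c012 0 1 2 * 1 ∧ π = 1 ∨
        π * c012 0 1 2 * π = c012 0 1 2) →
      ((swap 0 1 * swap 1 2 * swap 2 3 * swap 3 4) * π = π * (swap 0 1 * swap 1 2 * swap 2 3 * swap 3 4) ∨
        π * (swap 0 1 * swap 1 2 * swap 2 3 * swap 3 4) * π = swap 0 1 * swap 1 2 * swap 2 3 * swap 3 4) →
      π = 1 := by decide +kernel
  have key3 : ∀ σ : Perm (Fin 3), σ * σ * σ = 1 → σ ≠ 1 → σ = c012 0 1 2 ∨ σ = (c012 0 1 2)⁻¹ := by decide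
  have conv : ∀ c π : Perm (Fin 5), (c * π * c⁻¹ = π ∨ c * π * c⁻¹ = π⁻¹) → c * π = π * c ∨ π * c * π = c := by
    rintro c π (h | h)
    · exact Or.inl (mul_inv_eq_iff_eq_mul.1 h)
    · refine Or.inr ?_
      have h' := mul_inv_eq_iff_eq_mul.1 h
      rw [mul_assoc, h', mul_inv_cancel_left]
  have h3' : p.1.1 * p.1.1 * p.1.1 = 1 ∧ p.1.2 * p.1.2 * p.1.2 = 1 := by
    rw [pow_three] at h3
    have := congrArg Subtype.val h3
    exact ⟨by simpa [mul_assoc] using congrArg Prod.fst this, by simpa [mul_assoc] using congrArg Prod.snd this⟩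
  have hπ : p.1.2 = 1 := by
    refine key _ h3'.2 ?_ (conv _ _ (hf.imp (fun e => congrArg (fun q : PP => q.1.2) e) fun e => congrArg (fun q : PP => q.1.2) e))
    rcases conv _ _ (hw.imp (fun e => congrArg (fun q : PP => q.1.2) e) fun e => congrArg (fun q : PP => q.1.2) e) with e | e
    · exact Or.inl e
    · exact Or.inr (Or.inr e)
  have hσ : p.1.1 ≠ 1 := fun e => h1 (ext_PP e hπ)
  rcases key3 _ h3'.1 hσ with e | e
  · exact Or.inl (ext_PP e (hπ.trans rfl))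
  · exact Or.inr (ext_PP e (hπ.trans (by decide)))

theorem val1 {p q : PP} (h : p = q) : p.1.1 = q.1.1 := congrArg (fun u : PP => u.1.1) h
theorem val2 {p q : PP} (h : p = q) : p.1.2 = q.1.2 := congrArg (fun u : PP => u.1.2) h

theorem cent_ZW (p : PP) (h1 : p * Z0 = Z0 * p) (h2 : p * W0 = W0 * p) :
    ∃ i j : Fin 3, p = Z0 ^ i.val * W0 ^ j.val := by
  have key3 : ∀ σ : Perm (Fin 3), σ * c012 0 1 2 = c012 0 1 2 * σ → Perm.sign σ = 1 ∧
      ∃ i : Fin 3, σ = c012 0 1 2 ^ i.val := by decide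
  have key5 : ∀ π : Perm (Fin 5), π * c012 0 1 2 = c012 0 1 2 * π → Perm.sign π = 1 →
      ∃ j : Fin 3, π = c012 0 1 2 ^ j.val := by decide +kernel
  obtain ⟨hs, i, hi⟩ := key3 _ (val1 h1)
  obtain ⟨j, hj⟩ := key5 _ (val2 h2) ((sign_eq p).symm.trans hs)
  refine ⟨i, j, ext_PP ?_ ?_⟩
  · simpa [Z0, W0, el] using hi
  · simpa [Z0, W0, el] using hj

/-- involutions centralising `z` and inverting `w` -/
theorem invol_cz (x : PP) (h0 : x * x = 1) (h1 : x * Z0 = Z0 * x) (h2 : x * W0 * x = W0⁻¹) :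
    x * T0 = T0 * x ∧ ∃ m : Fin 3, x = W0 ^ m.val * T1 * (W0 ^ m.val)⁻¹ := by
  have key3 : ∀ σ : Perm (Fin 3), σ * σ = 1 → σ * c012 0 1 2 = c012 0 1 2 * σ → σ = 1 := by decide
  have key5 : ∀ π : Perm (Fin 5), π * π = 1 → π * c012 0 1 2 * π = (c012 0 1 2)⁻¹ → Perm.sign π = 1 →
      π * swap 3 4 = swap 3 4 * π ∧
        ∃ m : Fin 3, π = c012 0 1 2 ^ m.val * (swap 0 1 * swap 3 4) * (c012 0 1 2 ^ m.val)⁻¹ := by decide +kernel
  have hσ := key3 _ (val1 h0) (val1 h1)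
  obtain ⟨e, m, hm⟩ := key5 _ (val2 h0) (val2 h2) ((sign_eq x).symm.trans (by rw [hσ, map_one]))
  refine ⟨ext_PP ?_ e, m, ext_PP ?_ hm⟩
  · show x.1.1 * _ = _ * x.1.1
    rw [hσ, one_mul, mul_one]
  · rw [hσ]; simp [W0, T1, el]

theorem invol_iz (x : PP) (h0 : x * x = 1) (h1 : x * Z0 * x = Z0⁻¹) (h2 : x * W0 = W0 * x) :
    ∃ n : Fin 3, x = Z0 ^ n.val * T0 * (Z0 ^ n.val)⁻¹ := by
  have key3 : ∀ σ : Perm (Fin 3), σ * σ = 1 → σ * c012 0 1 2 * σ = (c012 0 1 2)⁻¹ → Perm.sign σ = -1 ∧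
      ∃ n : Fin 3, σ = c012 0 1 2 ^ n.val * swap 0 1 * (c012 0 1 2 ^ n.val)⁻¹ := by decide
  have key5 : ∀ π : Perm (Fin 5), π * π = 1 → π * c012 0 1 2 = c012 0 1 2 * π → Perm.sign π = -1 →
      π = swap 3 4 := by decide +kernel
  obtain ⟨hs, n, hn⟩ := key3 _ (val1 h0) (val1 h1)
  have hπ := key5 _ (val2 h0) (val2 h2) ((sign_eq x).symm.trans hs)
  refine ⟨n, ext_PP hn ?_⟩
  rw [hπ]; simp [Z0, T0, el]

theorem invol_izw (x : PP) (h0 : x * x = 1) (h1 : x * Z0 * x = Z0⁻¹) (h2 : x * W0 * x = W0⁻¹)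
    (h3 : x * T0 = T0 * x) : ∃ m : Fin 3, x = W0 ^ m.val * J0 * (W0 ^ m.val)⁻¹ := by
  have key3 : ∀ σ : Perm (Fin 3), σ * σ = 1 → σ * c012 0 1 2 * σ = (c012 0 1 2)⁻¹ → σ * swap 0 1 = swap 0 1 * σ →
      σ = swap 0 1 := by decide
  have key5 : ∀ π : Perm (Fin 5), π * π = 1 → π * c012 0 1 2 * π = (c012 0 1 2)⁻¹ → Perm.sign π = -1 →
      ∃ m : Fin 3, π = c012 0 1 2 ^ m.val * swap 0 1 * (c012 0 1 2 ^ m.val)⁻¹ := by decide +kernel
  have hσ := key3 _ (val1 h0) (val1 h1) (val1 h3)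
  obtain ⟨m, hm⟩ := key5 _ (val2 h0) (val2 h2) ((sign_eq x).symm.trans (by rw [hσ]; decide))
  refine ⟨m, ext_PP ?_ hm⟩
  rw [hσ]; simp [W0, J0, el]

/-- the projection to the five letters -/
def pr5 : PP →* Perm (Fin 5) := (MonoidHom.snd _ _).comp (Subgroup.subtype PP)

/-- the projection to the three letters -/
def pr3 : PP →* Perm (Fin 3) := (MonoidHom.fst _ _).comp (Subgroup.subtype PP)

theorem pr5_apply (p : PP) : pr5 p = p.1.2 := rfl
theorem pr3_apply (p : PP) : pr3 p = p.1.1 := rfl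

/-- tenth power -/
def p10 {α : Type*} [Monoid α] (a : α) : α := (a * a * (a * a) * a) * (a * a * (a * a) * a)

theorem p10_eq {α : Type*} [Monoid α] (a : α) : p10 a = a ^ 10 := by
  simp only [p10, ← pow_two, ← pow_mul, ← pow_succ]; norm_num

/-- the test on the five letters -/
def fiveTest (π : Perm (Fin 5)) : Bool :=
  let c : Perm (Fin 5) := c012 0 1 2
  let q := c * π * c⁻¹
  decide (Perm.sign π = 1) && decide (p10 π = 1) && decide (p10 (π * q) = 1) &&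
    decide (p10 (π * π * q) = 1) && decide (p10 (π * q * π * (c * q * c⁻¹)) = 1)

theorem five_key : ∀ π : Perm (Fin 5), fiveTest π = true →
    π ∈ ([1, swap 0 1 * swap 2 3, swap 0 2 * swap 1 3, swap 0 3 * swap 1 2,
      swap 0 1 * swap 2 4, swap 0 2 * swap 1 4, swap 0 4 * swap 1 2] : List (Perm (Fin 5))) := by
  decide +kernel

/-- a subgroup of order prime to three, normalised by the three-cycle, of the centraliser -/
theorem four_options (p : PP) (h1 : p * Z0 = Z0 * p)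
    (hp : p ^ 10 = 1) (hq : (p * (W0 * p * W0⁻¹)) ^ 10 = 1) (hr : (p * p * (W0 * p * W0⁻¹)) ^ 10 = 1)
    (hs : (p * (W0 * p * W0⁻¹) * p * (W0 * (W0 * p * W0⁻¹) * W0⁻¹)) ^ 10 = 1) :
    p = 1 ∨ (p = A0 ∨ p = A1 ∨ p = A2) ∨ (p = B0 ∨ p = B1 ∨ p = B2) := by
  have key3 : ∀ σ : Perm (Fin 3), σ * c012 0 1 2 = c012 0 1 2 * σ → p10 σ = 1 → σ = 1 := by decide
  have hσ : pr3 p = 1 := key3 _ (val1 h1) (by rw [p10_eq, ← map_pow, hp, map_one])
  have lift : ∀ q : PP, pr3 q = 1 → pr5 p = pr5 q → p = q := fun q e1 e2 => ext_PP (hσ.trans e1.symm) e2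
  have hc : pr5 W0 = c012 0 1 2 := rfl
  have ht : fiveTest (pr5 p) = true := by
    have a1 := congrArg pr5 hp
    have a2 := congrArg pr5 hq
    have a3 := congrArg pr5 hr
    have a4 := congrArg pr5 hs
    simp only [map_pow, map_mul, map_inv, map_one, hc] at a1 a2 a3 a4
    simp only [fiveTest, Bool.and_eq_true, decide_eq_true_eq, p10_eq]
    exact ⟨⟨⟨⟨(sign_eq p).symm.trans (by rw [← pr3_apply, hσ, map_one]), a1⟩, a2⟩, a3⟩, a4⟩
  have hk := five_key _ ht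
  simp only [List.mem_cons, List.not_mem_nil, or_false] at hk
  rcases hk with e | e | e | e | e | e | e
  · exact Or.inl (lift 1 (map_one _) (by rw [e, map_one]))
  · exact Or.inr (Or.inl (Or.inl (lift A0 rfl e)))
  · exact Or.inr (Or.inl (Or.inr (Or.inl (lift A1 rfl e))))
  · exact Or.inr (Or.inl (Or.inr (Or.inr (lift A2 rfl e))))
  · exact Or.inr (Or.inr (Or.inl (lift B0 rfl e)))
  · exact Or.inr (Or.inr (Or.inr (Or.inl (lift B1 rfl e))))
  · exact Or.inr (Or.inr (Or.inr (Or.inr (lift B2 rfl e))))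

theorem four_sep : (A0 * B0) ^ 10 ≠ 1 := by
  intro e
  have e' := congrArg pr5 e
  rw [map_pow, map_mul, map_one, ← p10_eq] at e'
  exact absurd e' (by decide +kernel)

end Cfsg.Agent.Lead.AltEightLocal
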