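import Cfsg.Agent.Lib.Lead.AltEightLocal.Model

/-!
The configuration extracted from the three-local data.
-/

set_option autoImplicit false

namespace Cfsg.Agent.Lead.AltEightLocal

open Subgroup

/-- the data used for the identification -/
structure Data (G : Type*) [Group G] where
  φ : PP →* G
  inj : Function.Injective φ
  hN : ∀ g : G, (g * φ Z0 * g⁻¹ = φ Z0 ∨ g * φ Z0 * g⁻¹ = (φ Z0)⁻¹) → g ∈ φ.range
  b : G
  hb : b * b = 1
  hbz : b * φ Z0 * b = φ W0
  h18 : Nat.card (centralizer ({φ Z0 * φ W0} : Set G)) = 18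
  hnd : ∀ g ∈ centralizer ({φ Z0 * φ W0} : Set G), ∀ p ∈ centralizer ({Z0, W0} : Set PP),
    ∃ p' ∈ centralizer ({Z0, W0} : Set PP), g * φ p * g⁻¹ = φ p'
  h27 : ¬ 27 ∣ Nat.card G

theorem mem_centZW {p : PP} : p ∈ centralizer ({Z0, W0} : Set PP) ↔ ∃ i j : Fin 3, p = Z0 ^ i.val * W0 ^ j.val := by
  constructor
  · intro h
    rw [mem_centralizer_iff] at h
    exact cent_ZW p (h Z0 (Set.mem_insert _ _)).symm (h W0 (Set.mem_insert_of_mem _ rfl)).symm
  · rintro ⟨i, j, rfl⟩
    rw [mem_centralizer_iff]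
    have hc : Commute Z0 W0 := ZW_comm
    rintro q (rfl | rfl)
    · exact ((Commute.refl Z0).pow_right _).mul_right (hc.pow_right _)
    · exact (hc.symm.pow_right _).mul_right ((Commute.refl W0).pow_right _)

theorem card_centZW : Nat.card (centralizer ({Z0, W0} : Set PP)) = 9 := by
  have k3 : ∀ i i' : Fin 3, (c012 0 1 2 : Equiv.Perm (Fin 3)) ^ i.val = c012 0 1 2 ^ i'.val → i = i' := by decide
  have k5 : ∀ i i' : Fin 3, (c012 0 1 2 : Equiv.Perm (Fin 5)) ^ i.val = c012 0 1 2 ^ i'.val → i = i' := by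
    decide +kernel
  rw [← Nat.card_congr (Equiv.ofBijective
    (fun v : Fin 3 × Fin 3 => (⟨Z0 ^ v.1.val * W0 ^ v.2.val, mem_centZW.2 ⟨v.1, v.2, rfl⟩⟩ :
      centralizer ({Z0, W0} : Set PP))) ⟨?_, ?_⟩)]
  · simp
  · intro v v' h
    have h' := congrArg (fun x : centralizer ({Z0, W0} : Set PP) => (x : PP)) h
    have e1 := k3 v.1 v'.1 (by simpa [Z0, W0, el] using val1 h')
    have e2 := k5 v.2 v'.2 (by simpa [Z0, W0, el] using val2 h')
    exact Prod.ext e1 e2
  · rintro ⟨p, hp⟩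
    obtain ⟨i, j, rfl⟩ := mem_centZW.1 hp
    exact ⟨(i, j), rfl⟩

theorem pow6_fix {G : Type*} [Group G] (c : MulAut G) {z w : G} (hzw : Commute z w) (hz : z ^ 3 = 1)
    (hw : w ^ 3 = 1) {a k e : ℕ} (ha : a = 1 ∨ a = 2) (he : e = 1 ∨ e = 2)
    (hcw : c w = w ^ e) (hcz : c z = z ^ a * w ^ k) : (c ^ 6) z = z ∧ (c ^ 6) w = w := by
  have h2w : c (c w) = w := by
    rw [hcw, map_pow, hcw, ← pow_mul]
    rcases he with rfl | rfl
    · exact pow_one w
    · rw [pow_succ, hw, one_mul]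
  obtain ⟨m, hm⟩ : ∃ m : ℕ, c (c z) = z * w ^ m := by
    refine ⟨k * a + e * k, ?_⟩
    rw [hcz, map_mul, map_pow, map_pow, hcz, hcw, (hzw.pow_pow a k).mul_pow, ← pow_mul, ← pow_mul, ← pow_mul,
      mul_assoc, ← pow_add]
    rcases ha with rfl | rfl
    · rw [one_mul, pow_one]
    · rw [show 2 * 2 = 3 + 1 from rfl, pow_succ, hz, one_mul]
  have e6 : ∀ x : G, (c ^ 6) x = c (c (c (c (c (c x))))) := fun _ => rfl
  refine ⟨?_, by rw [e6, h2w, h2w, h2w]⟩
  have hs : ∀ n : ℕ, c (c (z * w ^ n)) = z * w ^ (m + n) := fun n => by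
    rw [map_mul, map_mul, map_pow, map_pow, h2w, hm, mul_assoc, ← pow_add]
  rw [e6, hm, hs, hs, show m + (m + m) = 3 * m by ring, pow_mul, hw, one_pow, mul_one]

def HasFive {G : Type*} [Group G] (g : G) : Prop := ∃ f : G, orderOf f = 5 ∧ Commute f g

theorem HasFive.inv {G : Type*} [Group G] {g : G} (h : HasFive g) : HasFive g⁻¹ :=
  let ⟨f, h1, h2⟩ := h; ⟨f, h1, h2.inv_right⟩

theorem HasFive.conj {G : Type*} [Group G] {g : G} (h : HasFive g) (x : G) : HasFive (x * g * x⁻¹) :=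
  let ⟨f, h1, h2⟩ := h
  ⟨MulAut.conj x f, by rw [MulEquiv.orderOf_eq, h1], h2.map (MulAut.conj x).toMonoidHom⟩

theorem not_five {G : Type*} [Group G] [Finite G] {g : G}
    (h : Nat.card (centralizer ({g} : Set G)) = 18) : ¬ HasFive g := by
  rintro ⟨f, h1, h2⟩
  have := orderOf_dvd_natCard (⟨f, mem_centralizer_singleton_iff.2 h2⟩ : centralizer ({g} : Set G))
  rw [Subgroup.orderOf_mk, h1, h] at this
  norm_num at this

theorem T0_conj (i j : Fin 3) : T0 * (Z0 ^ i.val * W0 ^ j.val) * T0⁻¹ = Z0 ^ (2 * i.val) * W0 ^ j.val := by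
  refine ext_PP ?_ ?_ <;> fin_cases i <;> fin_cases j <;> decide +kernel

theorem F5_facts : orderOf F5 = 5 ∧ Commute F5 Z0 := by
  haveI : Fact (Nat.Prime 5) := ⟨by norm_num⟩
  refine ⟨orderOf_eq_prime (ext_PP (by decide) (by decide +kernel)) fun h => ?_, ext_PP (by decide) (by decide)⟩
  exact absurd (congrArg (fun p : PP => p.1.2 0) h) (by decide)

theorem exists_data {G : Type*} [Group G] [Finite G]
    (P : Sylow 3 G) (D : Subgroup G) (hDP : D = P) (y z : G) (hgen : closure {y, z} = D)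
    (hcard : Nat.card D = 9) (hexp : ∀ a ∈ D, a ^ 3 = 1)
    (eN : normalizer (D : Set G) ⧸ D.subgroupOf (normalizer (D : Set G)) ≃* DihedralGroup 4)
    (hyn : (D.subgroupOf (centralizer ({y} : Set G))).Normal)
    (hycard : Nat.card (centralizer ({y} : Set G)) = 18)
    (eL : normalizer (zpowers z : Set G) ≃* PP) : Nonempty (Data G) := by
  haveI : Fact (Nat.Prime 3) := ⟨Nat.prime_three⟩
  have hyD : y ∈ D := hgen ▸ subset_closure (Set.mem_insert _ _)
  have hzD : z ∈ D := hgen ▸ subset_closure (Set.mem_insert_of_mem _ rfl)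
  have hz1 : z ≠ 1 := fun e => by
    have hle : D ≤ zpowers y := by
      rw [← hgen, closure_le]
      rintro x (rfl | rfl)
      · exact mem_zpowers _
      · rw [e]; exact one_mem _
    have h3 : Nat.card (zpowers y) ≤ 3 := by
      rw [Nat.card_zpowers]; exact orderOf_le_of_pow_eq_one (by norm_num) (hexp y hyD)
    have := Subgroup.card_le_of_le hle
    omega
  set N := normalizer (zpowers z : Set G) with hNdef
  let φ : PP →* G := N.subtype.comp eL.symm.toMonoidHom
  have inj : Function.Injective φ := Subtype.val_injective.comp eL.symm.injective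
  have hzN : z ∈ N := le_normalizer (mem_zpowers z)
  set p := eL ⟨z, hzN⟩ with hpdef
  have hφp : φ p = z := by simp [φ, p]
  have hcp : ∀ u : PP, u * p * u⁻¹ = p ∨ u * p * u⁻¹ = p⁻¹ := by
    intro u
    have hu : φ u ∈ N := (eL.symm u).2
    have hm := (Subgroup.mem_normalizer_iff.1 hu z).1 (mem_zpowers z)
    obtain ⟨k, hk⟩ := Subgroup.mem_zpowers_iff.1 hm
    have hz3 : z ^ (3 : ℤ) = 1 := by exact_mod_cast hexp z hzD
    have hne : φ u * z * (φ u)⁻¹ ≠ 1 := fun e => hz1 (conj_eq_one_iff.1 e)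
    rw [← hk] at hne
    have hkm : z ^ k = z ^ (k % 3) := by
      conv_lhs => rw [← Int.emod_add_mul_ediv k 3, zpow_add, zpow_mul, hz3, one_zpow, mul_one]
    rcases (show k % 3 = 0 ∨ k % 3 = 1 ∨ k % 3 = 2 by omega) with e | e | e
    · exact absurd (by rw [hkm, e, zpow_zero]) hne
    · refine Or.inl (inj ?_)
      rw [map_mul, map_mul, map_inv, hφp, ← hk, hkm, e, zpow_one]
    · refine Or.inr (inj ?_)
      rw [map_mul, map_mul, map_inv, hφp, ← hk, hkm, e, map_inv, hφp]
      refine eq_inv_of_mul_eq_one_left ?_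
      rw [← zpow_add_one]; exact hz3
  have hZ : zpowers (φ Z0) = zpowers z := by
    rcases normal_three p (inj (by rw [map_pow, hφp, hexp z hzD, map_one]))
      (fun e => hz1 (by rw [← hφp, e, map_one])) (hcp W0) (hcp F5) with e | e
    · rw [← e, hφp]
    · rw [← hφp, e, map_inv, zpowers_inv]
  have hN : ∀ g : G, (g * φ Z0 * g⁻¹ = φ Z0 ∨ g * φ Z0 * g⁻¹ = (φ Z0)⁻¹) → g ∈ φ.range := by
    intro g hg
    have hgN : g ∈ N := by
      have e : zpowers (g * φ Z0 * g⁻¹) = zpowers (φ Z0) := by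
        rcases hg with e | e <;> rw [e]
        exact zpowers_inv
      rw [hNdef, ← hZ, mem_normalizer_iff_map_conj_eq, MonoidHom.map_zpowers]
      exact e
    exact ⟨eL ⟨g, hgN⟩, by simp [φ]⟩
  set C0 := centralizer ({Z0, W0} : Set PP) with hC0
  set D0 := C0.map φ with hD0
  have hcard0 : Nat.card D0 = 9 := by
    rw [hD0, ← Nat.card_congr (C0.equivMapOfInjective φ inj).toEquiv, card_centZW]
  obtain ⟨Q, hQ⟩ := IsPGroup.exists_le_sylow (P := D0) (p := 3) (IsPGroup.of_card (n := 2) (by rw [hcard0]; rfl))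
  obtain ⟨g, hg⟩ := MulAction.exists_smul_eq G P Q
  have hmap : D.map (MulAut.conj g).toMonoidHom = D0 := by
    have e : (Q : Subgroup G) = D.map (MulAut.conj g).toMonoidHom := by rw [← hg, hDP]; rfl
    refine (Subgroup.eq_of_le_of_card_ge (e ▸ hQ) ?_).symm
    rw [card_map_of_injective (MulAut.conj g).injective, hcard, hcard0]
  have hmemD : ∀ x, x ∈ D → g * x * g⁻¹ ∈ D0 := fun x hx => hmap ▸ ⟨x, hx, rfl⟩
  have hmemD' : ∀ x, x ∈ D0 → g⁻¹ * x * g ∈ D := fun x hx => by
    obtain ⟨u, hu, rfl⟩ := hmap ▸ hx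
    show g⁻¹ * (g * u * g⁻¹) * g ∈ D
    rwa [show g⁻¹ * (g * u * g⁻¹) * g = u by group]
  have h27 : ¬ 27 ∣ Nat.card G := by
    intro h
    obtain ⟨H, hH⟩ := Sylow.exists_subgroup_card_pow_prime (G := G) 3 (n := 3) (by norm_num [h])
    obtain ⟨R, hR⟩ := IsPGroup.exists_le_sylow (P := H) (p := 3) (IsPGroup.of_card hH)
    have h1 := Subgroup.card_le_of_le hR
    rw [hH, Sylow.card_eq_multiplicity R, ← Sylow.card_eq_multiplicity P, ← hDP, hcard] at h1
    norm_num at h1
  -- elements of `D0`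
  set n : ℕ → ℕ → G := fun i j => φ Z0 ^ i * φ W0 ^ j with hn
  have hnD : ∀ x ∈ D0, ∃ i j : Fin 3, x = n i.val j.val := by
    rintro _ ⟨u, hu, rfl⟩
    obtain ⟨i, j, rfl⟩ := mem_centZW.1 hu
    exact ⟨i, j, by simp [n]⟩
  have hZD : φ Z0 ∈ D0 := ⟨Z0, mem_centZW.2 ⟨1, 0, by simp⟩, rfl⟩
  have hWD : φ W0 ∈ D0 := ⟨W0, mem_centZW.2 ⟨0, 1, by simp⟩, rfl⟩
  have hcomm : Commute (φ Z0) (φ W0) := (show Commute Z0 W0 from ZW_comm).map φ
  have hz3 : φ Z0 ^ 3 = 1 := by rw [← map_pow, Z0_pow, map_one]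
  have hw3 : φ W0 ^ 3 = 1 := by rw [← map_pow, W0_pow, map_one]
  -- the element of order four on `D0`
  obtain ⟨r, hr⟩ := QuotientGroup.mk_surjective (eN.symm (DihedralGroup.r 1))
  set q := g * (r : G) * g⁻¹ with hq
  have hqD : ∀ x ∈ D0, q * x * q⁻¹ ∈ D0 := by
    intro x hx
    have h1 := hmemD _ ((Subgroup.mem_normalizer_iff.1 r.2 _).1 (hmemD' x hx))
    rwa [show q * x * q⁻¹ = g * ((r : G) * (g⁻¹ * x * g) * (r : G)⁻¹) * g⁻¹ by rw [hq]; group]
  have hq6 : q ^ 6 ∉ D0 := by
    intro h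
    have h1 : (r : G) ^ 6 ∈ D := by
      have := hmemD' _ h
      rwa [show g⁻¹ * q ^ 6 * g = (r : G) ^ 6 by rw [hq, conj_pow]; group] at this
    have h2 : (QuotientGroup.mk r : normalizer (D : Set G) ⧸ D.subgroupOf (normalizer (D : Set G))) ^ 6 = 1 := by
      rw [← QuotientGroup.mk_pow, QuotientGroup.eq_one_iff, Subgroup.mem_subgroupOf]
      exact h1
    rw [hr, ← map_pow] at h2
    exact absurd (eN.symm.injective (h2.trans (map_one _).symm)) (by decide)
  have hfix : q ^ 6 * φ Z0 * (q ^ 6)⁻¹ = φ Z0 → q ^ 6 * φ W0 * (q ^ 6)⁻¹ = φ W0 → False := by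
    intro h1 h2
    obtain ⟨u, hu⟩ := hN _ (Or.inl h1)
    refine hq6 ⟨u, ?_, hu⟩
    show u ∈ C0
    rw [hC0, mem_centralizer_iff]
    rintro x (rfl | rfl)
    · exact inj (by rw [map_mul, map_mul, hu]; exact (mul_inv_eq_iff_eq_mul.1 h1).symm)
    · exact inj (by rw [map_mul, map_mul, hu]; exact (mul_inv_eq_iff_eq_mul.1 h2).symm)
  have hcj : ∀ x : G, ((MulAut.conj q) ^ 6) x = q ^ 6 * x * (q ^ 6)⁻¹ := fun x => by
    rw [← map_pow]; rfl
  -- `q` fixes neither line
  have hnotW : ∀ e : ℕ, (e = 1 ∨ e = 2) → q * φ W0 * q⁻¹ ≠ φ W0 ^ e := by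
    intro e he h
    obtain ⟨i, j, hij⟩ := hnD _ (hqD _ hZD)
    have hi : i.val ≠ 0 := by
      intro hi
      rw [hn] at hij
      simp only [hi, pow_zero, one_mul] at hij
      have h' : q * (φ W0 ^ (e * j.val)) * q⁻¹ = q * φ Z0 * q⁻¹ := by
        rw [← conj_pow, h, hij, ← pow_mul]
        rcases he with rfl | rfl
        · rw [one_mul, one_mul]
        · rw [← mul_assoc 2 2, show (2 : ℕ) * 2 * j.val = 3 * j.val + j.val by ring, pow_add, pow_mul, hw3,
            one_pow, one_mul]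
      rw [mul_left_inj, mul_right_inj, ← map_pow] at h'
      have h'' := congrArg (fun u : PP => u.1.1) (inj h')
      simp [W0, el, Z0] at h''
      exact absurd h'' (by decide)
    obtain ⟨h1, h2⟩ := pow6_fix (MulAut.conj q) hcomm hz3 hw3 (a := i.val) (k := j.val) (e := e) (by omega) he
      (by rw [MulAut.conj_apply]; exact h) (by rw [MulAut.conj_apply]; exact hij)
    exact hfix (by rw [← hcj]; exact h1) (by rw [← hcj]; exact h2)
  have hnotZ : ∀ e : ℕ, (e = 1 ∨ e = 2) → q * φ Z0 * q⁻¹ ≠ φ Z0 ^ e := by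
    intro e he h
    obtain ⟨i, j, hij⟩ := hnD _ (hqD _ hWD)
    have hi : j.val ≠ 0 := by
      intro hi
      rw [hn] at hij
      simp only [hi, pow_zero, mul_one] at hij
      have h' : q * (φ Z0 ^ (e * i.val)) * q⁻¹ = q * φ W0 * q⁻¹ := by
        rw [← conj_pow, h, hij, ← pow_mul]
        rcases he with rfl | rfl
        · rw [one_mul, one_mul]
        · rw [← mul_assoc 2 2, show (2 : ℕ) * 2 * i.val = 3 * i.val + i.val by ring, pow_add, pow_mul, hz3,
            one_pow, one_mul]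
      rw [mul_left_inj, mul_right_inj, ← map_pow] at h'
      have h'' := congrArg (fun u : PP => u.1.2) (inj h')
      simp [W0, el, Z0] at h''
      exact absurd h'' (by decide)
    obtain ⟨h1, h2⟩ := pow6_fix (MulAut.conj q) hcomm.symm hw3 hz3 (a := j.val) (k := i.val) (e := e) (by omega) he
      (by rw [MulAut.conj_apply]; exact h)
      (by rw [MulAut.conj_apply, hij]; exact hcomm.pow_pow _ _)
    exact hfix (by rw [← hcj]; exact h2) (by rw [← hcj]; exact h1)
  -- centraliser types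
  have hfive : HasFive (φ Z0) :=
    ⟨φ F5, by rw [orderOf_injective φ inj, F5_facts.1], F5_facts.2.map φ⟩
  set y1 := g * y * g⁻¹ with hy1
  have hy18 : Nat.card (centralizer ({y1} : Set G)) = 18 := by
    rw [← hycard, ← card_map_of_injective (K := centralizer ({y} : Set G)) (f := (MulAut.conj g).toMonoidHom)
      (MulAut.conj g).injective]
    congr 2
    ext x
    constructor
    · intro hx
      refine ⟨g⁻¹ * x * g, mem_centralizer_singleton_iff.2 ?_, by simp [mul_assoc]⟩
      have hx' := mem_centralizer_singleton_iff.1 hx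
      calc g⁻¹ * x * g * y = g⁻¹ * (x * y1) * g := by rw [hy1]; group
        _ = g⁻¹ * (y1 * x) * g := by rw [hx']
        _ = y * (g⁻¹ * x * g) := by rw [hy1]; group
    · rintro ⟨u, hu, rfl⟩
      have hu' := mem_centralizer_singleton_iff.1 hu
      refine mem_centralizer_singleton_iff.2 ?_
      show g * u * g⁻¹ * y1 = y1 * (g * u * g⁻¹)
      calc g * u * g⁻¹ * y1 = g * (u * y) * g⁻¹ := by rw [hy1]; group
        _ = g * (y * u) * g⁻¹ := by rw [hu']
        _ = _ := by rw [hy1]; group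
  have hy1n : ∀ x ∈ centralizer ({y1} : Set G), ∀ d ∈ D0, x * d * x⁻¹ ∈ D0 := by
    intro x hx d hd
    have hxy : g⁻¹ * x * g ∈ centralizer ({y} : Set G) := by
      refine mem_centralizer_singleton_iff.2 ?_
      have hx' := mem_centralizer_singleton_iff.1 hx
      calc g⁻¹ * x * g * y = g⁻¹ * (x * y1) * g := by rw [hy1]; group
        _ = g⁻¹ * (y1 * x) * g := by rw [hx']
        _ = y * (g⁻¹ * x * g) := by rw [hy1]; group
    have hDC : D ≤ centralizer ({y} : Set G) := fun u hu => by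
      refine mem_centralizer_singleton_iff.2 ?_
      obtain ⟨u', hu', e1⟩ : ∃ u', u' ∈ D0 ∧ u' = g * u * g⁻¹ := ⟨_, hmemD u hu, rfl⟩
      obtain ⟨v', hv', e2⟩ : ∃ v', v' ∈ D0 ∧ v' = g * y * g⁻¹ := ⟨_, hmemD y hyD, rfl⟩
      obtain ⟨a, b, ha⟩ := hnD _ hu'
      obtain ⟨c, d, hc⟩ := hnD _ hv'
      have hcm : Commute u' v' := by
        rw [ha, hc]
        exact ((((Commute.refl _).pow_pow _ _).mul_right (hcomm.pow_pow _ _)).mul_left
          ((hcomm.symm.pow_pow _ _).mul_right ((Commute.refl _).pow_pow _ _)))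
      calc u * y = g⁻¹ * (u' * v') * g := by rw [e1, e2]; group
        _ = g⁻¹ * (v' * u') * g := by rw [hcm.eq]
        _ = y * u := by rw [e1, e2]; group
    have hd' := hmemD' d hd
    have h1 := hyn.conj_mem ⟨_, hDC hd'⟩ (Subgroup.mem_subgroupOf.2 hd') ⟨_, hxy⟩
    have h2 := hmemD _ (Subgroup.mem_subgroupOf.1 h1)
    simp only [Subgroup.coe_mul, Subgroup.coe_inv] at h2
    rwa [show g * (g⁻¹ * x * g * (g⁻¹ * d * g) * (g⁻¹ * x * g)⁻¹) * g⁻¹ = x * d * x⁻¹ by group] at h2
  -- the transported properties of a conjugate under `T0`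
  set t := φ T0 with ht
  have htn : ∀ i j : Fin 3, t * n i.val j.val * t⁻¹ = n (2 * i.val) j.val := fun i j => by
    simp only [n, ← map_pow, ← map_mul, ht, ← map_inv, T0_conj]
  have hinv : ∀ i j : ℕ, (n i j)⁻¹ = n (2 * i) (2 * j) := fun i j => by
    refine inv_eq_of_mul_eq_one_right ?_
    simp only [n]
    rw [(hcomm.symm.pow_pow j (2 * i)).mul_mul_mul_comm, ← pow_add, ← pow_add,
      show i + 2 * i = 3 * i by ring, show j + 2 * j = 3 * j by ring, pow_mul, pow_mul, hz3, hw3, one_pow,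
      one_pow, one_mul]
  obtain ⟨i, j, hij⟩ := hnD y1 (hmemD y hyD)
  have hny : ¬ HasFive y1 := not_five hy18
  have hj : j.val ≠ 0 := by
    intro hj
    rcases (show i.val = 0 ∨ i.val = 1 ∨ i.val = 2 by omega) with hi | hi | hi
    · refine hny ⟨φ F5, by rw [orderOf_injective φ inj, F5_facts.1], ?_⟩
      rw [hij]; simp [n, hi, hj]
    · exact hny (by rw [hij]; simpa [n, hi, hj] using hfive)
    · refine hny ?_
      rw [hij, show n i.val j.val = (φ Z0)⁻¹ by
        simp only [n, hi, hj, pow_zero, mul_one]; exact eq_inv_of_mul_eq_one_left (by rw [← pow_succ, hz3])]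
      exact hfive.inv
  have hdiag : i.val ≠ 0 := by
    intro hi
    have hw5 : ¬ HasFive (φ W0) := by
      intro h
      rcases (show j.val = 1 ∨ j.val = 2 by omega) with e | e
      · exact hny (by rw [hij]; simpa [n, hi, e] using h)
      · refine hny ?_
        rw [hij, show n i.val j.val = (φ W0)⁻¹ by
          simp only [n, hi, e, pow_zero, one_mul]; exact eq_inv_of_mul_eq_one_left (by rw [← pow_succ, hw3])]
        exact h.inv
    obtain ⟨a, b, hab⟩ := hnD _ (hqD _ hZD)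
    have h5 : HasFive (n a.val b.val) := hab ▸ hfive.conj q
    have hb' : b.val ≠ 0 := by
      intro hb'
      rcases (show a.val = 0 ∨ a.val = 1 ∨ a.val = 2 by omega) with e | e | e
      · simp only [n, e, hb', pow_zero, mul_one] at hab
        exact hz1 (by
          have hz0 : φ Z0 = 1 := conj_eq_one_iff.1 hab
          have hb0 : z ∈ zpowers (φ Z0) := hZ ▸ mem_zpowers z
          rwa [hz0, zpowers_one_eq_bot, mem_bot] at hb0)
      · exact hnotZ 1 (Or.inl rfl) (by simpa [n, e, hb'] using hab)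
      · exact hnotZ 2 (Or.inr rfl) (by simpa [n, e, hb'] using hab)
    have ha' : a.val ≠ 0 := by
      intro e
      rcases (show b.val = 1 ∨ b.val = 2 by omega) with e' | e'
      · exact hw5 (by simpa [n, e, e'] using h5)
      · refine hw5 ?_
        have : (n a.val b.val)⁻¹ = φ W0 := by
          rw [hinv, e, e']; simp only [n, mul_zero, pow_zero, one_mul]
          rw [show 2 * 2 = 3 + 1 from rfl, pow_succ, hw3, one_mul]
        exact this ▸ h5.inv
    -- all diagonal elements have type five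
    have hdiag5 : ∀ c d : Fin 3, c.val ≠ 0 → d.val ≠ 0 → HasFive (n c.val d.val) := by
      have hm : ∀ k l : ℕ, n (k + 3) l = n k l ∧ n k (l + 3) = n k l := fun k l => by
        simp only [n]; rw [pow_add, hz3, mul_one, pow_add, hw3, mul_one]; exact ⟨rfl, rfl⟩
      intro c d hc hd
      have t1 := (htn a b) ▸ h5.conj t
      have t2 := (hinv a.val b.val) ▸ h5.inv
      have t3 := (hinv (2 * a.val) b.val) ▸ t1.inv
      rcases (show a.val = 1 ∨ a.val = 2 by omega) with ea | ea <;>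
        rcases (show b.val = 1 ∨ b.val = 2 by omega) with eb | eb <;>
        rcases (show c.val = 1 ∨ c.val = 2 by omega) with ec | ec <;>
        rcases (show d.val = 1 ∨ d.val = 2 by omega) with ed | ed <;>
        rw [ec, ed] <;> rw [ea, eb] at h5 t1 t2 t3 <;>
        simp only [Nat.reduceMul, show (4 : ℕ) = 1 + 3 from rfl, show (8 : ℕ) = 5 + 3 from rfl,
          show (5 : ℕ) = 2 + 3 from rfl, (hm _ _).1, (hm _ _).2] at h5 t1 t2 t3 <;>
        assumption
    obtain ⟨c, d, hcd⟩ := hnD _ (hqD _ hWD)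
    have hw' : ¬ HasFive (n c.val d.val) := by
      intro h
      refine hw5 ?_
      have := (hcd ▸ h : HasFive (q * φ W0 * q⁻¹)).conj q⁻¹
      rwa [show q⁻¹ * (q * φ W0 * q⁻¹) * q⁻¹⁻¹ = φ W0 by group] at this
    rcases (show c.val = 0 ∨ c.val ≠ 0 by omega) with ec | ec
    · rcases (show d.val = 0 ∨ d.val = 1 ∨ d.val = 2 by omega) with ed | ed | ed
      · simp only [n, ec, ed, pow_zero, mul_one] at hcd
        have := congrArg (fun u : PP => u.1.2) (inj ((conj_eq_one_iff.1 hcd).trans (map_one φ).symm))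
        simp [W0, el] at this
        exact absurd this (by decide)
      · exact hnotW 1 (Or.inl rfl) (by simpa [n, ec, ed] using hcd)
      · exact hnotW 2 (Or.inr rfl) (by simpa [n, ec, ed] using hcd)
    · rcases (show d.val = 0 ∨ d.val ≠ 0 by omega) with ed | ed
      · refine hw' ?_
        rcases (show c.val = 1 ∨ c.val = 2 by omega) with e | e
        · simpa [n, e, ed] using hfive
        · rw [show n c.val d.val = (φ Z0)⁻¹ by
            simp only [n, e, ed, pow_zero, mul_one]; exact eq_inv_of_mul_eq_one_left (by rw [← pow_succ, hz3])]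
          exact hfive.inv
      · exact hw' (hdiag5 c d ec ed)
  -- now `zw` is of the type of `y`
  have hY : ∃ x : G, (n 1 1 = x * y1 * x⁻¹ ∨ n 1 1 = x * y1⁻¹ * x⁻¹) ∧ ∀ d ∈ D0, x * d * x⁻¹ ∈ D0 ∧ x⁻¹ * d * x ∈ D0 := by
    have htD : ∀ d ∈ D0, t * d * t⁻¹ ∈ D0 ∧ t⁻¹ * d * t ∈ D0 := by
      intro d hd
      have htt : t⁻¹ = t := inv_eq_of_mul_eq_one_right (by rw [ht, ← map_mul, show T0 * T0 = 1 from ext_PP (by decide) (by decide), map_one])
      have h1 : t * d * t⁻¹ ∈ D0 := by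
        obtain ⟨a, b, rfl⟩ := hnD d hd
        rw [htn]
        exact mul_mem (pow_mem hZD _) (pow_mem hWD _)
      refine ⟨h1, ?_⟩
      rw [htt] at h1 ⊢; exact h1
    rcases (show i.val = 1 ∨ i.val = 2 by omega) with ei | ei <;>
      rcases (show j.val = 1 ∨ j.val = 2 by omega) with ej | ej
    · exact ⟨1, Or.inl (by rw [hij, ei, ej]; group), fun d hd => by simpa using hd⟩
    · refine ⟨t, Or.inr ?_, htD⟩
      rw [← conj_inv, hij, htn, hinv, ei, ej]
      simp only [n]; rw [show 2 * (2 * 1) = 1 + 3 from rfl, pow_add, pow_add, hz3, hw3]; simp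
    · refine ⟨t, Or.inl ?_, htD⟩
      rw [hij, htn, ei, ej]
      simp only [n]; rw [show 2 * 2 = 1 + 3 from rfl, pow_add, hz3]; simp
    · refine ⟨1, Or.inr ?_, fun d hd => by simpa using hd⟩
      rw [hij, hinv, ei, ej]
      simp only [n]; rw [show 2 * 2 = 1 + 3 from rfl, pow_add, pow_add, hz3, hw3]; simp
  obtain ⟨x, hx, hxD⟩ := hY
  have hC : centralizer ({n 1 1} : Set G) = (centralizer ({y1} : Set G)).map (MulAut.conj x).toMonoidHom := by
    ext u
    constructor
    · intro hu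
      refine ⟨x⁻¹ * u * x, mem_centralizer_singleton_iff.2 ?_, by simp [mul_assoc]⟩
      have hu' : Commute u (n 1 1) := mem_centralizer_singleton_iff.1 hu
      have hh : Commute u (x * y1 * x⁻¹) := by
        rcases hx with e | e
        · exact e ▸ hu'
        · have := (e ▸ hu' : Commute u (x * y1⁻¹ * x⁻¹)).inv_right
          rwa [conj_inv, inv_inv] at this
      have := hh.map (MulAut.conj x⁻¹).toMonoidHom
      simp only [MulEquiv.coe_toMonoidHom, MulAut.conj_apply, inv_inv] at this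
      rwa [show x⁻¹ * (x * y1 * x⁻¹) * x = y1 by group] at this
    · rintro ⟨v, hv, rfl⟩
      refine mem_centralizer_singleton_iff.2 ?_
      have hv' : Commute v y1 := mem_centralizer_singleton_iff.1 hv
      rcases hx with e | e <;> rw [e]
      · exact hv'.map (MulAut.conj x).toMonoidHom
      · exact hv'.inv_right.map (MulAut.conj x).toMonoidHom
  have h18 : Nat.card (centralizer ({n 1 1} : Set G)) = 18 := by
    rw [hC, card_map_of_injective (MulAut.conj x).injective, hy18]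
  have hnorm : ∀ u ∈ centralizer ({n 1 1} : Set G), ∀ d ∈ D0, u * d * u⁻¹ ∈ D0 := by
    intro u hu d hd
    rw [hC] at hu
    obtain ⟨v, hv, rfl⟩ := hu
    have := (hxD _ (hy1n v hv _ (hxD d hd).2)).1
    show x * v * x⁻¹ * d * (x * v * x⁻¹)⁻¹ ∈ D0
    rwa [show x * v * x⁻¹ * d * (x * v * x⁻¹)⁻¹ = x * (v * (x⁻¹ * d * x) * v⁻¹) * x⁻¹ by group]
  have hn11 : n 1 1 = φ Z0 * φ W0 := by simp [n]
  -- the involution
  haveI : Fact (Nat.Prime 2) := ⟨Nat.prime_two⟩
  obtain ⟨b, hb⟩ := exists_prime_orderOf_dvd_card' (G := centralizer ({n 1 1} : Set G)) 2 (by rw [h18]; norm_num)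
  have hb2 : (b : G) * b = 1 := by
    have h := pow_orderOf_eq_one b
    rw [hb, pow_two] at h
    exact congrArg Subtype.val h
  have hbinv : (b : G)⁻¹ = b := inv_eq_of_mul_eq_one_right hb2
  have h15 : ¬ HasFive (n 1 1) := not_five h18
  obtain ⟨c, d, hcd⟩ := hnD _ (hnorm b b.2 _ hZD)
  have hbc : Commute (b : G) (n 1 1) := mem_centralizer_singleton_iff.1 b.2
  have h5d : ∀ c d : Fin 3, c.val ≠ 0 → d.val ≠ 0 → ¬ HasFive (n c.val d.val) := by
    have hm : ∀ k l : ℕ, n (k + 3) l = n k l ∧ n k (l + 3) = n k l := fun k l => by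
      simp only [n]; rw [pow_add, hz3, mul_one, pow_add, hw3, mul_one]; exact ⟨rfl, rfl⟩
    intro c d hc hd h
    have t1 := (htn c d) ▸ h.conj t
    have t2 := (hinv c.val d.val) ▸ h.inv
    have t3 := (hinv (2 * c.val) d.val) ▸ t1.inv
    rcases (show c.val = 1 ∨ c.val = 2 by omega) with ec | ec <;>
      rcases (show d.val = 1 ∨ d.val = 2 by omega) with ed | ed <;>
      rw [ec, ed] at h t1 t2 t3 <;>
      simp only [Nat.reduceMul, show (4 : ℕ) = 1 + 3 from rfl, show (8 : ℕ) = 5 + 3 from rfl,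
        show (5 : ℕ) = 2 + 3 from rfl, (hm _ _).1, (hm _ _).2] at h t1 t2 t3 <;>
      first | exact h15 h | exact h15 t1 | exact h15 t2 | exact h15 t3
  have hbw : (b : G) * φ W0 * (b : G)⁻¹ = ((b : G) * φ Z0 * (b : G)⁻¹)⁻¹ * n 1 1 := by
    have e : (b : G) * n 1 1 * (b : G)⁻¹ = n 1 1 := by rw [hbc.eq, mul_inv_cancel_right]
    obtain ⟨v, hv⟩ : ∃ v : G, v = (b : G) := ⟨_, rfl⟩
    rw [← hv] at e ⊢
    calc v * φ W0 * v⁻¹ = (v * φ Z0 * v⁻¹)⁻¹ * (v * n 1 1 * v⁻¹) := by
          rw [hn11]; group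
      _ = _ := by rw [e]
  have hw5 : HasFive (φ W0) := by
    obtain ⟨a, b, hab⟩ := hnD _ (hqD _ hZD)
    have h5 : HasFive (n a.val b.val) := hab ▸ hfive.conj q
    rcases (show b.val = 0 ∨ b.val = 1 ∨ b.val = 2 by omega) with eb | eb | eb
    · exfalso
      rcases (show a.val = 0 ∨ a.val = 1 ∨ a.val = 2 by omega) with e | e | e
      · simp only [n, e, eb, pow_zero, mul_one] at hab
        have hz0 : φ Z0 = 1 := conj_eq_one_iff.1 hab
        have hb0 : z ∈ zpowers (φ Z0) := hZ ▸ mem_zpowers z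
        rw [hz0, zpowers_one_eq_bot, mem_bot] at hb0
        exact hz1 hb0
      · exact hnotZ 1 (Or.inl rfl) (by simpa [n, e, eb] using hab)
      · exact hnotZ 2 (Or.inr rfl) (by simpa [n, e, eb] using hab)
    · rcases (show a.val = 0 ∨ a.val ≠ 0 by omega) with e | e
      · simpa [n, e, eb] using h5
      · exact absurd h5 (h5d a b e (by omega))
    · rcases (show a.val = 0 ∨ a.val ≠ 0 by omega) with e | e
      · have : (n a.val b.val)⁻¹ = φ W0 := by
          rw [hinv, e, eb]; simp only [n, mul_zero, pow_zero, one_mul]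
          rw [show 2 * 2 = 3 + 1 from rfl, pow_succ, hw3, one_mul]
        exact this ▸ h5.inv
      · exact absurd h5 (h5d a b e (by omega))
  have hbz : (b : G) * φ Z0 * (b : G)⁻¹ = φ W0 := by
    have hd5 : HasFive (n c.val d.val) := hcd ▸ hfive.conj _
    have hw5' := hw5.conj (b : G)
    rw [hcd] at hbw
    rw [hbw, hinv] at hw5'
    rcases (show c.val = 0 ∨ c.val ≠ 0 by omega) with ec | ec
    · rcases (show d.val = 0 ∨ d.val = 1 ∨ d.val = 2 by omega) with ed | ed | ed
      · simp only [n, ec, ed, pow_zero, mul_one] at hcd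
        have hz0 : φ Z0 = 1 := conj_eq_one_iff.1 hcd
        have hb0 : z ∈ zpowers (φ Z0) := hZ ▸ mem_zpowers z
        rw [hz0, zpowers_one_eq_bot, mem_bot] at hb0
        exact absurd hb0 hz1
      · simpa [n, ec, ed] using hcd
      · exfalso
        refine h5d 1 2 (by decide) (by decide) ?_
        have e : n 0 (2 * 2) * n 1 1 = n 1 2 := by
          simp only [n]; rw [show 2 * 2 = 1 + 3 from rfl, pow_add, hw3, pow_zero, one_mul, mul_one, pow_one, pow_one,
            pow_two, ← mul_assoc, hcomm.symm.eq, mul_assoc]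
        rw [ec, ed, e] at hw5'; exact hw5'
    · rcases (show d.val = 0 ∨ d.val ≠ 0 by omega) with ed | ed
      · exfalso
        rcases (show c.val = 1 ∨ c.val = 2 by omega) with e | e
        · have hb0 : (b : G) * φ Z0 * (b : G)⁻¹ = φ Z0 := by simpa [n, e, ed] using hcd
          have hbw' : (b : G) * φ W0 * (b : G)⁻¹ = φ W0 := by
            rw [hbw, e, ed, hn11]; simp [n]
          obtain ⟨u, hu⟩ := hN _ (Or.inl hb0)
          have hu0 : u ∈ C0 := by
            rw [hC0, mem_centralizer_iff]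
            rintro v (rfl | rfl)
            · exact inj (by rw [map_mul, map_mul, hu]; exact (mul_inv_eq_iff_eq_mul.1 hb0).symm)
            · exact inj (by rw [map_mul, map_mul, hu]; exact (mul_inv_eq_iff_eq_mul.1 hbw').symm)
          have hd := orderOf_dvd_natCard (⟨(b : G), ⟨u, hu0, hu⟩⟩ : D0)
          rw [← Subgroup.orderOf_coe, show ((⟨(b : G), ⟨u, hu0, hu⟩⟩ : D0) : G) = (b : G) from rfl,
            Subgroup.orderOf_coe, hb, hcard0] at hd
          norm_num at hd
        · refine h5d 2 1 (by decide) (by decide) ?_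
          have e' : n (2 * 2) (2 * 0) * n 1 1 = n 2 1 := by
            simp only [n]; rw [show 2 * 2 = 1 + 3 from rfl, pow_add, hz3]
            simp [pow_two, mul_assoc]
          rw [e, ed, e'] at hw5'; exact hw5'
      · exact absurd hd5 (h5d c d ec ed)
  refine ⟨⟨φ, inj, hN, b, hb2, by rw [← hbz, hbinv], hn11 ▸ h18, fun u hu p hp => ?_, h27⟩⟩
  obtain ⟨p', hp', e⟩ := hnorm u (hn11 ▸ hu) (φ p) ⟨p, hp, rfl⟩
  exact ⟨p', hp', e.symm⟩

end Cfsg.Agent.Lead.AltEightLocal
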